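import Mathlib.LinearAlgebra.Projectivization.Cardinality
import Mathlib.LinearAlgebra.Matrix.SpecialLinearGroup
import Mathlib.LinearAlgebra.Matrix.ToLin
import Mathlib.Data.Matrix.Mul
import Mathlib.LinearAlgebra.Matrix.NonsingularInverse
import Mathlib.Algebra.CharP.Two
import Mathlib.Algebra.Group.Subgroup.Finite
import Mathlib.Tactic.LinearCombination
import Mathlib.Tactic.FinCases

/-!
# The projective plane over a field and its elations
-/

set_option autoImplicit false

namespace CfsgLib.CIT.Natural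

open Matrix
open scoped LinearAlgebra.Projectivization

variable {F : Type*} [Field F]

/-- The action of a matrix of determinant one on the projective plane. -/
def projFun (g : SpecialLinearGroup (Fin 3) F) : ℙ F (Fin 3 → F) → ℙ F (Fin 3 → F) :=
  Projectivization.map (g.1.mulVecLin) fun v w h => by
    have hu : IsUnit g.1 := by
      rw [Matrix.isUnit_iff_isUnit_det, g.2]; exact isUnit_one
    exact Matrix.mulVec_injective_iff_isUnit.2 hu h

theorem projFun_mk (g : SpecialLinearGroup (Fin 3) F) (v : Fin 3 → F) (hv : v ≠ 0)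
    (hv' : g.1 *ᵥ v ≠ 0) : projFun g (Projectivization.mk F v hv) = Projectivization.mk F (g.1 *ᵥ v) hv' := by
  rfl

theorem mulVec_ne_zero (g : SpecialLinearGroup (Fin 3) F) {v : Fin 3 → F} (hv : v ≠ 0) : g.1 *ᵥ v ≠ 0 := by
  intro h
  apply hv
  have : (g⁻¹ * g).1 *ᵥ v = 0 := by
    rw [SpecialLinearGroup.coe_mul, ← Matrix.mulVec_mulVec, h, Matrix.mulVec_zero]
  rwa [inv_mul_cancel, SpecialLinearGroup.coe_one, Matrix.one_mulVec] at this

/-- The permutation representation of `SL₃(F)` on the projective plane. -/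
noncomputable def projPerm : SpecialLinearGroup (Fin 3) F →* Equiv.Perm (ℙ F (Fin 3 → F)) :=
  letI act : MulAction (SpecialLinearGroup (Fin 3) F) (ℙ F (Fin 3 → F)) :=
    { smul := projFun
      one_smul := fun x => by
        induction x using Projectivization.ind with
        | h v hv =>
          show projFun 1 _ = _
          rw [projFun_mk _ _ _ (mulVec_ne_zero _ hv)]
          simp
      mul_smul := fun g h x => by
        induction x using Projectivization.ind with
        | h v hv =>
          show projFun (g * h) _ = projFun g (projFun h _)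
          rw [projFun_mk h v hv (mulVec_ne_zero _ hv),
            projFun_mk g _ _ (mulVec_ne_zero _ (mulVec_ne_zero _ hv)),
            projFun_mk _ _ _ (mulVec_ne_zero _ hv)]
          simp [Matrix.mulVec_mulVec] }
  MulAction.toPermHom _ _

theorem projPerm_mk (g : SpecialLinearGroup (Fin 3) F) (v : Fin 3 → F) (hv : v ≠ 0) :
    projPerm g (Projectivization.mk F v hv) = Projectivization.mk F (g.1 *ᵥ v) (mulVec_ne_zero g hv) := rfl

theorem center_le_ker : Subgroup.center (SpecialLinearGroup (Fin 3) F) ≤ (projPerm (F := F)).ker := by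
  intro g hg
  obtain ⟨r, -, hr⟩ := SpecialLinearGroup.mem_center_iff.1 hg
  rw [MonoidHom.mem_ker]
  refine Equiv.ext fun x => ?_
  induction x using Projectivization.ind with
  | h v hv =>
    rw [projPerm_mk]
    exact (Projectivization.mk_eq_mk_iff' F _ _ _ _).2 ⟨r, by rw [← hr]; simp⟩

/-- `x` lies on the line with coordinates `f`. -/
def On (f : Fin 3 → F) (x : ℙ F (Fin 3 → F)) : Prop := f ⬝ᵥ x.rep = 0

theorem on_mk (f : Fin 3 → F) (v : Fin 3 → F) (hv : v ≠ 0) :
    On f (Projectivization.mk F v hv) ↔ f ⬝ᵥ v = 0 := by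
  obtain ⟨a, ha⟩ := Projectivization.exists_smul_eq_mk_rep F v hv
  rw [On, ← ha, Units.smul_def, dotProduct_smul, smul_eq_mul, mul_eq_zero, or_iff_right a.ne_zero]

theorem on_projPerm (f : Fin 3 → F) (g : SpecialLinearGroup (Fin 3) F) (x : ℙ F (Fin 3 → F)) :
    On f (projPerm g x) ↔ On (f ᵥ* g.1) x := by
  induction x using Projectivization.ind with
  | h v hv => rw [projPerm_mk, on_mk, on_mk, dotProduct_mulVec]

variable [CharP F 2]

/-- A matrix of determinant one with prescribed third row. -/
theorem exists_row (f : Fin 3 → F) (hf : f ≠ 0) :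
    ∃ g : SpecialLinearGroup (Fin 3) F, (Pi.single 2 1 : Fin 3 → F) ᵥ* g.1 = f := by
  have hs : (-1 : F) = 1 := CharTwo.neg_eq 1
  by_cases h2 : f 2 ≠ 0
  · refine ⟨⟨!![(f 2)⁻¹, 0, 0; 0, 1, 0; f 0, f 1, f 2], by simp [det_fin_three, h2]⟩, ?_⟩
    ext i; fin_cases i <;> simp
  push Not at h2
  by_cases h1 : f 1 ≠ 0
  · refine ⟨⟨!![1, 0, 0; 0, 0, (f 1)⁻¹; f 0, f 1, f 2], by
      simp [det_fin_three, h1, h2, CharTwo.neg_eq]⟩, ?_⟩
    ext i; fin_cases i <;> simp
  push Not at h1
  have h0 : f 0 ≠ 0 := fun h0 => hf (by ext i; fin_cases i <;> simp [h0, h1, h2])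
  refine ⟨⟨!![0, 1, 0; 0, 0, (f 0)⁻¹; f 0, f 1, f 2], by simp [det_fin_three, h0, h1, h2]⟩, ?_⟩
  ext i; fin_cases i <;> simp

/-- An affine map with at most … collinearity preserving, fixing all directions and no point is a translation. -/
theorem affine_translation (g : F × F → F × F)
    (hdir : ∀ v w, (g v + g w).1 * (v + w).2 + (g v + g w).2 * (v + w).1 = 0)
    (hfree : ∀ v, g v ≠ v) : ∃ t : F × F, ∀ v, g v = v + t := by
  have s2 : (2 : F) = 0 := CharTwo.two_eq_zero
  set t := g 0 with ht
  set h : F × F → F × F := fun v => g v + t with hh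
  have hd : ∀ v w, (h v + h w).1 * (v + w).2 + (h v + h w).2 * (v + w).1 = 0 := by
    intro v w
    have := hdir v w
    simp only [hh, Prod.fst_add, Prod.snd_add] at this ⊢
    linear_combination this + (t.1 * (v.2 + w.2) + t.2 * (v.1 + w.1)) * s2
  have h00 : h 0 = 0 := by simp only [hh, ← ht]; ext <;> exact CharTwo.add_self_eq_zero _
  have e1 := hd (1, 0) 0
  have e2 := hd (0, 1) 0
  simp [h00] at e1 e2
  set l := (h (1, 0)).1 with hl
  have e12 := hd (1, 0) (0, 1)
  simp [e1, e2, ← hl] at e12
  have hlin : ∀ v : F × F, h v = (l * v.1, l * v.2) := by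
    rintro ⟨a, b⟩
    have a1 := hd (a, b) (1, 0)
    have a2 := hd (a, b) (0, 1)
    have a0 := hd (a, b) 0
    simp [e1, e2, h00, ← hl] at a1 a2 a0
    refine Prod.ext ?_ ?_
    · show (h (a, b)).1 = l * a
      linear_combination a2 + a0 + (-(h (a, b)).1 * b - (h (a, b)).2 * a - l * a) * s2
        + (a) * e12 + (-(a * (h (0, 1)).2)) * s2
    · show (h (a, b)).2 = l * b
      linear_combination a1 + a0 + (-(h (a, b)).1 * b - (h (a, b)).2 * a - l * b) * s2
  have hg : ∀ v : F × F, g v = (l * v.1 + t.1, l * v.2 + t.2) := by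
    intro v
    have := hlin v
    simp only [hh] at this
    have p1 := congrArg Prod.fst this
    have p2 := congrArg Prod.snd this
    simp at p1 p2
    refine Prod.ext ?_ ?_
    · show (g v).1 = _; linear_combination p1 - t.1 * s2
    · show (g v).2 = _; linear_combination p2 - t.2 * s2
  have hl1 : l = 1 := by
    by_contra hl1
    have hne : l + 1 ≠ 0 := fun h => hl1 (CharTwo.add_eq_zero.1 h)
    apply hfree (t.1 / (l + 1), t.2 / (l + 1))
    rw [hg]
    refine Prod.ext ?_ ?_
    · show l * (t.1 / (l + 1)) + t.1 = t.1 / (l + 1)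
      field_simp; linear_combination (t.1 * l) * s2
    · show l * (t.2 / (l + 1)) + t.2 = t.2 / (l + 1)
      field_simp; linear_combination (t.2 * l) * s2
  exact ⟨t, fun v => by rw [hg, hl1]; ext <;> simp⟩

end CfsgLib.CIT.Natural
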