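import Mathlib.Algebra.Group.Subgroup.Basic
import Mathlib.Algebra.CharP.Two
import Mathlib.Data.Fintype.Card
import Mathlib.SetTheory.Cardinal.Finite
import Mathlib.Data.Fin.VecNotation
import Mathlib.GroupTheory.Index
import Mathlib.Tactic.LinearCombination
import Mathlib.Tactic.FinCases

/-!
# Spreads of an elementary abelian group of order sixteen
-/

set_option autoImplicit false

namespace CfsgLib.CIT.Natural

variable {E : Type*} [CommGroup E] [Finite E]

/-- The five directions of the affine plane over the field of order four. -/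
def dirs {F : Type*} [Field F] (μ : F) : Fin 5 → F × F :=
  ![(1, 0), (0, 1), (1, 1), (1, μ), (1, μ * μ)]

theorem exists_graph (H : Fin 5 → Subgroup E) (hE : Nat.card E = 16) (hcard : ∀ i, Nat.card (H i) = 4)
    (hdis : ∀ i j, i ≠ j → ∀ x, x ∈ H i → x ∈ H j → x = 1) (i : Fin 5) (h0 : i ≠ 0) (hi1 : i ≠ 1) :
    ∃ θ : H 0 →* H 1, ∀ a : H 0, (a : E) * (θ a : E) ∈ H i := by
  have hinj : Function.Injective fun p : H 0 × H 1 => (p.1 : E) * (p.2 : E) := by
    rintro ⟨a, b⟩ ⟨a', b'⟩ hab
    simp only at hab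
    have h : ((a'⁻¹ * a : H 0) : E) = ((b' * b⁻¹ : H 1) : E) := by
      push_cast
      rw [eq_mul_inv_iff_mul_eq, mul_assoc, hab, inv_mul_cancel_left]
    have h1' := hdis 0 1 (by decide) _ (a'⁻¹ * a : H 0).2 (h ▸ (b' * b⁻¹ : H 1).2)
    have ha : (a'⁻¹ * a : H 0) = 1 := Subtype.ext h1'
    have hb : (b' * b⁻¹ : H 1) = 1 := Subtype.ext (h ▸ h1')
    rw [inv_mul_eq_one] at ha
    rw [mul_inv_eq_one] at hb
    rw [ha, hb]
  have hbij := hinj.bijective_of_nat_card_le (by rw [Nat.card_prod, hcard, hcard, hE])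
  choose c hc using fun x : H i => hbij.2 (x : E)
  simp only at hc
  have hfst : Function.Injective fun x : H i => (c x).1 := by
    intro x y hxy
    simp only at hxy
    have h : ((x / y : H i) : E) = ((c x).2 / (c y).2 : H 1) := by
      push_cast
      rw [← hc x, ← hc y, hxy]
      simp
    have := hdis i 1 hi1 _ (x / y : H i).2 (h ▸ ((c x).2 / (c y).2 : H 1).2)
    exact div_eq_one.1 (Subtype.ext this)
  have hfb := hfst.bijective_of_nat_card_le (by rw [hcard, hcard])
  choose s hs using hfb.2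
  refine ⟨MonoidHom.mk' (fun a => (c (s a)).2) fun a b => ?_, fun a => ?_⟩
  · have h1 := hc (s (a * b))
    have h2 := hc (s a)
    have h3 := hc (s b)
    simp only [hs] at h1 h2 h3
    have hmem : ((c (s (a * b))).2 : E) / ((c (s a)).2 * (c (s b)).2 : E) ∈ H i := by
      have h4 : ((s (a * b) / (s a * s b) : H i) : E) =
          ((c (s (a * b))).2 : E) / ((c (s a)).2 * (c (s b)).2 : E) := by
        push_cast
        rw [← h1, ← h2, ← h3, Subgroup.coe_mul, mul_mul_mul_comm]
        exact mul_div_mul_left_eq_div _ _ _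
      exact h4 ▸ (s (a * b) / (s a * s b) : H i).2
    exact Subtype.ext (div_eq_one.1 (hdis i 1 hi1 _ hmem
      (div_mem (c _).2.2 (mul_mem (c _).2.2 (c _).2.2))))
  · have h2 := hc (s a)
    simp only [hs] at h2
    simpa [h2] using (s a).2

/-- Five disjoint subgroups of order four in an elementary abelian group of order sixteen form the
Desarguesian spread. -/
theorem exists_coords {F : Type*} [Field F] [CharP F 2] (H : Fin 5 → Subgroup E)
    (hE : Nat.card E = 16) (hcard : ∀ i, Nat.card (H i) = 4) (hsq : ∀ x : E, x * x = 1)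
    (hdis : ∀ i j, i ≠ j → ∀ x, x ∈ H i → x ∈ H j → x = 1) {μ : F} (hμ : μ * μ + μ + 1 = 0)
    (h0 : μ ≠ 0) (h1 : μ ≠ 1) (hall : ∀ x : F, x = 0 ∨ x = 1 ∨ x = μ ∨ x = μ * μ) :
    ∃ e : F × F → E, Function.Bijective e ∧ (∀ v w, e (v + w) = e v * e w) ∧
      ∀ (i : Fin 5) (x : F), e (x • dirs μ i) ∈ H i := by
  classical
  obtain ⟨t2, ht2⟩ := exists_graph H hE hcard hdis 2 (by decide) (by decide)
  obtain ⟨t3, ht3⟩ := exists_graph H hE hcard hdis 3 (by decide) (by decide)
  obtain ⟨t4, ht4⟩ := exists_graph H hE hcard hdis 4 (by decide) (by decide)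
  have hker : ∀ (j : Fin 5), j ≠ 0 → ∀ (t : H 0 →* H 1), (∀ a : H 0, (a : E) * (t a : E) ∈ H j) →
      Function.Injective t := by
    intro j hj t ht
    rw [injective_iff_map_eq_one]
    intro a ha
    have := ht a
    rw [ha, Subgroup.coe_one, mul_one] at this
    exact Subtype.ext (hdis 0 j (Ne.symm hj) _ a.2 this)
  have hb2 := (hker 2 (by decide) t2 ht2).bijective_of_nat_card_le (by rw [hcard, hcard])
  set e2 := MulEquiv.ofBijective t2 hb2 with he2
  set φ : H 0 →* H 0 := e2.symm.toMonoidHom.comp t3 with hφ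
  set φ' : H 0 →* H 0 := e2.symm.toMonoidHom.comp t4 with hφ'
  have hφe : ∀ a, t2 (φ a) = t3 a := fun a => e2.apply_symm_apply _
  have hφe' : ∀ a, t2 (φ' a) = t4 a := fun a => e2.apply_symm_apply _
  have hne : ∀ a : H 0, a ≠ 1 → φ a ≠ a ∧ φ' a ≠ a ∧ φ a ≠ φ' a ∧ φ a ≠ 1 ∧ φ' a ≠ 1 := by
    intro a ha
    have hmem : ∀ j k : Fin 5, j ≠ k → ∀ u : E, u ∈ H 1 → (a : E) * u ∈ H j → (a : E) * u ∈ H k → False := by
      intro j k hjk u hu hj hk
      have h1 := hdis j k hjk _ hj hk
      have hau : (a : E) = u⁻¹ := eq_inv_of_mul_eq_one_left h1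
      exact ha (Subtype.ext (hdis 0 1 (by decide) _ a.2 (hau ▸ inv_mem hu)))
    refine ⟨fun h => ?_, fun h => ?_, fun h => ?_, fun h => ha ?_, fun h => ha ?_⟩
    · exact hmem 2 3 (by decide) (t3 a : E) (t3 a).2 (by rw [← hφe a, h]; exact ht2 a) (ht3 a)
    · exact hmem 2 4 (by decide) (t4 a : E) (t4 a).2 (by rw [← hφe' a, h]; exact ht2 a) (ht4 a)
    · exact hmem 3 4 (by decide) (t3 a : E) (t3 a).2 (ht3 a)
        (by rw [← hφe a, h, hφe' a]; exact ht4 a)
    · exact hker 3 (by decide) t3 ht3 (by rw [← hφe a, h, map_one, map_one])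
    · exact hker 4 (by decide) t4 ht4 (by rw [← hφe' a, h, map_one, map_one])
  obtain ⟨a, ha⟩ : ∃ a : H 0, a ≠ 1 := by
    haveI : Nontrivial (H 0) := Finite.one_lt_card_iff_nontrivial.mp (by rw [hcard]; norm_num)
    exact exists_ne 1
  set b := φ a with hb
  have hb1 : b ≠ 1 := (hne a ha).2.2.2.1
  have hba : b ≠ a := (hne a ha).1
  have hsq0 : ∀ x : H 0, x * x = 1 := fun x => Subtype.ext (hsq x)
  have hcov : ∀ x : H 0, x = 1 ∨ x = a ∨ x = b ∨ x = a * b := by
    haveI := Fintype.ofFinite (H 0)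
    have hab1 : a * b ≠ 1 := fun h => hba.symm (by
      calc a = a * (b * b) := by rw [hsq0, mul_one]
        _ = b := by rw [← mul_assoc, h, one_mul])
    have hs : ({1, a, b, a * b} : Finset (H 0)) = Finset.univ := by
      apply Finset.eq_univ_of_card
      rw [← Nat.card_eq_fintype_card, hcard]
      have e1 : a * b ≠ a := fun h => hb1 (mul_eq_left.1 h)
      have e2 : a * b ≠ b := fun h => ha (mul_eq_right.1 h)
      rw [Finset.card_insert_of_notMem (by simp [Ne.symm ha, Ne.symm hb1, Ne.symm hab1]),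
        Finset.card_insert_of_notMem (by simp [Ne.symm hba, Ne.symm e1]),
        Finset.card_insert_of_notMem (by simp [Ne.symm e2]), Finset.card_singleton]
    intro x
    have hx := Finset.mem_univ x
    rw [← hs] at hx
    simpa using hx
  have hφb : φ b = a * b := by
    obtain ⟨h1, -, -, h4, -⟩ := hne b hb1
    rcases hcov (φ b) with h | h | h | h
    · exact absurd h h4
    · refine absurd ?_ (hne (a * b) (fun h => hba.symm (by
        calc a = a * (b * b) := by rw [hsq0, mul_one]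
          _ = b := by rw [← mul_assoc, h, one_mul]))).1
      rw [map_mul, ← hb, h, mul_comm]
    · exact absurd h h1
    · exact h
  have hφ'a : φ' a = a * b := by
    obtain ⟨-, h2, h3, -, h5⟩ := hne a ha
    rcases hcov (φ' a) with h | h | h | h
    · exact absurd h h5
    · exact absurd h h2
    · exact absurd (hb.symm.trans h.symm) h3
    · exact h
  have hφ'b : φ' b = a := by
    obtain ⟨-, h2, h3, -, h5⟩ := hne b hb1
    rcases hcov (φ' b) with h | h | h | h
    · exact absurd h h5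
    · exact h
    · exact absurd h h2
    · exact absurd (hφb.trans h.symm) h3
  set ψ : F → H 0 := fun x => if x = 0 then 1 else if x = 1 then a else if x = μ then b else a * b
    with hψ
  have hμμ : μ * μ = μ + 1 := by
    linear_combination hμ - (μ + 1) * CharTwo.two_eq_zero (R := F)
  have m0 : μ * μ ≠ 0 := mul_ne_zero h0 h0
  have m1 : μ * μ ≠ 1 := by rw [hμμ]; simpa using h0
  have m2 : μ * μ ≠ μ := by rw [hμμ]; simp
  have p0 : ψ 0 = 1 := by simp [hψ]
  have p1 : ψ 1 = a := by simp [hψ]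
  have pμ : ψ μ = b := by simp [hψ, h0, h1]
  have pμμ : ψ (μ * μ) = a * b := by simp [hψ, m0, m1, m2]
  have s11 : (1 : F) + 1 = 0 := CharTwo.add_self_eq_zero _
  have hψadd : ∀ x y, ψ (x + y) = ψ x * ψ y := by
    have haa := hsq0 a
    have hbb := hsq0 b
    have habab := hsq0 (a * b)
    have t1 : (1 : F) + μ = μ * μ := by rw [hμμ, add_comm]
    have t2 : (1 : F) + μ * μ = μ := by rw [hμμ]; linear_combination s11
    have t3 : μ + μ * μ = 1 := by rw [hμμ]; linear_combination μ * s11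
    have u1 : μ + 1 = μ * μ := hμμ.symm
    have u2 : μ * μ + 1 = μ := by rw [add_comm]; exact t2
    have u3 : μ * μ + μ = 1 := by rw [add_comm]; exact t3
    intro x y
    rcases hall x with hx | hx | hx | hx <;> rcases hall y with hy | hy | hy | hy <;> subst hx <;>
      subst hy <;>
      simp only [zero_add, add_zero, CharTwo.add_self_eq_zero, t1, t2, t3, u1, u2, u3, p0, p1, pμ, pμμ,
        one_mul, mul_one, haa, hbb, habab] <;>
      first
      | rfl
      | exact mul_comm _ _
      | (rw [← mul_assoc, haa, one_mul])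
      | (rw [mul_comm a b, mul_assoc, haa, mul_one])
      | (rw [mul_assoc, hbb, mul_one])
      | (rw [mul_comm a b, ← mul_assoc, hbb, one_mul])
  have hψμ : ∀ x, φ (ψ x) = ψ (μ * x) ∧ φ' (ψ x) = ψ (μ * μ * x) := by
    have c1 : μ * (μ * μ) = 1 := by linear_combination (μ + 1) * hμ - (μ * μ + μ + 1) * s11
    have c2 : μ * μ * μ = 1 := by rw [mul_assoc]; exact c1
    have c3 : μ * μ * (μ * μ) = μ := by rw [← mul_assoc, c2, one_mul]
    intro x
    rcases hall x with hx | hx | hx | hx <;> subst hx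
    · simp [p0]
    · simp [p1, pμ, pμμ, hφ'a, ← hb]
    · simp [pμ, pμμ, hφb, c2, p1, hφ'b]
    · rw [pμμ, c1, c3, p1, pμ]
      exact ⟨by rw [map_mul, ← hb, hφb, mul_comm b, mul_assoc, hsq0, mul_one],
        by rw [map_mul, hφ'a, hφ'b, mul_comm, ← mul_assoc, hsq0, one_mul]⟩
  have hψsurj : Function.Surjective ψ := fun z => by
    rcases hcov z with h | h | h | h
    exacts [⟨0, h ▸ p0⟩, ⟨1, h ▸ p1⟩, ⟨μ, h ▸ pμ⟩, ⟨μ * μ, h ▸ pμμ⟩]
  let e : F × F → E := fun v => (ψ v.1 : E) * (t2 (ψ v.2) : E)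
  have hadd : ∀ v w, e (v + w) = e v * e w := fun v w => by
    simp only [e, Prod.fst_add, Prod.snd_add, hψadd, map_mul, Subgroup.coe_mul]
    exact mul_mul_mul_comm _ _ _ _
  have hsurj : Function.Surjective e := by
    intro z
    have hinj : Function.Injective fun p : H 0 × H 1 => (p.1 : E) * (p.2 : E) := by
      rintro ⟨x, y⟩ ⟨x', y'⟩ h
      simp only at h
      have hh : ((x / x' : H 0) : E) = ((y' / y : H 1) : E) := by
        push_cast
        rw [div_eq_div_iff_mul_eq_mul, h, mul_comm]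
      have h1' := hdis 0 1 (by decide) _ (x / x' : H 0).2 (hh ▸ (y' / y : H 1).2)
      rw [div_eq_one.1 (Subtype.ext h1' : (x / x' : H 0) = 1),
        div_eq_one.1 (Subtype.ext (hh ▸ h1') : (y' / y : H 1) = 1)]
    obtain ⟨⟨x, y⟩, hxy⟩ := (hinj.bijective_of_nat_card_le
      (by rw [Nat.card_prod, hcard, hcard, hE])).2 z
    obtain ⟨x0, rfl⟩ := hψsurj x
    obtain ⟨y0, rfl⟩ := hb2.2 y
    obtain ⟨y1, rfl⟩ := hψsurj y0
    exact ⟨(x0, y1), hxy⟩
  haveI : Fintype F := ⟨{0, 1, μ, μ * μ}, fun x => by simpa using hall x⟩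
  refine ⟨e, hsurj.bijective_of_nat_card_le ?_, hadd, fun i x => ?_⟩
  · rw [Nat.card_prod, hE, Nat.card_eq_fintype_card]
    have : Fintype.card F ≤ 4 := by
      rw [← Finset.card_univ]
      exact le_trans (Finset.card_le_card (fun y _ => by simpa using hall y :
        (Finset.univ : Finset F) ⊆ {0, 1, μ, μ * μ})) Finset.card_le_four
    calc Fintype.card F * Fintype.card F ≤ 4 * 4 := Nat.mul_le_mul this this
      _ = 16 := rfl
  · fin_cases i <;> simp [dirs, e, p0]
    · exact ht2 (ψ x)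
    · rw [mul_comm x μ, ← (hψμ x).1, hφe]; exact ht3 _
    · rw [mul_comm x (μ * μ), ← (hψμ x).2, hφe']; exact ht4 _

end CfsgLib.CIT.Natural
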