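import Cfsg.Agent.Lib.CIT.Natural.Plane
import Cfsg.Agent.Lib.CIT.Natural.Spread
import Cfsg.Agent.Lib.CIT.Natural.ProjAction
import Cfsg.Agent.Lib.LinearThreeFour.CentralBound

/-!
# A CIT-group with the plane data is `PSL₃(4)`
-/

set_option autoImplicit false

namespace CfsgLib.CIT.Natural

open Matrix Subgroup MulAction
open scoped LinearAlgebra.Projectivization

variable {G : Type*} [Group G] [Finite G] {M L W E : Subgroup G}

theorem card_plane {F : Type} [Field F] [Fintype F] (hF : Fintype.card F = 4) :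
    Nat.card (ℙ F (Fin 3 → F)) = 21 := by
  have := Projectivization.card' F (Fin 3 → F)
  rw [Nat.card_eq_fintype_card (α := F), hF, Nat.card_fun, Nat.card_eq_fintype_card (α := F), hF,
    Nat.card_eq_fintype_card, Fintype.card_fin] at this
  omega

theorem card_psl34 {F : Type} [Field F] [Fintype F] (hF : Fintype.card F = 4) :
    Nat.card (Matrix.ProjectiveSpecialLinearGroup (Fin 3) F) = 20160 := by
  have h1 := CfsgLib.Linear.card_PSL_mul (n := Fin 3) (F := F)
  have h2 := CfsgLib.Linear.card_SL_mul (F := F) 3 (by norm_num)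
  rw [hF, Fintype.card_fin] at h1
  rw [hF, Fin.prod_univ_three] at h2
  norm_num at h1 h2
  omega

variable (F : Type) [Field F] [Fintype F] [CharP F 2]

/-- Coordinates: an identification of the points with the projective plane carrying lines to lines. -/
theorem exists_plane_equiv (H : PlaneHyp M L W E) (hF : Fintype.card F = 4) :
    ∃ κ : G ⧸ M ≃ ℙ F (Fin 3 → F), ∀ l : G ⧸ L, ∃ f : Fin 3 → F, f ≠ 0 ∧
      ∀ p, Inc M L p l ↔ On f (κ p) := by
  classical
  haveI := Fintype.ofFinite G
  obtain ⟨μ, hμ, h0, h1, hall⟩ := CfsgLib.LinearThreeFour.exists_mu hF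
  set b : G ⧸ L := ((1 : G) : G ⧸ L) with hb
  obtain ⟨hn, hjoin⟩ := count_points H
  obtain ⟨O, hO⟩ : ∃ O : G ⧸ M, ¬ Inc M L O b := by
    by_contra! h
    have := card_pts H b
    rw [Nat.card_congr (Equiv.subtypeUnivEquiv h), hn] at this
    omega
  have heL : ∀ e : E, (e : G) • b = b := fun e => (smul_base_eq_iff _ L).2 (H.E_le_L e.2)
  have hfree : ∀ e : E, (e : G) • O = O → e = 1 := by
    intro e he
    by_contra hne
    have h2 : orderOf (e : G) = 2 := orderOf_eq_prime (by rw [pow_two]; exact H.E_sq _ e.2)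
      (fun h => hne (Subtype.ext h))
    exact hO ((fix_of_mem_E H e.2 h2 O).1 he)
  have hoff : ∀ e : E, ¬ Inc M L ((e : G) • O) b := fun e h => by
    rw [← heL e, inc_smul_iff] at h; exact hO h
  have hinjE : ∀ e e' : E, (e : G) • O = (e' : G) • O → e = e' := by
    intro e e' h
    have : (((e'⁻¹ * e : E)) : G) • O = O := by
      rw [Subgroup.coe_mul, mul_smul, h, Subgroup.coe_inv, inv_smul_smul]
    exact (inv_mul_eq_one.1 (hfree _ this)).symm
  let ε : E → {p : G ⧸ M // ¬ Inc M L p b} := fun e => ⟨(e : G) • O, hoff e⟩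
  have hε : Function.Bijective ε := by
    refine Function.Injective.bijective_of_nat_card_le
      (fun e e' h => hinjE e e' (congrArg Subtype.val h)) ?_
    haveI := Fintype.ofFinite (G ⧸ M)
    have hc := Fintype.card_subtype_compl (fun p : G ⧸ M => Inc M L p b)
    rw [← Nat.card_eq_fintype_card, ← Nat.card_eq_fintype_card, ← Nat.card_eq_fintype_card, hn,
      card_pts H] at hc
    rw [H.cardE]
    omega
  -- the five directions
  obtain ⟨π⟩ : Nonempty (Fin 5 ≃ {p : G ⧸ M // Inc M L p b}) :=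
    ⟨(Finite.equivFinOfCardEq (card_pts H b)).symm⟩
  choose ln hlnO hlnj using fun j => hjoin O (π j).1
  have hlnb : ∀ j, ln j ≠ b := fun j h => hO (h ▸ hlnO j)
  have hmeet : ∀ l : G ⧸ L, l ≠ b → ∀ p q, Inc M L p l → Inc M L p b → Inc M L q l → Inc M L q b →
      p = q := fun l hl p q hp hp' hq hq' => by_contra fun hne => hl (line_unique H hne hp hq hp' hq')
  have hlnπ : ∀ j k, Inc M L (π k).1 (ln j) → k = j := fun j k h =>
    π.injective (Subtype.ext (hmeet _ (hlnb j) _ _ h (π k).2 (hlnj j) (π j).2))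
  have hfixj : ∀ (e : E) j, (e : G) • (π j).1 = (π j).1 := fun e j => E_fix H e.2 (π j).2
  have hjO : ∀ j, (π j).1 ≠ O := fun j h => hO (h ▸ (π j).2)
  letI : CommGroup E := { (inferInstance : Group E) with
    mul_comm := fun x y => Subtype.ext (H.E_comm x x.2 y y.2) }
  let Hs : Fin 5 → Subgroup E := fun j => (stabilizer G (ln j)).comap E.subtype
  have hmemHs : ∀ j (e : E), e ∈ Hs j ↔ Inc M L ((e : G) • O) (ln j) := by
    intro j e
    rw [mem_comap, mem_stabilizer_iff]
    refine ⟨fun h => ?_, fun h => ?_⟩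
    · have := inc_smul (hlnO j) (e : G)
      exact h ▸ this
    · have h1 := inc_smul (hlnO j) (e : G)
      have h2 := inc_smul (hlnj j) (e : G)
      rw [hfixj] at h2
      refine (line_unique H (fun he => hoff e (by rw [← he]; exact (π j).2)) h2 h1 (hlnj j) h)
  have hHcard : ∀ j, Nat.card (Hs j) = 4 := by
    intro j
    haveI := Fintype.ofFinite (G ⧸ M)
    let f : Hs j → {p : {p : G ⧸ M // Inc M L p (ln j)} // p ≠ ⟨(π j).1, hlnj j⟩} := fun e =>
      ⟨⟨((e : E) : G) • O, (hmemHs j e).1 e.2⟩, fun h => hoff e (by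
        rw [show ((e : E) : G) • O = (π j).1 from congrArg Subtype.val h]; exact (π j).2)⟩
    have hf : Function.Bijective f := by
      refine ⟨fun a a' h => Subtype.ext (hinjE _ _ (congrArg (fun z => z.1.1) h)), ?_⟩
      rintro ⟨⟨p, hp⟩, hne⟩
      have hpb : ¬ Inc M L p b := fun h => hne (Subtype.ext (hmeet _ (hlnb j) _ _ hp h (hlnj j) (π j).2))
      obtain ⟨e, he⟩ := hε.2 ⟨p, hpb⟩
      have he' : (e : G) • O = p := congrArg Subtype.val he
      exact ⟨⟨e, (hmemHs j e).2 (he' ▸ hp)⟩, Subtype.ext (Subtype.ext he')⟩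
    rw [Nat.card_congr (Equiv.ofBijective f hf), Nat.card_eq_fintype_card,
      Fintype.card_subtype_compl, Fintype.card_subtype_eq, ← Nat.card_eq_fintype_card, card_pts H]
  obtain ⟨v2, hv2⟩ : ∃ v : E → G ⧸ M, ∀ e, v e = (e : G) • O := ⟨_, fun _ => rfl⟩
  obtain ⟨e, hebij, headd, hedir⟩ := exists_coords (F := F) Hs H.cardE hHcard
    (fun x => Subtype.ext (H.E_sq x x.2)) (fun i j hij x hi hj => by
      by_contra hx
      have := (hmemHs i x).1 hi
      have := (hmemHs j x).1 hj
      have heq : ln i = ln j := line_unique H (fun h => hx (hfree x h.symm))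
        (hlnO i) ((hmemHs i x).1 hi) (hlnO j) ((hmemHs j x).1 hj)
      exact hij (hlnπ j i (heq ▸ hlnj i))) hμ h0 h1 hall
  set d := dirs μ with hd
  have hd0 : ∀ j, d j ≠ 0 := by intro j; fin_cases j <;> simp [hd, dirs]
  have he0 : e 0 = 1 := by
    have := headd 0 0
    rw [add_zero] at this
    exact mul_eq_left.1 this.symm
  -- directions: `v` is in the `j`-th subgroup iff it is proportional to `d j`
  have hcross : ∀ j (v : F × F), e v ∈ Hs j ↔ (d j).2 * v.1 + (d j).1 * v.2 = 0 := by
    intro j v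
    constructor
    · intro hv
      have hinj : Function.Injective fun x : F => (⟨e (x • d j), hedir j x⟩ : Hs j) := by
        intro x y h
        exact smul_left_injective F (hd0 j) (hebij.1 (congrArg Subtype.val h))
      have hb := hinj.bijective_of_nat_card_le (by rw [hHcard, Nat.card_eq_fintype_card, hF])
      obtain ⟨x, hx⟩ := hb.2 ⟨e v, hv⟩
      have := hebij.1 (congrArg Subtype.val hx)
      rw [← this]
      simp only [Prod.smul_fst, Prod.smul_snd, smul_eq_mul]
      linear_combination ((d j).1 * (d j).2 * x) * CharTwo.two_eq_zero (R := F)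
    · intro hv
      obtain ⟨x, hx⟩ : ∃ x : F, v = x • d j := by
        by_cases hd1 : (d j).1 = 0
        · have hd2 : (d j).2 ≠ 0 := fun h => hd0 j (Prod.ext hd1 h)
          refine ⟨v.2 / (d j).2, Prod.ext ?_ (by simp [hd2])⟩
          simpa [hd1, hd2] using hv
        · refine ⟨v.1 / (d j).1, Prod.ext (by simp [hd1]) ?_⟩
          simp only [Prod.smul_snd, smul_eq_mul]
          field_simp
          linear_combination hv - (v.1 * (d j).2) * CharTwo.two_eq_zero (R := F)
      exact hx ▸ hedir j x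
  -- vectors
  have haff : ∀ p : G ⧸ M, ¬ Inc M L p b → ∃ v : F × F, (e v : G) • O = p := by
    intro p hp
    obtain ⟨x, hx⟩ := hε.2 ⟨p, hp⟩
    obtain ⟨v, rfl⟩ := hebij.2 x
    exact ⟨v, congrArg Subtype.val hx⟩
  choose av hav using haff
  let vec : G ⧸ M → Fin 3 → F := fun p =>
    if h : Inc M L p b then ![(d (π.symm ⟨p, h⟩)).1, (d (π.symm ⟨p, h⟩)).2, 0]
    else ![(av p h).1, (av p h).2, 1]
  have hvec0 : ∀ p, vec p ≠ 0 := by
    intro p h
    simp only [vec] at h
    split_ifs at h with hp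
    · exact hd0 _ (Prod.ext (congrFun h 0) (congrFun h 1))
    · exact one_ne_zero (congrFun h 2)
  have hlines : ∀ l : G ⧸ L, ∃ f : Fin 3 → F, f ≠ 0 ∧ ∀ p, Inc M L p l ↔ f ⬝ᵥ vec p = 0 := by
    intro l
    by_cases hlb : l = b
    · refine ⟨![0, 0, 1], fun h => one_ne_zero (congrFun h 2), fun p => ?_⟩
      rw [hlb]
      by_cases hp : Inc M L p b <;> simp [vec, hp, dotProduct, Fin.sum_univ_three]
    obtain ⟨c, hc, hcb⟩ := lines_meet H l b
    obtain ⟨j, hj⟩ := π.surjective ⟨c, hcb⟩
    have hcj : (π j).1 = c := congrArg Subtype.val hj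
    obtain ⟨p0, hp0, hp0b⟩ : ∃ p0, Inc M L p0 l ∧ ¬ Inc M L p0 b := by
      by_contra! hall'
      have h5 := card_pts H l
      have : Subsingleton {p : G ⧸ M // Inc M L p l} :=
        ⟨fun p q => Subtype.ext (hmeet l hlb _ _ p.2 (hall' _ p.2) q.2 (hall' _ q.2))⟩
      have := Finite.card_le_one_iff_subsingleton.2 this
      omega
    set v0 := av p0 hp0b with hv0
    have hlj : l = (e v0 : G) • ln j := by
      have h1 := inc_smul (hlnO j) (e v0 : G)
      have h2 := inc_smul (hlnj j) (e v0 : G)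
      rw [hav p0 hp0b] at h1
      rw [hfixj, hcj] at h2
      exact line_unique H (fun h => hp0b (by rw [h]; exact hcb)) hp0 hc h1 h2
    refine ⟨![(d j).2, (d j).1, (d j).2 * v0.1 + (d j).1 * v0.2], fun h => hd0 j
      (Prod.ext (congrFun h 1) (congrFun h 0)), fun p => ?_⟩
    by_cases hp : Inc M L p b
    · obtain ⟨k, hk⟩ := π.surjective ⟨p, hp⟩
      have hkp : (π k).1 = p := congrArg Subtype.val hk
      have hkeq : π.symm ⟨p, hp⟩ = k := by rw [← hk, Equiv.symm_apply_apply]
      constructor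
      · intro hpl
        have hkj : k = j := π.injective (Subtype.ext (hmeet l hlb _ _ (hkp ▸ hpl) (π k).2
          (hcj ▸ hc) (π j).2))
        simp [vec, hp, hkeq, hkj, dotProduct, Fin.sum_univ_three]
        linear_combination ((d j).1 * (d j).2) * CharTwo.two_eq_zero (R := F)
      · intro h
        simp [vec, hp, hkeq, dotProduct, Fin.sum_univ_three] at h
        have h1 : e (d k) ∈ Hs j := (hcross j _).2 h
        have h2 : e (d k) ∈ Hs k := by simpa using hedir k 1
        have hne1 : e (d k) ≠ 1 := fun h => hd0 k (hebij.1 (h.trans he0.symm))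
        have a1 := (hmemHs j _).1 h1
        have a2 := (hmemHs k _).1 h2
        have heq : ln k = ln j := line_unique H (fun h => hne1 (hfree _ h.symm))
          (hlnO k) a2 (hlnO j) a1
        rw [← hkp, hlnπ j k (heq ▸ hlnj k), hcj]
        exact hc
    · set v := av p hp with hv
      have hsq : ∀ x : E, x⁻¹ = x := fun x =>
        inv_eq_of_mul_eq_one_left (Subtype.ext (H.E_sq x x.2))
      have hrel : Inc M L p l ↔ e (v + v0) ∈ Hs j := by
        rw [hlj, hmemHs, ← inc_smul_iff ((e v0 : E) : G)⁻¹, inv_smul_smul, ← hav p hp, ← mul_smul,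
          ← hv, headd, ← Subgroup.coe_inv, ← Subgroup.coe_mul, hsq, mul_comm (e v0)]
      rw [hrel, hcross]
      simp [vec, hp, ← hv, dotProduct, Fin.sum_univ_three]
      constructor <;> intro h <;> linear_combination h
  let κ0 : G ⧸ M → ℙ F (Fin 3 → F) := fun p => Projectivization.mk F (vec p) (hvec0 p)
  have hinj : Function.Injective κ0 := by
    intro p q hpq
    by_contra hne
    obtain ⟨a, ha⟩ := (Projectivization.mk_eq_mk_iff' F _ _ _ _).1 hpq
    obtain ⟨l, hl, hlq⟩ : ∃ l, Inc M L p l ∧ ¬ Inc M L q l := by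
      by_contra! hall'
      have h5 := card_lines_through H p
      have : Subsingleton {l : G ⧸ L // Inc M L p l} :=
        ⟨fun l l' => Subtype.ext (line_unique H hne l.2 (hall' _ l.2) l'.2 (hall' _ l'.2))⟩
      have := Finite.card_le_one_iff_subsingleton.2 this
      omega
    obtain ⟨f, -, hf⟩ := hlines l
    have hfp := (hf p).1 hl
    rw [← ha, dotProduct_smul, smul_eq_mul, mul_eq_zero] at hfp
    rcases hfp with rfl | hfp
    · exact hvec0 p (by rw [← ha, zero_smul])
    · exact hlq ((hf q).2 hfp)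
  refine ⟨Equiv.ofBijective κ0 (hinj.bijective_of_nat_card_le (by rw [hn, card_plane hF])), fun l => ?_⟩
  obtain ⟨f, hf0, hf⟩ := hlines l
  exact ⟨f, hf0, fun p => by rw [hf, Equiv.ofBijective_apply, on_mk]⟩

/-- Every involution acts on the plane as an element of `SL₃`. -/
theorem invol_mem_range (H : PlaneHyp M L W E) (κ : G ⧸ M ≃ ℙ F (Fin 3 → F))
    (hκ : ∀ l : G ⧸ L, ∃ f : Fin 3 → F, f ≠ 0 ∧ ∀ p, Inc M L p l ↔ On f (κ p))
    {t : G} (ht : orderOf t = 2) :
    ∃ g : SpecialLinearGroup (Fin 3) F, ∀ p, κ (t • p) = projPerm g (κ p) := by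
  classical
  haveI := Fintype.ofFinite G
  obtain ⟨hn, hjoin⟩ := count_points H
  obtain ⟨c, -, hc⟩ := exists_axis H ht
  obtain ⟨f, hf0, hf⟩ := hκ (c : G ⧸ L)
  obtain ⟨ψ, hψ⟩ := exists_row f hf0
  set χ : ℙ F (Fin 3 → F) ≃ ℙ F (Fin 3 → F) := projPerm ψ with hχ
  -- a point is fixed iff its new coordinates have last entry zero
  have hfix : ∀ p, t • p = p ↔ On (Pi.single 2 1) (χ (κ p)) := fun p => by
    rw [hc, hf, hχ, on_projPerm, hψ]
  have hA0 : ∀ v : F × F, (![v.1, v.2, 1] : Fin 3 → F) ≠ 0 := fun v h => one_ne_zero (congrFun h 2)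
  let A : F × F → ℙ F (Fin 3 → F) := fun v => Projectivization.mk F _ (hA0 v)
  let pt : F × F → G ⧸ M := fun v => κ.symm (χ.symm (A v))
  have hpt : ∀ v, χ (κ (pt v)) = A v := fun v => by simp [pt]
  have hnfix : ∀ v, t • pt v ≠ pt v := fun v h => by
    rw [hfix, hpt, on_mk] at h
    simp at h
  have hAsurj : ∀ x, ¬ On (Pi.single 2 1) x → ∃ v, x = A v := by
    intro x hx
    induction x using Projectivization.ind with
    | h u hu =>
      rw [on_mk] at hx
      simp at hx
      refine ⟨(u 0 / u 2, u 1 / u 2), (Projectivization.mk_eq_mk_iff' F _ _ _ _).2 ⟨u 2, ?_⟩⟩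
      ext i; fin_cases i <;> simp [mul_div_cancel₀ _ hx]
  have hAinj : ∀ v w, A v = A w → v = w := by
    intro v w h
    obtain ⟨a, ha⟩ := (Projectivization.mk_eq_mk_iff' F _ _ _ _).1 h
    have h2 := congrFun ha 2
    simp at h2
    subst h2
    exact Prod.ext (by simpa using (congrFun ha 0).symm) (by simpa using (congrFun ha 1).symm)
  have himg : ∀ v, ∃ w, χ (κ (t • pt v)) = A w := by
    intro v
    apply hAsurj
    intro h
    rw [← hfix] at h
    exact hnfix v (smul_left_cancel t h)
  choose g hg using himg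
  have hfree : ∀ v, g v ≠ v := fun v h => hnfix v (κ.injective (χ.injective (by rw [hg, h, hpt])))
  have hdir : ∀ v w, (g v + g w).1 * (v + w).2 + (g v + g w).2 * (v + w).1 = 0 := by
    intro v w
    by_cases hvw : v = w
    · subst hvw
      simp [CharTwo.add_self_eq_zero]
    obtain ⟨m, hm1, hm2⟩ := hjoin (pt v) (pt w)
    have hD0 : (![(v + w).1, (v + w).2, 0] : Fin 3 → F) ≠ 0 := fun h => hvw
      (CharTwo.add_eq_zero.1 (Prod.ext (congrFun h 0) (congrFun h 1) : v + w = 0))
    set r := κ.symm (χ.symm (Projectivization.mk F _ hD0)) with hr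
    have hrfix : t • r = r := by
      rw [hfix, hr]
      simp [on_mk]
    obtain ⟨fm, -, hfm⟩ := hκ m
    have key : ∀ (q : G ⧸ M) (u : Fin 3 → F) (hu : u ≠ 0),
        χ (κ q) = Projectivization.mk F u hu → ∀ (k : Fin 3 → F), (On k (κ q) ↔ (k ᵥ* (ψ⁻¹).1) ⬝ᵥ u = 0) := by
      intro q u hu hq k
      rw [← on_mk _ _ hu, ← hq, ← on_projPerm, hχ, ← Equiv.Perm.mul_apply, ← map_mul, inv_mul_cancel,
        map_one, Equiv.Perm.one_apply]
    have hrm : Inc M L r m := by
      rw [hfm, key r _ hD0 (by simp [hr])]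
      have e1 := (key (pt v) _ (hA0 v) (hpt v) fm).1 ((hfm _).1 hm1)
      have e2 := (key (pt w) _ (hA0 w) (hpt w) fm).1 ((hfm _).1 hm2)
      have hadd : (![(v + w).1, (v + w).2, 0] : Fin 3 → F) = ![v.1, v.2, 1] + ![w.1, w.2, 1] := by
        ext i; fin_cases i <;> simp [CharTwo.add_self_eq_zero]
      rw [hadd, dotProduct_add, e1, e2, add_zero]
    obtain ⟨fn, hfn0, hfn⟩ := hκ (t • m)
    set k := fn ᵥ* (ψ⁻¹).1 with hk
    have k1 := (key _ _ (hA0 (g v)) (hg v) fn).1 ((hfn _).1 (inc_smul hm1 t))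
    have k2 := (key _ _ (hA0 (g w)) (hg w) fn).1 ((hfn _).1 (inc_smul hm2 t))
    have hr' := inc_smul hrm t
    rw [hrfix] at hr'
    have k3 := (key r _ hD0 (by simp [hr]) fn).1 ((hfn _).1 hr')
    rw [← hk] at k1 k2 k3
    simp [dotProduct, Fin.sum_univ_three] at k1 k2 k3
    have hknz : k 0 ≠ 0 ∨ k 1 ≠ 0 := by
      by_contra! h
      apply hfn0
      have hk2 : k 2 = 0 := by simpa [h.1, h.2] using k1
      have hk0 : k = 0 := by ext i; fin_cases i <;> simp [h.1, h.2, hk2]
      have : fn ᵥ* ((ψ⁻¹).1 * ψ.1) = 0 := by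
        rw [← Matrix.vecMul_vecMul, ← hk, hk0, Matrix.zero_vecMul]
      have e : (ψ⁻¹).1 * ψ.1 = 1 := congrArg Subtype.val (inv_mul_cancel ψ)
      rwa [e, Matrix.vecMul_one] at this
    have s2 : (2 : F) = 0 := CharTwo.two_eq_zero
    simp only [Prod.fst_add, Prod.snd_add]
    rcases hknz with hk0 | hk1
    · refine (mul_eq_zero.1 ?_).resolve_left hk0
      linear_combination (v.2 + w.2) * (k1 + k2) + ((g v).2 + (g w).2) * k3
        - (v.2 + w.2) * k 2 * s2 - (v.2 + w.2) * k 1 * ((g v).2 + (g w).2) * s2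
    · refine (mul_eq_zero.1 ?_).resolve_left hk1
      linear_combination (v.1 + w.1) * (k1 + k2) + ((g v).1 + (g w).1) * k3
        - (v.1 + w.1) * k 2 * s2 - (v.1 + w.1) * k 0 * ((g v).1 + (g w).1) * s2
  obtain ⟨a, ha⟩ := affine_translation g hdir hfree
  let T : SpecialLinearGroup (Fin 3) F := ⟨!![1, 0, a.1; 0, 1, a.2; 0, 0, 1], by simp [det_fin_three]⟩
  refine ⟨ψ⁻¹ * T * ψ, fun p => χ.injective ?_⟩
  have hT : χ (κ (t • p)) = projPerm T (χ (κ p)) := by
    by_cases hp : t • p = p
    · rw [hp]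
      rw [hfix] at hp
      generalize χ (κ p) = x at hp
      induction x using Projectivization.ind with
      | h u hu =>
        rw [on_mk] at hp
        simp at hp
        rw [projPerm_mk]
        refine (Projectivization.mk_eq_mk_iff' F _ _ _ _).2 ⟨1, ?_⟩
        rw [one_smul]
        ext i; fin_cases i <;> simp [T, Matrix.mulVec, dotProduct, Fin.sum_univ_three, hp]
    · obtain ⟨v, hv⟩ := hAsurj _ (fun h => hp ((hfix p).2 h))
      have hpv : p = pt v := κ.injective (χ.injective (hv.trans (hpt v).symm))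
      rw [hv, hpv, hg, ha, projPerm_mk]
      refine (Projectivization.mk_eq_mk_iff' F _ _ _ _).2 ⟨1, ?_⟩
      rw [one_smul]
      ext i; fin_cases i <;> simp [T, Matrix.mulVec, dotProduct, Fin.sum_univ_three]
  rw [hT, hχ, ← Equiv.Perm.mul_apply, ← Equiv.Perm.mul_apply, ← map_mul, ← map_mul,
    ← mul_assoc, ← mul_assoc, mul_inv_cancel, one_mul]

omit F in
/-- The group of a plane of order four is `PSL₃(4)`. -/
theorem iso_psl34 [IsSimpleGroup G] (H : PlaneHyp M L W E) :
    ∃ (F : Type) (_ : Field F) (_ : Fintype F), Fintype.card F = 4 ∧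
      Nonempty (G ≃* Matrix.ProjectiveSpecialLinearGroup (Fin 3) F) := by
  classical
  haveI : Fact (Nat.Prime 2) := ⟨Nat.prime_two⟩
  let F := GaloisField 2 2
  haveI : Fintype F := Fintype.ofFinite F
  have hF : Fintype.card F = 4 := by
    rw [← Nat.card_eq_fintype_card, GaloisField.card 2 2 (by norm_num)]; norm_num
  refine ⟨F, inferInstance, inferInstance, hF, ?_⟩
  obtain ⟨κ, hκ⟩ := exists_plane_equiv F H hF
  let ρ : G →* Equiv.Perm (ℙ F (Fin 3 → F)) :=
    (κ.permCongrHom.toMonoidHom).comp (MulAction.toPermHom G (G ⧸ M))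
  have hρ : ∀ g p, ρ g (κ p) = κ (g • p) := fun g p => by simp [ρ, Equiv.permCongr_apply]
  haveI := Fintype.ofFinite G
  obtain ⟨z, hz, hz2⟩ := exists_invol_E H
  let R := (projPerm (F := F)).range
  have hmem : ∀ g, ρ g ∈ R := by
    have hle : ∀ t, orderOf t = 2 → ρ t ∈ R := fun t ht => by
      obtain ⟨m, hm⟩ := invol_mem_range F H κ hκ ht
      exact ⟨m, Equiv.ext fun x => by
        obtain ⟨p, rfl⟩ := κ.surjective x
        rw [hρ, hm]⟩
    have htop : Subgroup.normalClosure ({z} : Set G) = ⊤ :=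
      Subgroup.normalClosure_normal.eq_bot_or_eq_top.resolve_left fun h => by
        have := h ▸ Subgroup.subset_normalClosure (Set.mem_singleton z)
        rw [SetLike.mem_coe, Subgroup.mem_bot] at this
        rw [this, orderOf_one] at hz2
        omega
    have hsub : Subgroup.normalClosure ({z} : Set G) ≤ R.comap ρ := by
      rw [Subgroup.normalClosure, Subgroup.closure_le]
      intro y hy
      obtain ⟨a, ha, hconj⟩ := Group.mem_conjugatesOfSet_iff.1 hy
      rw [Set.mem_singleton_iff] at ha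
      subst ha
      obtain ⟨w, rfl⟩ := isConj_iff.1 hconj
      exact hle _ (by rw [orderOf_conj, hz2])
    exact fun g => hsub (htop ▸ Subgroup.mem_top g)
  have hinj : Function.Injective ρ := by
    rw [← MonoidHom.ker_eq_bot_iff]
    refine (ρ.normal_ker.eq_bot_or_eq_top).resolve_right fun h => ?_
    have hall : ∀ p : G ⧸ M, z • p = p := fun p => κ.injective (by
      rw [← hρ, MonoidHom.mem_ker.1 (h ▸ Subgroup.mem_top z), Equiv.Perm.one_apply])
    have := card_fix H hz2
    rw [Nat.card_congr (Equiv.subtypeUnivEquiv hall), (count_points H).1] at this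
    omega
  let π : Matrix.ProjectiveSpecialLinearGroup (Fin 3) F →* R :=
    QuotientGroup.lift _ (projPerm (F := F)).rangeRestrict (fun x hx => by
      rw [MonoidHom.mem_ker]
      exact Subtype.ext (center_le_ker hx))
  have hπ : Function.Surjective π := fun y => by
    obtain ⟨m, hm⟩ := (projPerm (F := F)).rangeRestrict_surjective y
    exact ⟨QuotientGroup.mk m, hm⟩
  let ρ' : G →* R := ρ.codRestrict R hmem
  have hρ' : Function.Injective ρ' := fun a b h => hinj (congrArg Subtype.val h)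
  have hcard : Nat.card R ≤ Nat.card G := by
    rw [card_group H, ← card_psl34 hF]
    exact Nat.card_le_card_of_surjective π hπ
  have hbij := hρ'.bijective_of_nat_card_le hcard
  have hπbij : Function.Bijective π := hπ.bijective_of_nat_card_le (by
    rw [card_psl34 hF, ← card_group H]
    exact Nat.card_le_card_of_injective ρ' hρ')
  exact ⟨(MulEquiv.ofBijective ρ' hbij).trans (MulEquiv.ofBijective π hπbij).symm⟩

end CfsgLib.CIT.Natural
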