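import Cfsg.Agent.Lib.CIT.Natural.Pair
import Cfsg.Agent.Lib.CIT.FFCount
import Cfsg.Agent.Lib.InvChar.J2Order.OrderFormula

/-!
# A natural 2-local containing a Sylow 2-subgroup

If a Sylow 2-subgroup `R` of the natural 2-local is one of the whole group then the involutions
outside the module are fused into the centre of `R` (otherwise the Thompson order formula makes
the local normal), the two elementary abelian subgroups of order `q²` of `R` give two natural
2-locals, and `q = 4`.
-/

set_option autoImplicit false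

namespace CfsgLib.CIT

open Subgroup
open scoped IsMulCommutative commutatorElement
open CfsgLib.InvChar

variable {G : Type*} [Group G] [Finite G]

theorem exists_mul_coset {y g : G} {C : Subgroup G} (hC : IsPGroup 2 C) {r i : ℕ} (hr : r.Prime)
    (hr2 : r ≠ 2) (hy : y ^ r ^ i = 1) (hinv : ∀ c ∈ C, y⁻¹ * c * y ∈ C)
    (hg : g⁻¹ * (y * g * y) ∈ C) : ∃ c ∈ C, y * (g * c) * y = g * c := by
  haveI : Fact r.Prime := ⟨hr⟩
  haveI : Fact (Nat.Prime 2) := ⟨Nat.prime_two⟩
  let e : G → G := fun x => g⁻¹ * (y * (g * x) * y)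
  have he : ∀ c ∈ C, e c ∈ C := fun c hc => by
    have : e c = g⁻¹ * (y * g * y) * (y⁻¹ * c * y) := by simp only [e]; group
    rw [this]
    exact mul_mem hg (hinv c hc)
  let σ : Equiv.Perm C := Equiv.ofBijective (fun c => ⟨e c, he c c.2⟩)
    (Finite.injective_iff_bijective.1 fun a b h => by
      have := congrArg Subtype.val h
      simp only [e, mul_left_cancel_iff, mul_right_cancel_iff] at this
      exact Subtype.ext this)
  have hiter : ∀ (k : ℕ) (c : C), (((σ ^ k) c : C) : G) = g⁻¹ * (y ^ k * (g * c) * y ^ k) := by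
    intro k
    induction k with
    | zero => intro c; simp
    | succ k ih =>
      intro c
      rw [pow_succ', Equiv.Perm.mul_apply]
      show e _ = _
      simp only [e, ih]
      rw [mul_inv_cancel_left]
      conv_rhs => arg 2; arg 1; rw [pow_succ' y k]
      rw [pow_succ y k]
      simp only [mul_assoc]
  have hσ : σ ^ r ^ i = 1 := by
    ext c
    rw [hiter, hy]
    simp
  have hP : IsPGroup r (Subgroup.zpowers σ) := by
    intro x
    obtain ⟨j, hj⟩ := Subgroup.mem_zpowers_iff.1 x.2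
    refine ⟨i, Subtype.ext ?_⟩
    show (x : Equiv.Perm C) ^ r ^ i = 1
    rw [← hj, ← zpow_natCast, zpow_comm, zpow_natCast, hσ, one_zpow]
  obtain ⟨n, hn⟩ := IsPGroup.iff_card.1 hC
  have hmod := hP.card_modEq_card_fixedPoints C
  obtain ⟨c, hc⟩ : (MulAction.fixedPoints (Subgroup.zpowers σ) C).Nonempty := by
    by_contra hne
    rw [Set.not_nonempty_iff_eq_empty] at hne
    rw [hne, Nat.card_eq_fintype_card (α := (∅ : Set C)), Set.card_empty,
      Nat.modEq_zero_iff_dvd, hn] at hmod
    exact hr2 ((Nat.prime_dvd_prime_iff_eq hr Nat.prime_two).1 (hr.dvd_of_dvd_pow hmod))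
  refine ⟨c, c.2, ?_⟩
  have := congrArg Subtype.val (hc ⟨σ, Subgroup.mem_zpowers σ⟩)
  rw [← inv_mul_eq_iff_eq_mul (a := g)]
  exact this

theorem card_centralizer_conj (g t : G) :
    Nat.card (centralizer ({g * t * g⁻¹} : Set G)) = Nat.card (centralizer ({t} : Set G)) := by
  have : centralizer ({g * t * g⁻¹} : Set G) =
      (centralizer ({t} : Set G)).map (MulAut.conj g).toMonoidHom := by
    ext x
    rw [mem_centralizer_singleton_iff]
    constructor
    · intro hx
      refine ⟨g⁻¹ * x * g, mem_centralizer_singleton_iff.2 ?_, by simp [mul_assoc]⟩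
      calc g⁻¹ * x * g * t = g⁻¹ * (x * (g * t * g⁻¹)) * g := by group
        _ = t * (g⁻¹ * x * g) := by rw [hx]; group
    · rintro ⟨y, hy, rfl⟩
      show g * y * g⁻¹ * (g * t * g⁻¹) = g * t * g⁻¹ * (g * y * g⁻¹)
      calc g * y * g⁻¹ * (g * t * g⁻¹) = g * (y * t) * g⁻¹ := by group
        _ = _ := by rw [mem_centralizer_singleton_iff.1 hy]; group
  rw [this, Subgroup.card_map_of_injective (MulAut.conj g).injective]

/-- Both factors of a product of two involutions centralise the involution generated by it. -/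
theorem commute_of_mem_zpowers {x y i : G} (hx : x * x = 1) (hy : y * y = 1) (hi : i * i = 1)
    (hm : i ∈ zpowers (x * y)) : Commute x i ∧ Commute y i := by
  obtain ⟨k, hk⟩ := Subgroup.mem_zpowers_iff.1 hm
  have hx' := inv_eq_of_mul_eq_one_right hx
  have hy' := inv_eq_of_mul_eq_one_right hy
  have h1 : x * (x * y) * x⁻¹ = (x * y)⁻¹ := by
    rw [mul_inv_rev, hx', hy', ← mul_assoc x x y, hx, one_mul]
  have h2 : y * (x * y) * y⁻¹ = (x * y)⁻¹ := by
    rw [mul_inv_rev, hx', hy', mul_assoc y (x * y) y, mul_assoc x y y, hy, mul_one]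
  have key : ∀ u : G, u * (x * y) * u⁻¹ = (x * y)⁻¹ → Commute u i := fun u hu => by
    have h3 : u * i * u⁻¹ = i := by
      rw [← hk, ← conj_zpow, hu, inv_zpow, hk, inv_eq_of_mul_eq_one_right hi]
    exact mul_inv_eq_iff_eq_mul.1 h3
  exact ⟨key x h1, key y h2⟩

theorem IsOffender.exists_torus_smul {X V : Type*} [Group X] [CommGroup V]
    [MulDistribMulAction X V] [Finite X] [Finite V] {A : Subgroup X} (h : FFSetting X V)
    (hA : IsOffender V A) {x : X} (hx : cj x A ≠ A) {y z : V} (hy : y ∈ fixS (V := V) A)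
    (hy1 : y ≠ 1) (hz : z ∈ fixS (V := V) A) (hz1 : z ≠ 1) :
    ∃ d ∈ normalizer (A : Set X) ⊓ normalizer (cj x A : Set X), d • y = z := by
  classical
  set D := normalizer (A : Set X) ⊓ normalizer (cj x A : Set X) with hD
  haveI : Fintype (fixS (V := V) A) := Fintype.ofFinite _
  let φ : D → {u : fixS (V := V) A // u ≠ 1} := fun d =>
    ⟨⟨(d : X) • y, smul_mem_fixS d.2.1 hy⟩, fun e => hy1
      (smul_left_cancel (d : X) ((congrArg Subtype.val e).trans (smul_one _).symm))⟩
  have hφ : Function.Injective φ := fun d e he => by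
    have h3 : (d : X) • y = (e : X) • y := congrArg (fun u => ((u.1 : V))) he
    by_contra hne
    exact hy1 (h.fpf ((e : X)⁻¹ * d) (hA.odd_pair h (hA.conj x) hx (mul_mem (inv_mem e.2) d.2))
      (fun e' => hne (Subtype.ext (inv_mul_eq_one.1 e').symm)) y
      (by rw [mul_smul, h3, inv_smul_smul]))
  obtain ⟨d, hd⟩ := (hφ.bijective_of_nat_card_le (by
    rw [hD, (hA.pair_data h hx).1, Nat.card_eq_fintype_card, Nat.card_eq_fintype_card,
      Fintype.card_subtype_compl, Fintype.card_subtype_eq])).2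
    ⟨⟨z, hz⟩, fun e => hz1 (congrArg Subtype.val e)⟩
  exact ⟨d, d.2, congrArg (fun u => ((u.1 : V))) hd⟩

namespace NaturalLocal

variable {V A : Subgroup G} {q : ℕ} (h : NaturalLocal V A q) (hC : IsCIT G)
include h hC

theorem orderOf_two {z : G} (hz : z ∈ V) (hz1 : z ≠ 1) : orderOf z = 2 :=
  orderOf_eq_prime (by rw [pow_two]; exact h.sq_V z hz) hz1

/-- Every coset of `V` in `R` contains an involution. -/
theorem exists_invol {a : G} (ha : a ∈ A) (haV : a ∉ V) :
    ∃ v ∈ V, orderOf (v * a) = 2 ∧ v * a ∉ V := by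
  haveI := h.comm_V
  have hset := h.setting hC
  have hoff := h.isOffender hC
  set aN : normalizer (V : Set G) := ⟨a, h.le_normalizer ha⟩ with haN
  set ab := (nrep V).rangeRestrict aN with hab
  have habm : ab ∈ nimg V A := (mem_img _ h.le_normalizer).2 ⟨a, ha, rfl⟩
  have hab1 : ab ≠ 1 := fun e =>
    haV (h.centralizer_eq.le ((rep_eq_one_iff _ _).1 (congrArg Subtype.val e)))
  obtain ⟨x, hx⟩ := hoff.exists_conj_ne hset
  obtain ⟨w, hw, -, -, -, hw3⟩ := hoff.exists_swap hset hx habm hab1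
  obtain ⟨g, hg⟩ := (nrep V).rangeRestrict_surjective (ab * w)
  obtain ⟨i, m, hm, him⟩ := Nat.exists_eq_pow_mul_and_not_dvd (orderOf_pos g).ne' 3 (by norm_num)
  set y := g ^ m with hy
  have hyp : (y : G) ^ 3 ^ i = 1 := by
    rw [← Subgroup.coe_pow, hy, ← pow_mul, mul_comm, ← him, pow_orderOf_eq_one, Subgroup.coe_one]
  have hyo : Odd (orderOf (y : G)) :=
    ((by decide : Odd 3).pow).of_dvd_nat (orderOf_dvd_of_pow_eq_one hyp)
  have hy1 : (nrep V).rangeRestrict y ≠ 1 := by
    rw [hy, map_pow, hg, Ne, ← orderOf_dvd_iff_pow_eq_one, hw3]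
    exact hm
  have haa : ab * ab = 1 := hoff.mul_self hset habm
  have hww : w * w = 1 := by rw [← pow_two, ← hw, pow_orderOf_eq_one]
  have hinvy : ab * (ab * w) ^ m * ab⁻¹ = ((ab * w) ^ m)⁻¹ := by
    rw [← conj_pow, ← inv_pow]
    congr 1
    rw [mul_inv_rev, inv_eq_of_mul_eq_one_right haa, inv_eq_of_mul_eq_one_right hww, ← mul_assoc,
      haa, one_mul]
  have hmem : ((aN⁻¹ * (y * aN * y) : normalizer (V : Set G)) : G) ∈ V := by
    refine h.centralizer_eq.le ((rep_eq_one_iff (le_refl _) _).1 (congrArg Subtype.val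
      (show (nrep V).rangeRestrict (aN⁻¹ * (y * aN * y)) = 1 from ?_)))
    rw [map_mul, map_inv, map_mul, map_mul, hy, map_pow, hg, ← hab, inv_eq_of_mul_eq_one_right haa]
    set u := (ab * w) ^ m
    calc ab * (u * ab * u) = (ab * u * ab⁻¹) * (ab * ab) * u := by group
      _ = 1 := by rw [hinvy, haa, mul_one, inv_mul_cancel]
  obtain ⟨c, hc, hcy⟩ := exists_mul_coset h.isPGroup_V Nat.prime_three (by norm_num) hyp
    (fun c hc => (mem_normalizer_iff''.1 y.2 c).1 hc) hmem
  set u := a * c with hu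
  have hcy' : (y : G) * u * (y : G) = u := hcy
  have huV : u ∉ V := fun e => haV ((V.mul_mem_cancel_right hc).1 e)
  have huu : u * u = 1 := by
    by_contra hne
    have hc' : Commute (u * u) (y : G) := by
      have e1 : u * (y : G) * u⁻¹ = (y : G)⁻¹ := by
        calc u * (y : G) * u⁻¹ = (y : G)⁻¹ * ((y : G) * u * y) * u⁻¹ := by group
          _ = (y : G)⁻¹ := by rw [hcy', mul_inv_cancel_right]
      have e2 : u * u * (y : G) * (u * u)⁻¹ = y := by
        calc u * u * (y : G) * (u * u)⁻¹ = u * (u * (y : G) * u⁻¹) * u⁻¹ := by group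
          _ = u * (y : G)⁻¹ * u⁻¹ := by rw [e1]
          _ = (u * (y : G) * u⁻¹)⁻¹ := by group
          _ = y := by rw [e1, inv_inv]
      exact mul_inv_eq_iff_eq_mul.1 e2
    have huuV : u * u ∈ V := by
      have hcN : c ∈ normalizer (V : Set G) := Subgroup.le_normalizer hc
      refine h.centralizer_eq.le ((rep_eq_one_iff (le_refl _) ((aN * ⟨c, hcN⟩) * (aN * ⟨c, hcN⟩))).1
        (congrArg Subtype.val (show (nrep V).rangeRestrict _ = 1 from ?_)))
      rw [map_mul, map_mul, show (nrep V).rangeRestrict ⟨c, hcN⟩ = 1 from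
        Subtype.ext ((rep_eq_one_iff _ _).2 (LocEven.le_centralizer_self h.comm_V hc)),
        mul_one, ← hab, haa]
    exact hy1 (by rw [show y = 1 from Subtype.ext (eq_one_of_commute_invol hC
      (h.orderOf_two hC huuV hne) hc' hyo), map_one])
  have he : a * c * a⁻¹ * a = u := inv_mul_cancel_right _ _
  refine ⟨a * c * a⁻¹, (mem_normalizer_iff.1 (h.le_normalizer ha) c).1 hc, ?_, he ▸ huV⟩
  rw [he]
  exact orderOf_eq_prime (by rw [pow_two]; exact huu) fun e => huV (e ▸ one_mem V)

theorem image_mem {t : G} (ht : t ∈ V ⊔ A) :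
    (nrep V).rangeRestrict ⟨t, h.sup_le_normalizer ht⟩ ∈ nimg V A :=
  h.mem_img_iff.2 ht

theorem image_ne_one {t : G} (ht : t ∈ V ⊔ A) (htV : t ∉ V) :
    (nrep V).rangeRestrict ⟨t, h.sup_le_normalizer ht⟩ ≠ 1 := fun e =>
  htV (h.centralizer_eq.le ((rep_eq_one_iff _ _).1 (congrArg Subtype.val e)))

theorem mem_inf_of_commute {t v : G} (ht : t ∈ V ⊔ A) (htV : t ∉ V) (hv : v ∈ V)
    (hc : Commute t v) : v ∈ A ⊓ V := by
  haveI := h.comm_V
  refine ⟨(h.mem_fixS_iff hC ⟨v, hv⟩).1 ?_, hv⟩
  rw [← (h.isOffender hC).fixE_eq (h.setting hC) (h.image_mem hC ht) (h.image_ne_one hC ht htV),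
    mem_fixE, smul_eq_iff]
  exact hc

theorem exists_comm_eq {t z : G} (ht : t ∈ V ⊔ A) (htV : t ∉ V) (hz : z ∈ A ⊓ V) :
    ∃ v ∈ V, t * v * t⁻¹ * v⁻¹ = z := by
  haveI := h.comm_V
  have hset := h.setting hC
  have hoff := h.isOffender hC
  have h1 : (⟨z, hz.2⟩ : V) ∈ fixE (V := V) ((nrep V).rangeRestrict ⟨t, h.sup_le_normalizer ht⟩) := by
    rw [hoff.fixE_eq hset (h.image_mem hC ht) (h.image_ne_one hC ht htV), h.mem_fixS_iff hC]
    exact hz.1
  rw [← (hset.invol_data (hoff.invol hset (h.image_mem hC ht) (h.image_ne_one hC ht htV))).2] at h1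
  obtain ⟨v, hv⟩ := h1
  have h2 := congrArg Subtype.val hv
  rw [coe_dlt] at h2
  exact ⟨v, v.2, h2⟩

/-- The `V`-conjugates of an involution outside `V`. -/
theorem exists_conj_eq_mul {t z : G} (ht : t ∈ V ⊔ A) (htV : t ∉ V) (hz : z ∈ A ⊓ V) :
    ∃ v ∈ V, v * t * v⁻¹ = t * z := by
  obtain ⟨v, hv, he⟩ := h.exists_comm_eq hC ht htV hz
  refine ⟨v, hv, ?_⟩
  have hz2 : z⁻¹ = z := inv_eq_of_mul_eq_one_right (h.sq_V z hz.2)
  calc v * t * v⁻¹ = (t * v * t⁻¹ * v⁻¹)⁻¹ * t := by group
    _ = t * z := by rw [he, hz2]; exact (h.commute_inf ht hz).eq.symm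

/-- The centraliser in `R` of an involution outside `V`. -/
theorem card_inf_centralizer {t : G} (ht : t ∈ V ⊔ A) (htV : t ∉ V) :
    Nat.card ↥((V ⊔ A) ⊓ centralizer ({t} : Set G)) = q ^ 2 := by
  let f : ↥(V ⊔ A) →* ↥(A ⊓ V) :=
    { toFun := fun r => ⟨⁅(r : G), t⁆, h.commutator_mem hC r.2 ht⟩
      map_one' := Subtype.ext (commutatorElement_one_left t)
      map_mul' := fun r s => Subtype.ext (by
        show ⁅(r : G) * s, t⁆ = ⁅(r : G), t⁆ * ⁅(s : G), t⁆
        have e : ⁅(r : G) * s, t⁆ = (r : G) * ⁅(s : G), t⁆ * (r : G)⁻¹ * ⁅(r : G), t⁆ := by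
          simp only [commutatorElement_def]; group
        rw [e, (h.commute_inf r.2 (h.commutator_mem hC s.2 ht)).eq, mul_inv_cancel_right,
          h.comm_mem_V (h.commutator_mem hC s.2 ht).2 (h.commutator_mem hC r.2 ht).2]) }
  have hsur : Function.Surjective f := fun z => by
    obtain ⟨v, hv, he⟩ := h.exists_comm_eq hC ht htV z.2
    refine ⟨⟨v, mem_sup_left hv⟩, Subtype.ext ?_⟩
    show ⁅v, t⁆ = (z : G)
    have e : ⁅v, t⁆ = (t * v * t⁻¹ * v⁻¹)⁻¹ := by rw [commutatorElement_def]; group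
    rw [e, he, inv_eq_of_mul_eq_one_right (h.sq_V _ z.2.2)]
  have hker : f.ker = ((V ⊔ A) ⊓ centralizer ({t} : Set G)).subgroupOf (V ⊔ A) := by
    ext r
    rw [MonoidHom.mem_ker, mem_subgroupOf, mem_inf, mem_centralizer_singleton_iff, ← Subtype.coe_inj]
    show ⁅(r : G), t⁆ = 1 ↔ _
    rw [commutatorElement_eq_one_iff_mul_comm]
    exact (and_iff_right r.2).symm
  have hc := f.ker.card_mul_index
  rw [Subgroup.index_ker, MonoidHom.range_eq_top.2 hsur, Nat.card_congr Subgroup.topEquiv.toEquiv,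
    h.card_inf, h.card_sup, hker,
    Nat.card_congr (Subgroup.subgroupOfEquivOfLe inf_le_left).toEquiv, pow_succ] at hc
  exact Nat.eq_of_mul_eq_mul_right h.q_pos hc

theorem mem_inf_of_mul_sq {t v : G} (ht : t ∈ V ⊔ A) (htV : t ∉ V) (hv : v ∈ V) (ht2 : t * t = 1)
    (h2 : t * v * (t * v) = 1) : v ∈ A ⊓ V := by
  refine h.mem_inf_of_commute hC ht htV hv ?_
  have h3 : t * v = v⁻¹ * t⁻¹ := by rw [← mul_inv_rev]; exact eq_inv_of_mul_eq_one_left h2
  rwa [inv_eq_of_mul_eq_one_right (h.sq_V v hv), inv_eq_of_mul_eq_one_right ht2] at h3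

/-- The involutions of `R` outside `V` are conjugate. -/
theorem isConj_outside {s t : G} (hs : s ∈ V ⊔ A) (hsV : s ∉ V) (hs2 : s * s = 1)
    (ht : t ∈ V ⊔ A) (htV : t ∉ V) (ht2 : t * t = 1) : IsConj s t := by
  haveI := h.comm_V
  have hset := h.setting hC
  have hoff := h.isOffender hC
  obtain ⟨x, hx⟩ := hoff.exists_conj_ne hset
  obtain ⟨d, hd, hde⟩ := hoff.exists_torus_conj hset hx (h.image_mem hC hs)
    (h.image_ne_one hC hs hsV) (h.image_mem hC ht) (h.image_ne_one hC ht htV)
  obtain ⟨n, hn⟩ := (nrep V).rangeRestrict_surjective d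
  set v := t⁻¹ * ((n : G) * s * (n : G)⁻¹) with hv
  have hvV : v ∈ V := by
    refine h.centralizer_eq.le ((rep_eq_one_iff (le_refl _) ((⟨t, h.sup_le_normalizer ht⟩ :
      normalizer (V : Set G))⁻¹ * (n * ⟨s, h.sup_le_normalizer hs⟩ * n⁻¹))).1 (congrArg Subtype.val
        (show (nrep V).rangeRestrict _ = 1 from ?_)))
    rw [map_mul, map_mul, map_mul, map_inv, map_inv, hn, hde, inv_mul_cancel]
  have he : t * v = (n : G) * s * (n : G)⁻¹ := mul_inv_cancel_left _ _
  have h2 : t * v * (t * v) = 1 := by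
    rw [he]
    calc (n : G) * s * (n : G)⁻¹ * ((n : G) * s * (n : G)⁻¹) = n * (s * s) * (n : G)⁻¹ := by group
      _ = 1 := by rw [hs2, mul_one, mul_inv_cancel]
  obtain ⟨u, -, hu⟩ := h.exists_conj_eq_mul hC ht htV (h.mem_inf_of_mul_sq hC ht htV hvV ht2 h2)
  exact (isConj_iff.2 ⟨(n : G), he.symm⟩ : IsConj s (t * v)).trans
    (isConj_iff.2 ⟨u, hu⟩ : IsConj t (t * v)).symm

/-- The non-trivial elements of `V` are conjugate. -/
theorem isConj_inside {u v : G} (hu : u ∈ V) (hu1 : u ≠ 1) (hv : v ∈ V) (hv1 : v ≠ 1) :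
    IsConj u v := by
  haveI := h.comm_V
  have hset := h.setting hC
  have hoff := h.isOffender hC
  obtain ⟨x, hx⟩ := hoff.exists_conj_ne hset
  obtain ⟨a, ha, ha1⟩ := hoff.exists_mem hset
  obtain ⟨w, hw, hwA, -, -, hw3⟩ := hoff.exists_swap hset hx ha ha1
  have key : ∀ u : V, u ≠ 1 → ∃ g : (nrep V).range, g • u ∈ fixS (V := V) (nimg V A) := by
    intro u hu1
    by_cases huZ : u ∈ fixS (V := V) (nimg V A)
    · exact ⟨1, by rwa [one_smul]⟩
    set z := dlt a u with hz
    have hzZ : z ∈ fixS (V := V) (nimg V A) := hoff.dlt_mem hset ha u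
    have hz1 : z ≠ 1 := fun e => huZ (by rw [← hoff.fixE_eq hset ha ha1, ← ker_dlt]; exact e)
    have hsw : dlt a (w • z) = z := by
      rw [dlt_apply, hoff.smul_swap hset hx ha hw hwA hw3 hzZ, mul_div_cancel_left]
    have hk : u / (w • z) ∈ fixS (V := V) (nimg V A) := by
      rw [← hoff.fixE_eq hset ha ha1, ← ker_dlt, MonoidHom.mem_ker, map_div, hsw, ← hz, div_self']
    have hwz : w • z ∉ fixS (V := V) (nimg V A) := fun e => hz1 (by
      rw [← hoff.fixE_eq hset ha ha1, ← ker_dlt, MonoidHom.mem_ker, hsw] at e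
      exact e)
    obtain ⟨b, hb, hbe⟩ := hoff.exists_dlt_eq hset hwz hk
    refine ⟨w * b⁻¹, ?_⟩
    have h4 : b • w • z = u := by rw [smul_eq_dlt_mul, hbe, div_mul_cancel]
    rw [← h4, mul_smul, inv_smul_smul, smul_smul, ← pow_two, ← hw, pow_orderOf_eq_one, one_smul]
    exact hzZ
  obtain ⟨g, hg⟩ := key ⟨u, hu⟩ fun e => hu1 (congrArg Subtype.val e)
  obtain ⟨g', hg'⟩ := key ⟨v, hv⟩ fun e => hv1 (congrArg Subtype.val e)
  obtain ⟨d, -, hd⟩ := hoff.exists_torus_smul hset hx hg
    (fun e => hu1 (congrArg Subtype.val (smul_left_cancel g (e.trans (smul_one g).symm)))) hg'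
    (fun e => hv1 (congrArg Subtype.val (smul_left_cancel g' (e.trans (smul_one g').symm))))
  obtain ⟨n, hn⟩ := (nrep V).rangeRestrict_surjective (g'⁻¹ * d * g)
  refine isConj_iff.2 ⟨(n : G), ?_⟩
  have h5 : (nrep V).rangeRestrict n • (⟨u, hu⟩ : V) = ⟨v, hv⟩ := by
    rw [hn, mul_smul, mul_smul, hd, inv_smul_smul]
  rw [← Subtype.coe_inj, smul_coe] at h5
  exact h5

theorem card_normalizer :
    Nat.card (normalizer (V : Set G)) = (q + 1) * (q * (q - 1)) * q ^ 2 := by
  haveI := h.comm_V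
  have hk := (nrep V).ker.card_mul_index
  have hker : (nrep V).ker = V.subgroupOf (normalizer (V : Set G)) := by
    ext n
    rw [MonoidHom.mem_ker, rep_eq_one_iff, h.centralizer_eq, mem_subgroupOf]
  rw [Subgroup.index_ker, (h.isOffender hC).card_X (h.setting hC), h.card_nimg hC, hker,
    Nat.card_congr (Subgroup.subgroupOfEquivOfLe Subgroup.le_normalizer).toEquiv, h.card_V] at hk
  rw [← hk, mul_comm]

end NaturalLocal

variable {V A : Subgroup G} {q : ℕ}

/-- The main theorem of this file. -/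
theorem order_case [IsSimpleGroup G] (hC : IsCIT G) (h : NaturalLocal V A q) (hq : 2 < q)
    (hS : ∀ P : Subgroup G, IsPGroup 2 P → Nat.card P ≤ q ^ 3) :
    ∃ T : Subgroup G, q = 4 ∧ NaturalLocal V T 4 ∧ NaturalLocal T V 4 ∧
      (∀ s t : G, orderOf s = 2 → orderOf t = 2 → IsConj s t) ∧
      ∀ t : G, orderOf t = 2 → Nat.card (centralizer ({t} : Set G)) = 64 := by
  classical
  haveI : Fact (Nat.Prime 2) := ⟨Nat.prime_two⟩
  set R := V ⊔ A with hRdef
  let RS : Sylow 2 G := ⟨R, h.isPGroup_sup, fun {Q} hQ hle =>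
    (Subgroup.eq_of_le_of_card_ge hle (by rw [hRdef, h.card_sup]; exact hS Q hQ)).symm⟩
  have hmax : ∀ P : Subgroup G, IsPGroup 2 P → R ≤ P → P = R := fun P hP hle =>
    (Subgroup.eq_of_le_of_card_ge hle (by rw [hRdef, h.card_sup]; exact hS P hP)).symm
  -- a central involution
  obtain ⟨⟨z, hz⟩, hz1'⟩ := (A ⊓ V).ne_bot_iff_exists_ne_one.1
    ((Subgroup.one_lt_card_iff_ne_bot _).1 (by rw [h.card_inf]; omega))
  have hz1 : z ≠ 1 := fun e => hz1' (Subtype.ext e)
  have hCz : ∀ u ∈ A ⊓ V, u ≠ 1 → centralizer ({u} : Set G) = R := fun u hu hu1 =>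
    hmax _ (hC u (h.orderOf_two hC hu.2 hu1)) fun r hr =>
      mem_centralizer_singleton_iff.2 (h.commute_inf hr hu).eq
  have hcenter : ∀ u ∈ R, (∀ r ∈ R, Commute r u) → u ∈ A ⊓ V := fun u hu hc => by
    have huV : u ∈ V := h.mem_V_of_commute fun v hv => (hc v (mem_sup_left hv)).symm
    exact (h.inf_centralizer hC).le ⟨huV, fun a ha => (hc a (mem_sup_right ha)).eq⟩
  -- an involution outside `V`
  obtain ⟨a0, ha0, ha0V⟩ := SetLike.not_le_iff_exists.1 h.not_le
  obtain ⟨v0, hv0, ht0o, ht0V⟩ := h.exists_invol hC ha0 ha0V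
  set t := v0 * a0 with ht
  have htR : t ∈ R := mul_mem (mem_sup_left hv0) (mem_sup_right ha0)
  have ht2 : t * t = 1 := by rw [← pow_two, ← ht0o, pow_orderOf_eq_one]
  have hzo : orderOf z = 2 := h.orderOf_two hC hz.2 hz1
  have hout : ∀ s ∈ R, s ∉ V → s * s = 1 → IsConj s t := fun s hs hsV hs2 =>
    h.isConj_outside hC hs hsV hs2 htR ht0V ht2
  have hcl : ∀ s : G, orderOf s = 2 → IsConj s z ∨ IsConj s t := by
    intro s hs
    have hss : s * s = 1 := by rw [← pow_two, ← hs, pow_orderOf_eq_one]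
    have hP : IsPGroup 2 (zpowers s) := fun y => by
      obtain ⟨i, hi⟩ := Subgroup.mem_zpowers_iff.1 y.2
      refine ⟨1, Subtype.ext ?_⟩
      show (y : G) ^ 2 ^ 1 = 1
      rw [← hi, pow_one, ← zpow_natCast, ← zpow_mul, mul_comm, zpow_mul]
      simp [pow_two, hss]
    obtain ⟨Q, hQ⟩ := hP.exists_le_sylow
    obtain ⟨g, hg⟩ := MulAction.exists_smul_eq G RS Q
    have hmem : s ∈ (Q : Subgroup G) := hQ (mem_zpowers s)
    rw [← hg, Sylow.coe_subgroup_smul, Subgroup.mem_pointwise_smul_iff_inv_smul_mem] at hmem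
    have hmem' : g⁻¹ * s * g ∈ R := by simpa using hmem
    have hc : IsConj s (g⁻¹ * s * g) := isConj_iff.2 ⟨g⁻¹, by rw [inv_inv]⟩
    have h2 : g⁻¹ * s * g * (g⁻¹ * s * g) = 1 := by
      calc g⁻¹ * s * g * (g⁻¹ * s * g) = g⁻¹ * (s * s) * g := by group
        _ = 1 := by rw [hss, mul_one, inv_mul_cancel]
    by_cases hsV : g⁻¹ * s * g ∈ V
    · refine Or.inl (hc.trans (h.isConj_inside hC hsV (fun e => ?_) hz.2 hz1))
      rw [isConj_iff] at hc
      obtain ⟨c, hc⟩ := hc
      rw [e, conj_eq_one_iff] at hc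
      rw [hc, orderOf_one] at hs
      omega
    · exact Or.inr (hc.trans (hout _ hmem' hsV h2))
  by_cases hzt : IsConj z t
  · -- fused: two natural locals
    have hall : ∀ s : G, orderOf s = 2 → IsConj s z := fun s hs =>
      (hcl s hs).elim id fun e => e.trans hzt.symm
    obtain ⟨g, hg⟩ := isConj_iff.1 hzt
    set Rg := R.map (MulAut.conj g).toMonoidHom with hRg
    set Zg := (A ⊓ V).map (MulAut.conj g).toMonoidHom with hZg
    have hCt : centralizer ({t} : Set G) = Rg := by
      refine (Subgroup.eq_of_le_of_card_ge (fun r hr => ?_) ?_).symm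
      · obtain ⟨r', hr', rfl⟩ := hr
        rw [mem_centralizer_singleton_iff, ← hg]
        show g * r' * g⁻¹ * (g * z * g⁻¹) = g * z * g⁻¹ * (g * r' * g⁻¹)
        calc g * r' * g⁻¹ * (g * z * g⁻¹) = g * (r' * z) * g⁻¹ := by group
          _ = _ := by rw [(h.commute_inf hr' hz).eq]; group
      · rw [← hg, card_centralizer_conj, hCz z hz hz1, hRg,
          Subgroup.card_map_of_injective (MulAut.conj g).injective]
    have hZgc : ∀ u ∈ Zg, ∀ r ∈ Rg, Commute r u := by
      rintro _ ⟨u, hu, rfl⟩ _ ⟨r, hr, rfl⟩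
      exact (h.commute_inf hr hu).map (MulAut.conj g).toMonoidHom
    set T := R ⊓ centralizer ({t} : Set G) with hT
    have hTc : Nat.card T = q ^ 2 := h.card_inf_centralizer hC htR ht0V
    have hTRg : T ≤ Rg := inf_le_right.trans hCt.le
    have hZT : A ⊓ V ≤ T := fun u hu => ⟨mem_sup_left hu.2,
      mem_centralizer_singleton_iff.2 (h.commute_inf htR hu).eq.symm⟩
    have hZgT : Zg ≤ T := fun u hu => by
      have hum : u ∈ Rg := Subgroup.map_mono (inf_le_right.trans le_sup_left) hu
      refine ⟨(hCz z hz hz1).le (mem_centralizer_singleton_iff.2 ?_), hCt.ge hum⟩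
      exact (hZgc u hu z (hTRg (hZT hz))).eq.symm
    have hdisj : (A ⊓ V) ⊓ Zg = ⊥ := by
      rw [eq_bot_iff]
      rintro u ⟨hu, hug⟩
      rw [Subgroup.mem_bot]
      by_contra hu1
      refine ht0V (hcenter t htR fun r hr => ?_).2
      -- `R` and its conjugate coincide
      have hle : Rg ≤ R := fun r' hr' => (hCz u hu hu1).le
        (mem_centralizer_singleton_iff.2 (hZgc u hug r' hr').eq)
      have heq : Rg = R := Subgroup.eq_of_le_of_card_ge hle
        (by rw [hRg, Subgroup.card_map_of_injective (MulAut.conj g).injective])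
      exact mem_centralizer_singleton_iff.1 (hCt.ge (heq.ge hr))
    have hTsup : (A ⊓ V) ⊔ Zg = T := by
      refine Subgroup.eq_of_le_of_card_ge (sup_le hZT hZgT) ?_
      have := CfsgLib.PLocal.card_mul_card_le_sup_inf (A ⊓ V) Zg
      rw [hdisj, Subgroup.card_bot, mul_one, hZg,
        Subgroup.card_map_of_injective (MulAut.conj g).injective, h.card_inf, ← pow_two] at this
      rw [hTc]
      exact this
    have hZcomm : A ⊓ V ≤ centralizer (Zg : Set G) := fun u hu x hx =>
      (h.commute_inf (hZgT hx).1 hu).eq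
    have hTcomm : IsMulCommutative T := by
      rw [← hTsup]
      refine LocEven.comm_sup (IsMulCommutative.of_setLike_mul_comm fun x hx y hy =>
        h.comm_mem_V hx.2 hy.2) (IsMulCommutative.of_setLike_mul_comm ?_) hZcomm
      exact fun x hx y hy => (hZgc y hy x (hTRg (hZgT hx))).eq
    have hTsq : ∀ x ∈ T, x * x = 1 := by
      let E : Subgroup G :=
        { carrier := {x | x ∈ T ∧ x * x = 1}
          one_mem' := ⟨one_mem _, one_mul 1⟩
          mul_mem' := by
            rintro x y ⟨hx, hx2⟩ ⟨hy, hy2⟩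
            refine ⟨mul_mem hx hy, ?_⟩
            calc x * y * (x * y) = x * (y * x) * y := by group
              _ = (x * x) * (y * y) := by rw [LocEven.commute_of_comm hTcomm hy hx]; group
              _ = 1 := by rw [hx2, hy2, one_mul]
          inv_mem' := by
            rintro x ⟨hx, hx2⟩
            exact ⟨inv_mem hx, by rw [← mul_inv_rev, hx2, inv_one]⟩ }
      have hle : (A ⊓ V) ⊔ Zg ≤ E := by
        refine sup_le (fun x hx => ⟨hZT hx, h.sq_V x hx.2⟩) fun x hx => ⟨hZgT hx, ?_⟩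
        obtain ⟨u, hu, rfl⟩ := hx
        rw [← map_mul, h.sq_V u hu.2, map_one]
      exact fun x hx => (hle (hTsup.ge hx)).2
    have hTV : T ⊓ V = A ⊓ V := le_antisymm (fun u hu =>
      h.mem_inf_of_commute hC htR ht0V hu.2 (mem_centralizer_singleton_iff.1 hu.1.2).symm)
      (le_inf hZT inf_le_right)
    have hnV : NaturalLocal V T q := ⟨h.two_le, h.comm_V, h.sq_V, hTcomm, h.card_V, hTc,
      by rw [hTV, h.card_inf], inf_le_left.trans h.sup_le_normalizer, h.centralizer_eq, h.core_eq,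
      h.card_sylow⟩
    have hRgn : Rg ≤ normalizer (T : Set G) := by
      rintro _ ⟨r, hr, rfl⟩
      refine Subgroup.mem_normalizer_fintype fun x hx => ?_
      obtain ⟨x', hx', rfl⟩ := hTRg hx
      have e : (MulAut.conj g).toMonoidHom r * (MulAut.conj g).toMonoidHom x' *
          ((MulAut.conj g).toMonoidHom r)⁻¹ =
          (MulAut.conj g).toMonoidHom ⁅r, x'⁆ * (MulAut.conj g).toMonoidHom x' := by
        simp only [← map_inv, ← map_mul, commutatorElement_def]
        congr 1
        group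
      rw [e]
      exact mul_mem (hZgT ⟨_, h.commutator_mem hC hr hx', rfl⟩) hx
    have hRn : R ≤ normalizer (T : Set G) := h.sup_le_normalizer_of_inf_le hC hZT inf_le_left
    have hcoreT : Cfsg.pCoreOf 2 (normalizer (T : Set G)) = T := by
      have hP2 := isPGroup_pCoreOf_two (normalizer (T : Set G))
      have hin : ∀ Q : Subgroup G, IsPGroup 2 Q → Nat.card Q = q ^ 3 →
          Q ≤ normalizer (T : Set G) → Cfsg.pCoreOf 2 (normalizer (T : Set G)) ≤ Q := by
        intro Q hQ hQc hQn
        have hsup := hQ.to_sup_of_normal_right' hP2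
          (hQn.trans (le_normalizer_pCoreOf_two _))
        rw [Subgroup.eq_of_le_of_card_ge (le_sup_left : Q ≤ Q ⊔ Cfsg.pCoreOf 2 _)
          (by rw [hQc]; exact hS _ hsup)]
        exact le_sup_right
      refine le_antisymm (le_inf (hin R h.isPGroup_sup h.card_sup hRn) ?_)
        (le_pCoreOf_two Subgroup.le_normalizer (h.isPGroup_sup.to_le inf_le_left) le_rfl)
      refine le_trans (hin Rg (h.isPGroup_sup.map _) ?_ hRgn) hCt.ge
      rw [hRg, Subgroup.card_map_of_injective (MulAut.conj g).injective, h.card_sup]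
    have hCT : centralizer (T : Set G) = T := by
      refine le_antisymm (fun x hx => ⟨?_, ?_⟩) (LocEven.le_centralizer_self hTcomm)
      · exact (hCz z hz hz1).le (mem_centralizer_singleton_iff.2 (hx z (hZT hz)).symm)
      · exact mem_centralizer_singleton_iff.2
          (hx t ⟨htR, mem_centralizer_singleton_iff.2 rfl⟩).symm
    have hnT : NaturalLocal T V q := ⟨h.two_le, hTcomm, hTsq, h.comm_V, hTc, h.card_V,
      by rw [inf_comm, hTV, h.card_inf], le_sup_left.trans hRn, hCT, hcoreT,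
      fun P _ hP => hS P hP⟩
    have hq4 := eq_four_of_pair hC hnV hnT hq
    subst hq4
    refine ⟨T, rfl, hnV, hnT, fun s s' hs hs' => (hall s hs).trans (hall s' hs').symm,
      fun s hs => ?_⟩
    obtain ⟨c, hc⟩ := isConj_iff.1 (hall s hs).symm
    rw [← hc, card_centralizer_conj, hCz z hz hz1, hRdef, h.card_sup]
    norm_num
  · -- not fused: the order formula
    exfalso
    have hzI : ∀ x : G, IsConj z x → x * x = 1 := fun x hx => by
      obtain ⟨c, rfl⟩ := isConj_iff.1 hx
      calc c * z * c⁻¹ * (c * z * c⁻¹) = c * (z * z) * c⁻¹ := by group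
        _ = 1 := by rw [h.sq_V z hz.2, mul_one, mul_inv_cancel]
    have htI : ∀ x : G, IsConj t x → x * x = 1 := fun x hx => by
      obtain ⟨c, rfl⟩ := isConj_iff.1 hx
      calc c * t * c⁻¹ * (c * t * c⁻¹) = c * (t * t) * c⁻¹ := by group
        _ = 1 := by rw [ht2, mul_one, mul_inv_cancel]
    have hzV : ∀ x ∈ R, IsConj z x → x ∈ V := fun x hx hc => by
      by_contra hxV
      exact hzt (hc.trans (hout x hx hxV (hzI x hc)))
    have htV : ∀ x ∈ R, IsConj t x → x ∉ V := fun x hx hc hxV => by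
      refine hzt ((h.isConj_inside hC hz.2 hz1 hxV fun e => ?_).trans hc.symm)
      obtain ⟨c, hc⟩ := isConj_iff.1 hc
      rw [e, conj_eq_one_iff] at hc
      exact ht0V (hc ▸ one_mem V)
    -- the centraliser of `t`
    have hCtcard : Nat.card (centralizer ({t} : Set G)) = q ^ 2 := by
      obtain ⟨Q, hQ⟩ := (hC t ht0o).exists_le_sylow
      obtain ⟨g, hg⟩ := MulAction.exists_smul_eq G RS Q
      set t' := g⁻¹ * t * g with ht'
      have hconj : IsConj t t' := isConj_iff.2 ⟨g⁻¹, by rw [inv_inv]⟩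
      have hle : centralizer ({t'} : Set G) ≤ R := fun x hx => by
        have h1 : g * x * g⁻¹ ∈ centralizer ({t} : Set G) := by
          rw [mem_centralizer_singleton_iff] at hx ⊢
          calc g * x * g⁻¹ * t = g * (x * t') * g⁻¹ := by rw [ht']; group
            _ = t * (g * x * g⁻¹) := by rw [hx, ht']; group
        have hmem := hQ h1
        rw [← hg, Sylow.coe_subgroup_smul, Subgroup.mem_pointwise_smul_iff_inv_smul_mem] at hmem
        simpa [mul_assoc] using hmem
      have ht'R : t' ∈ R := hle (mem_centralizer_singleton_iff.2 rfl)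
      rw [show t = g * t' * g⁻¹ by rw [ht']; group, card_centralizer_conj,
        ← h.card_inf_centralizer hC ht'R (htV t' ht'R hconj), inf_eq_right.2 hle]
    have hCtR : centralizer ({t} : Set G) ≤ R := by
      have := Subgroup.eq_of_le_of_card_ge
        (inf_le_right : R ⊓ centralizer ({t} : Set G) ≤ centralizer ({t} : Set G))
        (by rw [hCtcard, hRdef, h.card_inf_centralizer hC htR ht0V])
      exact inf_eq_right.1 this
    -- the involutions outside `V`
    let I := {y : G // y ∈ R ∧ y ∉ V ∧ y * y = 1}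
    have hIcard : Nat.card I = (q - 1) * q := by
      haveI := h.comm_V
      haveI : Fintype (nimg V A) := Fintype.ofFinite _
      have hrep : ∀ b : {b : nimg V A // b ≠ 1}, ∃ y : I,
          (nrep V).rangeRestrict ⟨y, h.sup_le_normalizer y.2.1⟩ = (b.1 : (nrep V).range) := by
        rintro ⟨⟨b, hb⟩, hb1⟩
        obtain ⟨a, ha, rfl⟩ := (mem_img _ h.le_normalizer).1 hb
        have haV : a ∉ V := fun e => hb1 (Subtype.ext (Subtype.ext
          ((rep_eq_one_iff _ _).2 (LocEven.le_centralizer_self h.comm_V e))))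
        obtain ⟨v, hv, hvo, hvV⟩ := h.exists_invol hC ha haV
        refine ⟨⟨v * a, mul_mem (mem_sup_left hv) (mem_sup_right ha), hvV,
          by rw [← pow_two, ← hvo, pow_orderOf_eq_one]⟩, ?_⟩
        show (nrep V).rangeRestrict _ = (nrep V).rangeRestrict ⟨a, h.le_normalizer ha⟩
        rw [show (⟨v * a, _⟩ : normalizer (V : Set G)) =
          ⟨v, Subgroup.le_normalizer hv⟩ * ⟨a, h.le_normalizer ha⟩ from rfl, map_mul,
          show (nrep V).rangeRestrict ⟨v, Subgroup.le_normalizer hv⟩ = 1 from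
            Subtype.ext ((rep_eq_one_iff _ _).2 (LocEven.le_centralizer_self h.comm_V hv)),
          one_mul]
      choose y hy using hrep
      let F : {b : nimg V A // b ≠ 1} × ↥(A ⊓ V) → I := fun p =>
        ⟨(y p.1 : G) * p.2, mul_mem (y p.1).2.1 (mem_sup_left p.2.2.2),
          fun e => (y p.1).2.2.1 ((V.mul_mem_cancel_right p.2.2.2).1 e), by
            calc (y p.1 : G) * p.2 * ((y p.1 : G) * p.2)
                = (y p.1 : G) * (p.2 * (y p.1 : G)) * p.2 := by group
              _ = ((y p.1 : G) * (y p.1 : G)) * ((p.2 : G) * p.2) := by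
                  rw [← (h.commute_inf (y p.1).2.1 p.2.2).eq]; group
              _ = 1 := by rw [(y p.1).2.2.2, h.sq_V _ p.2.2.2, one_mul]⟩
      have himg : ∀ p, (nrep V).rangeRestrict ⟨F p, h.sup_le_normalizer (F p).2.1⟩ =
          (p.1.1 : (nrep V).range) := fun p => by
        rw [← hy p.1, show (⟨(F p : G), h.sup_le_normalizer (F p).2.1⟩ : normalizer (V : Set G)) =
          ⟨y p.1, h.sup_le_normalizer (y p.1).2.1⟩ * ⟨p.2, Subgroup.le_normalizer p.2.2.2⟩ from rfl,
          map_mul, show (nrep V).rangeRestrict ⟨p.2, Subgroup.le_normalizer p.2.2.2⟩ = 1 from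
            Subtype.ext ((rep_eq_one_iff _ _).2 (LocEven.le_centralizer_self h.comm_V p.2.2.2)),
          mul_one]
      have hF : Function.Bijective F := by
        constructor
        · rintro ⟨b, u⟩ ⟨b', u'⟩ he
          have hb : b = b' := Subtype.ext (Subtype.ext (by
            rw [← himg (b, u), ← himg (b', u')]
            simp only [he]))
          subst hb
          exact Prod.ext rfl (Subtype.ext (mul_left_cancel (congrArg Subtype.val he)))
        · rintro ⟨s, hs, hsV, hs2⟩
          let b : {b : nimg V A // b ≠ 1} := ⟨⟨_, h.image_mem hC hs⟩,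
            fun e => h.image_ne_one hC hs hsV (congrArg Subtype.val e)⟩
          have hvV : (y b : G)⁻¹ * s ∈ V := by
            refine h.centralizer_eq.le ((rep_eq_one_iff (le_refl _) ((⟨y b,
              h.sup_le_normalizer (y b).2.1⟩ : normalizer (V : Set G))⁻¹ *
              ⟨s, h.sup_le_normalizer hs⟩)).1 (congrArg Subtype.val
                (show (nrep V).rangeRestrict _ = 1 from ?_)))
            rw [map_mul, map_inv, hy b]
            exact inv_mul_cancel _
          refine ⟨(b, ⟨_, h.mem_inf_of_mul_sq hC (y b).2.1 (y b).2.2.1 hvV (y b).2.2.2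
            (by rw [mul_inv_cancel_left]; exact hs2)⟩), Subtype.ext (mul_inv_cancel_left _ _)⟩
      rw [← Nat.card_congr (Equiv.ofBijective F hF), Nat.card_prod, h.card_inf,
        Nat.card_eq_fintype_card, Fintype.card_subtype_compl, Fintype.card_subtype_eq,
        ← Nat.card_eq_fintype_card, h.card_nimg hC]
    have hcount_z : OrderFormula.count z t z = (q - 1) * q * q := by
      rw [← hIcard, ← h.card_inf, ← Nat.card_prod]
      choose x0 hx0V hx0 using fun y : I => h.exists_comm_eq hC y.2.1 y.2.2.1 hz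
      have hsq2 : ∀ (x : G) (y : I), x ∈ V →
          x * (y : G) * (x * (y : G)) = ((y : G) * x * (y : G)⁻¹ * x⁻¹)⁻¹ := fun x y hx => by
        rw [inv_eq_of_mul_eq_one_right y.2.2.2, inv_eq_of_mul_eq_one_right (h.sq_V x hx)]
        simp only [mul_inv_rev, inv_eq_of_mul_eq_one_right y.2.2.2,
          inv_eq_of_mul_eq_one_right (h.sq_V x hx), mul_assoc]
      let F : I × ↥(A ⊓ V) →
          {p : G × G // IsConj z p.1 ∧ IsConj t p.2 ∧ z ∈ zpowers (p.1 * p.2)} :=
        fun p => ⟨(x0 p.1 * p.2, p.1), by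
          have hxV : x0 p.1 * p.2 ∈ V := mul_mem (hx0V p.1) p.2.2.2
          have hc : (p.1 : G) * (x0 p.1 * p.2) * (p.1 : G)⁻¹ * (x0 p.1 * p.2)⁻¹ = z := by
            calc (p.1 : G) * (x0 p.1 * p.2) * (p.1 : G)⁻¹ * (x0 p.1 * p.2)⁻¹
                = (p.1 : G) * x0 p.1 * (p.2 * (p.1 : G)⁻¹ * (p.2 : G)⁻¹) * (x0 p.1)⁻¹ := by group
              _ = (p.1 : G) * x0 p.1 * (p.1 : G)⁻¹ * (x0 p.1)⁻¹ := by
                  rw [← (h.commute_inf (inv_mem p.1.2.1) p.2.2).eq, mul_inv_cancel_right]
              _ = z := hx0 p.1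
          refine ⟨h.isConj_inside hC hz.2 hz1 hxV fun e => hz1 ?_,
            (hout _ p.1.2.1 p.1.2.2.1 p.1.2.2.2).symm,
            mem_zpowers_iff.2 ⟨2, ?_⟩⟩
          · rw [← hc, show x0 p.1 * (p.2 : G) = 1 from e]; group
          · rw [zpow_two, hsq2 _ _ hxV, hc, inv_eq_of_mul_eq_one_right (h.sq_V z hz.2)]⟩
      refine (Nat.card_congr (Equiv.ofBijective F ⟨?_, ?_⟩)).symm
      · rintro ⟨y, u⟩ ⟨y', u'⟩ he
        have he' := congrArg Subtype.val he
        obtain rfl : y = y' := Subtype.ext (congrArg Prod.snd he')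
        exact Prod.ext rfl (Subtype.ext (mul_left_cancel (congrArg Prod.fst he')))
      · rintro ⟨⟨x, y⟩, hxz, hyt, hm⟩
        obtain ⟨hcx, hcy⟩ := commute_of_mem_zpowers (hzI x hxz) (htI y hyt) (h.sq_V z hz.2) hm
        have hxR : x ∈ R := (hCz z hz hz1).le (mem_centralizer_singleton_iff.2 hcx.eq)
        have hyR : y ∈ R := (hCz z hz hz1).le (mem_centralizer_singleton_iff.2 hcy.eq)
        have hxV := hzV x hxR hxz
        have hyV := htV y hyR hyt
        let Y : I := ⟨y, hyR, hyV, htI y hyt⟩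
        set c := y * x * y⁻¹ * x⁻¹ with hc
        have hcZ : c ∈ A ⊓ V := h.commutator_mem hC hyR (mem_sup_left hxV)
        have hxy : orderOf (x * y) ≠ 2 → c ≠ 1 := fun hne e => hne (by
          refine orderOf_eq_prime (by rw [pow_two, hsq2 x Y hxV]; exact inv_eq_one.2 e) fun e1 => ?_
          exact hyV (by rw [(inv_eq_of_mul_eq_one_right e1).symm]; exact inv_mem hxV))
        have hc1 : c ≠ 1 := hxy fun ho => by
          have hzxy : z = x * y :=
            OrderFormula.involution_unique hzo ho hm (mem_zpowers _)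
          exact hyV ((V.mul_mem_cancel_left hxV).1 (hzxy ▸ hz.2))
        have hcz : c = z := by
          refine OrderFormula.involution_unique (h.orderOf_two hC hcZ.2 hc1) hzo
            (mem_zpowers_iff.2 ⟨2, ?_⟩) hm
          rw [zpow_two, hsq2 x Y hxV]
          exact inv_eq_of_mul_eq_one_right (h.sq_V c hcZ.2)
        have hu : (x0 Y)⁻¹ * x ∈ A ⊓ V := by
          refine h.mem_inf_of_commute hC hyR hyV (mul_mem (inv_mem (hx0V Y)) hxV) ?_
          have e1 : y * x0 Y * y⁻¹ = z * x0 Y := by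
            rw [← hx0 Y]
            show y * x0 Y * y⁻¹ = y * x0 Y * y⁻¹ * (x0 Y)⁻¹ * x0 Y
            group
          have e2 : y * x * y⁻¹ = z * x := by rw [← hcz, hc]; group
          refine mul_inv_eq_iff_eq_mul.1 ?_
          calc y * ((x0 Y)⁻¹ * x) * y⁻¹ = (y * x0 Y * y⁻¹)⁻¹ * (y * x * y⁻¹) := by group
            _ = (x0 Y)⁻¹ * x := by rw [e1, e2]; group
        exact ⟨(Y, ⟨_, hu⟩), Subtype.ext (Prod.ext (mul_inv_cancel_left _ _) rfl)⟩
    have hcount_t : OrderFormula.count z t t = q - 1 := by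
      haveI : Fintype ↥(A ⊓ V) := Fintype.ofFinite _
      let F : {u : ↥(A ⊓ V) // u ≠ 1} →
          {p : G × G // IsConj z p.1 ∧ IsConj t p.2 ∧ t ∈ zpowers (p.1 * p.2)} := fun u =>
        ⟨((u.1 : G), t * (u.1 : G)), by
          have hu1 : (u.1 : G) ≠ 1 := fun e => u.2 (Subtype.ext e)
          refine ⟨h.isConj_inside hC hz.2 hz1 u.1.2.2 hu1, ?_, mem_zpowers_iff.2 ⟨1, ?_⟩⟩
          · refine (hout _ (mul_mem htR (mem_sup_left u.1.2.2))
              (fun e => ht0V ((V.mul_mem_cancel_right u.1.2.2).1 e)) ?_).symm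
            calc t * (u.1 : G) * (t * (u.1 : G)) = t * ((u.1 : G) * t) * u.1 := by group
              _ = (t * t) * ((u.1 : G) * u.1) := by
                  rw [← (h.commute_inf htR u.1.2).eq]; group
              _ = 1 := by rw [ht2, h.sq_V _ u.1.2.2, one_mul]
          · rw [zpow_one, ← mul_assoc, ← (h.commute_inf htR u.1.2).eq, mul_assoc,
              h.sq_V _ u.1.2.2, mul_one]⟩
      have hF : Function.Bijective F := by
        constructor
        · intro u u' he
          exact Subtype.ext (Subtype.ext (congrArg (fun p => (p.1).1) he))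
        · rintro ⟨⟨x, y⟩, hxz, hyt, hm⟩
          obtain ⟨hcx, hcy⟩ := commute_of_mem_zpowers (hzI x hxz) (htI y hyt) ht2 hm
          have hxR : x ∈ R := hCtR (mem_centralizer_singleton_iff.2 hcx.eq)
          have hyR : y ∈ R := hCtR (mem_centralizer_singleton_iff.2 hcy.eq)
          have hxV := hzV x hxR hxz
          have hyV := htV y hyR hyt
          have hxZ : x ∈ A ⊓ V := h.mem_inf_of_commute hC htR ht0V hxV hcx.symm
          have hxyo : orderOf (x * y) = 2 := orderOf_eq_prime (by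
            rw [pow_two]
            calc x * y * (x * y) = x * (y * x) * y := by group
              _ = (x * x) * (y * y) := by rw [(h.commute_inf hyR hxZ).eq]; group
              _ = 1 := by rw [hzI x hxz, htI y hyt, one_mul])
            fun e => hyV (by rw [(inv_eq_of_mul_eq_one_right e).symm]; exact inv_mem hxV)
          have hxy : t = x * y := OrderFormula.involution_unique ht0o hxyo hm (mem_zpowers _)
          refine ⟨⟨⟨x, hxZ⟩, fun e => ?_⟩, Subtype.ext (Prod.ext rfl ?_)⟩
          · obtain ⟨c, hc⟩ := isConj_iff.1 hxz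
            have e' : x = 1 := congrArg Subtype.val e
            rw [e', conj_eq_one_iff] at hc
            exact hz1 hc
          · show t * x = y
            rw [(h.commute_inf htR hxZ).eq, hxy, ← mul_assoc, hzI x hxz, one_mul]
      rw [OrderFormula.count, ← Nat.card_congr (Equiv.ofBijective F hF),
        Nat.card_eq_fintype_card, Fintype.card_subtype_compl, Fintype.card_subtype_eq,
        ← Nat.card_eq_fintype_card, h.card_inf]
    have hG := OrderFormula.card_group z t hzo ht0o hzt hcl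
    rw [hcount_z, hcount_t, hCtcard, hCz z hz hz1, hRdef, h.card_sup] at hG
    have htop : normalizer (V : Set G) = ⊤ := by
      refine Subgroup.eq_top_of_card_eq _ ?_
      rw [hG, h.card_normalizer hC]
      ring
    haveI : V.Normal := normalizer_eq_top_iff.1 htop
    rcases Subgroup.Normal.eq_bot_or_eq_top ‹V.Normal› with e | e
    · exact h.ne_bot e
    · exact h.not_le (e ▸ le_top)

end CfsgLib.CIT
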