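import Mathlib.GroupTheory.Index
import Mathlib.GroupTheory.GroupAction.Quotient
import Mathlib.GroupTheory.Perm.Cycle.Type
import Mathlib.GroupTheory.Sylow
import Mathlib.Algebra.BigOperators.Ring.Finset

/-!
# The projective plane of order four of a CIT-group

The points and the lines are the cosets of two subgroups of order `960`; two points lie on exactly one line
and there are `21` of each, so the group has order `20160`.
-/

set_option autoImplicit false

namespace CfsgLib.CIT.Natural

open Subgroup MulAction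

variable {G : Type*} [Group G]

/-- The local data: two subgroups of type `2^4 : A₅` meeting in a Borel subgroup. -/
structure PlaneHyp (M L W E : Subgroup G) : Prop where
  cardM : Nat.card M = 960
  cardL : Nat.card L = 960
  cardB : Nat.card (M ⊓ L : Subgroup G) = 192
  cardW : Nat.card W = 16
  cardE : Nat.card E = 16
  W_comm : ∀ x ∈ W, ∀ y ∈ W, x * y = y * x
  E_comm : ∀ x ∈ E, ∀ y ∈ E, x * y = y * x
  W_sq : ∀ x ∈ W, x * x = 1
  E_sq : ∀ x ∈ E, x * x = 1
  W_le_M : W ≤ M
  E_le_L : E ≤ L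
  M_norm : M ≤ normalizer (W : Set G)
  L_norm : L ≤ normalizer (E : Set G)
  W_le : W ≤ L
  E_le : E ≤ M
  cardWE : Nat.card (W ⊓ E : Subgroup G) = 4
  invM : Nat.card {t : G // t ∈ M ∧ orderOf t = 2} = 75
  invL : Nat.card {t : G // t ∈ L ∧ orderOf t = 2} = 75
  cent : ∀ t : G, orderOf t = 2 → Nat.card (centralizer ({t} : Set G)) = 64
  conj : ∀ t s : G, orderOf t = 2 → orderOf s = 2 → IsConj t s
  meet : ∀ m ∈ M, m ∉ L → ∀ x ∈ W ⊓ E, m * x * m⁻¹ ∈ E → x = 1
  reg : ∀ h ∈ L, h ∉ M → ∀ w ∈ W, h⁻¹ * w * h ∈ M → w ∈ E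
  no15 : ∀ D : Subgroup G, D ≤ M → Nat.card D ≠ 15

/-- Incidence of a point and a line. -/
def Inc (M L : Subgroup G) (p : G ⧸ M) (l : G ⧸ L) : Prop :=
  ∃ g : G, (g : G ⧸ M) = p ∧ (g : G ⧸ L) = l

variable {M L W E : Subgroup G}

theorem smul_coe (g h : G) (K : Subgroup G) : g • (h : G ⧸ K) = ((g * h : G) : G ⧸ K) := rfl

theorem smul_coe_eq_iff (g h : G) (K : Subgroup G) :
    g • (h : G ⧸ K) = (h : G ⧸ K) ↔ h⁻¹ * g * h ∈ K := by
  rw [smul_coe, QuotientGroup.eq, ← inv_mem_iff]
  congr! 1
  group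

theorem smul_base_eq_iff (g : G) (K : Subgroup G) :
    g • ((1 : G) : G ⧸ K) = ((1 : G) : G ⧸ K) ↔ g ∈ K := by
  rw [smul_coe_eq_iff]; simp

theorem inc_smul {p : G ⧸ M} {l : G ⧸ L} (h : Inc M L p l) (g : G) : Inc M L (g • p) (g • l) := by
  obtain ⟨a, rfl, rfl⟩ := h
  exact ⟨g * a, rfl, rfl⟩

theorem inc_smul_iff {p : G ⧸ M} {l : G ⧸ L} (g : G) : Inc M L (g • p) (g • l) ↔ Inc M L p l := by
  refine ⟨fun h => ?_, fun h => inc_smul h g⟩
  have := inc_smul h g⁻¹
  rwa [inv_smul_smul, inv_smul_smul] at this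

theorem inc_base_line {p : G ⧸ M} : Inc M L p ((1 : G) : G ⧸ L) ↔ ∃ h ∈ L, (h : G ⧸ M) = p := by
  constructor
  · rintro ⟨g, rfl, hg⟩
    refine ⟨g, ?_, rfl⟩
    rw [QuotientGroup.eq, mul_one, inv_mem_iff] at hg
    exact hg
  · rintro ⟨h, hh, rfl⟩
    exact ⟨h, rfl, by rw [QuotientGroup.eq, mul_one]; exact inv_mem hh⟩

theorem inc_base_point {l : G ⧸ L} : Inc M L ((1 : G) : G ⧸ M) l ↔ ∃ m ∈ M, (m : G ⧸ L) = l := by
  constructor
  · rintro ⟨g, hg, rfl⟩
    refine ⟨g, ?_, rfl⟩
    rw [QuotientGroup.eq, mul_one, inv_mem_iff] at hg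
    exact hg
  · rintro ⟨h, hh, rfl⟩
    exact ⟨h, by rw [QuotientGroup.eq, mul_one]; exact inv_mem hh, rfl⟩

variable [Finite G]

theorem card_pts (H : PlaneHyp M L W E) (l : G ⧸ L) : Nat.card {p : G ⧸ M // Inc M L p l} = 5 := by
  obtain ⟨g, rfl⟩ := QuotientGroup.mk_surjective l
  have e1 : Nat.card {p : G ⧸ M // Inc M L p (g : G ⧸ L)} =
      Nat.card {p : G ⧸ M // Inc M L p ((1 : G) : G ⧸ L)} := by
    refine Nat.card_congr (Equiv.subtypeEquiv (MulAction.toPerm g⁻¹) fun p => ?_)
    rw [MulAction.toPerm_apply, ← inc_smul_iff (L := L) g⁻¹, smul_coe, inv_mul_cancel]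
  let f : L ⧸ M.subgroupOf L → {p : G ⧸ M // Inc M L p ((1 : G) : G ⧸ L)} := fun q =>
    Quotient.liftOn' q (fun h => ⟨((h : G) : G ⧸ M), inc_base_line.2 ⟨h, h.2, rfl⟩⟩) fun a b hab => by
      rw [QuotientGroup.leftRel_apply, mem_subgroupOf] at hab
      exact Subtype.ext (QuotientGroup.eq.2 (by simpa using hab))
  have hf : Function.Bijective f := by
    constructor
    · intro a b hab
      induction a using QuotientGroup.induction_on
      induction b using QuotientGroup.induction_on
      apply QuotientGroup.eq.2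
      rw [mem_subgroupOf]
      simpa [f] using QuotientGroup.eq.1 (congrArg Subtype.val hab)
    · rintro ⟨p, hp⟩
      obtain ⟨h, hh, rfl⟩ := inc_base_line.1 hp
      exact ⟨QuotientGroup.mk ⟨h, hh⟩, rfl⟩
  rw [e1, ← Nat.card_congr (Equiv.ofBijective f hf), ← Subgroup.index_eq_card]
  have h1 : (M ⊓ L).relIndex L * Nat.card (M ⊓ L : Subgroup G) = Nat.card L := by
    have := Subgroup.relIndex_mul_relIndex ⊥ (M ⊓ L) L bot_le inf_le_right
    rw [relIndex_bot_left, relIndex_bot_left] at this
    rw [mul_comm]; exact this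
  rw [inf_relIndex_right, H.cardB, H.cardL] at h1
  change M.relIndex L = 5
  omega

theorem card_lines_through (H : PlaneHyp M L W E) (p : G ⧸ M) :
    Nat.card {l : G ⧸ L // Inc M L p l} = 5 := by
  obtain ⟨g, rfl⟩ := QuotientGroup.mk_surjective p
  have e1 : Nat.card {l : G ⧸ L // Inc M L (g : G ⧸ M) l} =
      Nat.card {l : G ⧸ L // Inc M L ((1 : G) : G ⧸ M) l} := by
    refine Nat.card_congr (Equiv.subtypeEquiv (MulAction.toPerm g⁻¹) fun p => ?_)
    rw [MulAction.toPerm_apply, ← inc_smul_iff (M := M) g⁻¹, smul_coe, inv_mul_cancel]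
  let f : M ⧸ L.subgroupOf M → {l : G ⧸ L // Inc M L ((1 : G) : G ⧸ M) l} := fun q =>
    Quotient.liftOn' q (fun h => ⟨((h : G) : G ⧸ L), inc_base_point.2 ⟨h, h.2, rfl⟩⟩) fun a b hab => by
      rw [QuotientGroup.leftRel_apply, mem_subgroupOf] at hab
      exact Subtype.ext (QuotientGroup.eq.2 (by simpa using hab))
  have hf : Function.Bijective f := by
    constructor
    · intro a b hab
      induction a using QuotientGroup.induction_on
      induction b using QuotientGroup.induction_on
      apply QuotientGroup.eq.2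
      rw [mem_subgroupOf]
      simpa [f] using QuotientGroup.eq.1 (congrArg Subtype.val hab)
    · rintro ⟨p, hp⟩
      obtain ⟨h, hh, rfl⟩ := inc_base_point.1 hp
      exact ⟨QuotientGroup.mk ⟨h, hh⟩, rfl⟩
  rw [e1, ← Nat.card_congr (Equiv.ofBijective f hf), ← Subgroup.index_eq_card]
  have h1 : (M ⊓ L).relIndex M * Nat.card (M ⊓ L : Subgroup G) = Nat.card M := by
    have := Subgroup.relIndex_mul_relIndex ⊥ (M ⊓ L) M bot_le inf_le_left
    rw [relIndex_bot_left, relIndex_bot_left] at this
    rw [mul_comm]; exact this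
  rw [inf_relIndex_left, H.cardB, H.cardM] at h1
  change L.relIndex M = 5
  omega

theorem conj_mem_E (H : PlaneHyp M L W E) {h e : G} (hh : h ∈ L) (he : e ∈ E) :
    h⁻¹ * e * h ∈ E := by
  have := (mem_normalizer_iff''.1 (H.L_norm hh) e).1 he
  exact this

theorem E_fix (H : PlaneHyp M L W E) {e : G} (he : e ∈ E) {p : G ⧸ M}
    (hp : Inc M L p ((1 : G) : G ⧸ L)) : e • p = p := by
  obtain ⟨h, hh, rfl⟩ := inc_base_line.1 hp
  rw [smul_coe_eq_iff]
  exact H.E_le (conj_mem_E H hh he)

/-- Two points lie on at most one line. -/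
theorem line_unique (H : PlaneHyp M L W E) {p p' : G ⧸ M} {l l' : G ⧸ L} (hne : p ≠ p')
    (h1 : Inc M L p l) (h2 : Inc M L p' l) (h3 : Inc M L p l') (h4 : Inc M L p' l') : l = l' := by
  obtain ⟨g, rfl, rfl⟩ := h1
  have h2' := inc_smul h2 g⁻¹
  have h3' := inc_smul h3 g⁻¹
  have h4' := inc_smul h4 g⁻¹
  simp only [smul_coe, inv_mul_cancel] at h2' h3' h4'
  obtain ⟨m, hm, hml⟩ := inc_base_point.1 h3'
  obtain ⟨h, hh, hhp⟩ := inc_base_line.1 h2'
  have hhM : h ∉ M := fun hM => hne (by
    have : g⁻¹ • p' = ((1 : G) : G ⧸ M) := by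
      rw [← hhp, QuotientGroup.eq, mul_one]; exact inv_mem hM
    rw [inv_smul_eq_iff, smul_coe, mul_one] at this
    exact this.symm)
  suffices hmL : m ∈ L by
    have : g⁻¹ • l' = ((1 : G) : G ⧸ L) := by
      rw [← hml, QuotientGroup.eq, mul_one]; exact inv_mem hmL
    rw [inv_smul_eq_iff, smul_coe, mul_one] at this
    exact this.symm
  by_contra hmL
  have hbot : W ⊓ E = ⊥ := by
    rw [eq_bot_iff]
    intro x hx
    obtain ⟨a, ha1, ha2⟩ := h4'
    have hv : m * x * m⁻¹ ∈ W := (mem_normalizer_iff.1 (H.M_norm hm) x).1 hx.1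
    have hal : m⁻¹ * a ∈ L := by
      rw [← hml] at ha2; exact QuotientGroup.eq.1 ha2.symm
    have hfix : a⁻¹ * (m * x * m⁻¹) * a ∈ M := by
      have := H.E_le (conj_mem_E H hal hx.2)
      convert this using 1
      group
    have hh' : h⁻¹ * (m * x * m⁻¹) * h ∈ M := by
      rw [← smul_coe_eq_iff] at hfix ⊢
      rwa [hhp, ← ha1]
    exact mem_bot.2 (H.meet m hm hmL x hx (H.reg h hh hhM _ hv hh'))
  have := H.cardWE
  rw [hbot, card_bot] at this
  omega

variable [Fintype G] [DecidableEq G]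

/-- The involutions. -/
noncomputable def invols (G : Type*) [Group G] [Fintype G] [DecidableEq G] : Finset G :=
  Finset.univ.filter fun t => orderOf t = 2

theorem mem_invols {t : G} : t ∈ invols G ↔ orderOf t = 2 := by simp [invols]

theorem orderOf_conj (g t : G) : orderOf (g * t * g⁻¹) = orderOf t :=
  MulEquiv.orderOf_eq (MulAut.conj g) t

theorem orderOf_conj' (g t : G) : orderOf (g⁻¹ * t * g) = orderOf t := by
  simpa using orderOf_conj g⁻¹ t

theorem exists_invol_E (H : PlaneHyp M L W E) : ∃ z ∈ E, orderOf z = 2 := by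
  haveI : Fact (Nat.Prime 2) := ⟨Nat.prime_two⟩
  obtain ⟨z, hz⟩ := exists_prime_orderOf_dvd_card' (G := E) 2 (by rw [H.cardE]; norm_num)
  exact ⟨z, z.2, by rw [Subgroup.orderOf_coe]; exact hz⟩

theorem card_invols_mul (H : PlaneHyp M L W E) : (invols G).card * 64 = Nat.card G := by
  obtain ⟨z, -, hz⟩ := exists_invol_E H
  have hmaps : ∀ g ∈ (Finset.univ : Finset G), g * z * g⁻¹ ∈ invols G := fun g _ => by
    rw [mem_invols, orderOf_conj, hz]
  rw [Nat.card_eq_fintype_card, ← Finset.card_univ, Finset.card_eq_sum_card_fiberwise hmaps,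
    Finset.sum_const_nat (m := 64)]
  intro t ht
  obtain ⟨a, ha⟩ := isConj_iff.1 (H.conj z t hz (mem_invols.1 ht))
  rw [← H.cent t (mem_invols.1 ht), ← Fintype.card_coe, ← Nat.card_eq_fintype_card]
  refine Nat.card_congr ((Equiv.mulRight a⁻¹).subtypeEquiv fun g => ?_)
  simp only [Equiv.coe_mulRight, Finset.mem_filter, Finset.mem_univ, true_and,
    mem_centralizer_singleton_iff]
  rw [← ha]
  constructor
  · intro h
    calc g * a⁻¹ * (a * z * a⁻¹) = g * z * g⁻¹ * (g * a⁻¹) := by group
      _ = a * z * a⁻¹ * (g * a⁻¹) := by rw [h]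
  · intro h
    calc g * z * g⁻¹ = g * a⁻¹ * (a * z * a⁻¹) * (g * a⁻¹)⁻¹ := by group
      _ = a * z * a⁻¹ := by rw [h]; group

theorem card_points_mul (H : PlaneHyp M L W E) : Nat.card G = Nat.card (G ⧸ M) * 960 := by
  rw [← H.cardM]; exact Subgroup.card_eq_card_quotient_mul_card_subgroup M

theorem card_invols (H : PlaneHyp M L W E) : (invols G).card = 15 * Nat.card (G ⧸ M) := by
  have := card_invols_mul H
  rw [card_points_mul H] at this
  omega

theorem card_invols_stab (H : PlaneHyp M L W E) (p : G ⧸ M) [DecidableEq (G ⧸ M)] :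
    ((invols G).filter fun t => t • p = p).card = 75 := by
  obtain ⟨g, rfl⟩ := QuotientGroup.mk_surjective p
  rw [← H.invM, ← Fintype.card_coe, ← Nat.card_eq_fintype_card]
  refine Nat.card_congr ((MulAut.conj g⁻¹).toEquiv.subtypeEquiv fun t => ?_)
  simp only [Finset.mem_filter, mem_invols, MulEquiv.toEquiv_eq_coe, EquivLike.coe_coe,
    MulAut.conj_apply, inv_inv, smul_coe_eq_iff]
  rw [show orderOf (g⁻¹ * t * g) = orderOf t from by simpa using orderOf_conj g⁻¹ t]
  tauto

theorem card_fix (H : PlaneHyp M L W E) {t : G} (ht : orderOf t = 2) :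
    Nat.card {p : G ⧸ M // t • p = p} = 5 := by
  classical
  haveI := Fintype.ofFinite (G ⧸ M)
  have hconst : ∀ s ∈ invols G, (Finset.univ.filter fun p : G ⧸ M => s • p = p).card =
      (Finset.univ.filter fun p : G ⧸ M => t • p = p).card := by
    intro s hs
    obtain ⟨c, hc⟩ := isConj_iff.1 (H.conj s t (mem_invols.1 hs) ht)
    refine Finset.card_equiv (MulAction.toPerm c) fun p => ?_
    simp only [Finset.mem_filter, Finset.mem_univ, true_and, MulAction.toPerm_apply, ← hc]
    rw [show (c * s * c⁻¹) • c • p = c • s • p from by simp [mul_smul]]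
    exact (smul_left_cancel_iff c).symm
  have h2 : ∑ s ∈ invols G, (Finset.univ.filter fun p : G ⧸ M => s • p = p).card =
      ∑ p : G ⧸ M, ((invols G).filter fun s => s • p = p).card := by
    simp only [Finset.card_filter]
    exact Finset.sum_comm
  rw [Finset.sum_const_nat hconst, Finset.sum_congr rfl fun p _ => card_invols_stab H p,
    Finset.sum_const, Finset.card_univ, smul_eq_mul, ← Nat.card_eq_fintype_card,
    card_invols H] at h2
  have hn : 0 < Nat.card (G ⧸ M) := Nat.card_pos
  rw [Nat.card_eq_fintype_card, Fintype.card_subtype]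
  nlinarith

theorem fix_of_mem_E (H : PlaneHyp M L W E) {z : G} (hz : z ∈ E) (h2 : orderOf z = 2) (p : G ⧸ M) :
    z • p = p ↔ Inc M L p ((1 : G) : G ⧸ L) := by
  have hsub : {p : G ⧸ M | Inc M L p ((1 : G) : G ⧸ L)} ⊆ {p | z • p = p} := fun p hp => E_fix H hz hp
  have := Set.eq_of_subset_of_ncard_le hsub (le_of_eq ((card_fix H h2).trans (card_pts H _).symm))
  exact (Set.ext_iff.1 this p).symm

theorem exists_axis (H : PlaneHyp M L W E) {t : G} (ht : orderOf t = 2) :
    ∃ g : G, g⁻¹ * t * g ∈ E ∧ ∀ p : G ⧸ M, t • p = p ↔ Inc M L p (g : G ⧸ L) := by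
  obtain ⟨z, hz, hz2⟩ := exists_invol_E H
  obtain ⟨g, hg⟩ := isConj_iff.1 (H.conj z t hz2 ht)
  refine ⟨g, by rw [← hg]; simpa [mul_assoc] using hz, fun p => ?_⟩
  rw [← inc_smul_iff g⁻¹, smul_coe, inv_mul_cancel, ← fix_of_mem_E H hz hz2, ← hg]
  simp [mul_smul, smul_eq_iff_eq_inv_smul g]

theorem fix_line_of_notMem (H : PlaneHyp M L W E) {t : G} (ht : orderOf t = 2) (htL : t ∈ L)
    (htE : t ∉ E) [Fintype (G ⧸ M)] [DecidableEq (G ⧸ M)] [DecidablePred fun p => Inc M L p ((1 : G) : G ⧸ L)] :
    ((Finset.univ.filter fun p : G ⧸ M => Inc M L p ((1 : G) : G ⧸ L)).filter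
      fun p => t • p = p).card = 1 := by
  set s := Finset.univ.filter fun p : G ⧸ M => Inc M L p ((1 : G) : G ⧸ L) with hs
  have hcard : s.card = 5 := by
    rw [hs, ← Fintype.card_subtype, ← Nat.card_eq_fintype_card, card_pts H]
  apply le_antisymm
  · rw [Finset.card_le_one]
    intro a ha b hb
    simp only [hs, Finset.mem_filter, Finset.mem_univ, true_and] at ha hb
    by_contra hab
    obtain ⟨g, hg, hfix⟩ := exists_axis H ht
    have := line_unique H hab ha.1 hb.1 ((hfix a).1 ha.2) ((hfix b).1 hb.2)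
    rw [QuotientGroup.eq] at this
    simp only [inv_one, one_mul] at this
    apply htE
    have := conj_mem_E H (inv_mem this) hg
    simpa [mul_assoc] using this
  · by_contra hlt
    have hstab : ∀ p, Inc M L p ((1 : G) : G ⧸ L) ↔ Inc M L (t • p) ((1 : G) : G ⧸ L) := fun p => by
      rw [← inc_smul_iff (l := ((1 : G) : G ⧸ L)) t, (smul_base_eq_iff t L).2 htL]
    let σ : Equiv.Perm {p : G ⧸ M // Inc M L p ((1 : G) : G ⧸ L)} :=
      (MulAction.toPerm t).subtypePerm fun p => (hstab p).symm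
    have htt : t * t = 1 := by
      have := pow_orderOf_eq_one t; rwa [ht, pow_two] at this
    have hσ : σ ^ 2 = 1 := by
      ext p
      rw [pow_two]
      show t • t • p.1 = p.1
      rw [← mul_smul, htt, one_smul]
    have heven := Equiv.Perm.two_dvd_card_support hσ
    have hsupp : σ.support = Finset.univ := by
      ext p
      simp only [Equiv.Perm.mem_support, Finset.mem_univ, iff_true]
      intro hp
      apply hlt
      refine Finset.card_pos.2 ⟨p.1, ?_⟩
      simp only [hs, Finset.mem_filter, Finset.mem_univ, true_and]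
      exact ⟨p.2, congrArg Subtype.val hp⟩
    rw [hsupp, Finset.card_univ, Fintype.card_subtype, ← hs, hcard] at heven
    omega

theorem card_invols_mem (H : PlaneHyp M L W E) [DecidablePred (· ∈ L)] :
    ((invols G).filter fun t => t ∈ L).card = 75 := by
  rw [← H.invL, ← Fintype.card_coe, ← Nat.card_eq_fintype_card]
  exact Nat.card_congr (Equiv.subtypeEquivRight fun t => by simp [mem_invols, and_comm])

theorem card_invols_mem_E (H : PlaneHyp M L W E) [DecidablePred (· ∈ E)] :
    ((invols G).filter fun t => t ∈ E).card = 15 := by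
  have heq : ((invols G).filter fun t => t ∈ E) = (Finset.univ.filter fun t => t ∈ E).erase 1 := by
    ext t
    simp only [Finset.mem_filter, mem_invols, Finset.mem_erase, Finset.mem_univ, true_and]
    constructor
    · rintro ⟨h, h'⟩
      exact ⟨fun e => by rw [e, orderOf_one] at h; omega, h'⟩
    · rintro ⟨h, h'⟩
      exact ⟨orderOf_eq_prime (by rw [pow_two]; exact H.E_sq t h') h, h'⟩
  rw [heq, Finset.card_erase_of_mem (by simp), ← Fintype.card_subtype,
    ← Nat.card_eq_fintype_card]
  have := H.cardE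
  change Nat.card {t // t ∈ E} = 16 at this
  omega

/-- Involutions of a line stabiliser moving a given point of that line. -/
theorem card_swap_line (H : PlaneHyp M L W E) {l : G ⧸ L} {p : G ⧸ M} (hp : Inc M L p l)
    [DecidableEq (G ⧸ M)] [DecidableEq (G ⧸ L)] :
    ((invols G).filter fun t => t • l = l ∧ t • p ≠ p).card = 48 := by
  classical
  haveI := Fintype.ofFinite (G ⧸ M)
  -- reduce to the base line
  have hconj : ∀ (g : G) (q : G ⧸ M),
      ((invols G).filter fun t => t • g • ((1 : G) : G ⧸ L) = g • ((1 : G) : G ⧸ L) ∧ t • g • q = g • q).card =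
      ((invols G).filter fun t => t ∈ L ∧ t • q = q).card := by
    intro g q
    refine Finset.card_equiv (MulAut.conj g⁻¹).toEquiv fun t => ?_
    simp only [Finset.mem_filter, mem_invols, MulEquiv.toEquiv_eq_coe, EquivLike.coe_coe,
      MulAut.conj_apply, inv_inv, orderOf_conj', ← smul_base_eq_iff, mul_smul, inv_smul_eq_iff]
  set I := (invols G).filter fun t => t ∈ L with hI
  set P := Finset.univ.filter fun q : G ⧸ M => Inc M L q ((1 : G) : G ⧸ L) with hP
  have hPc : P.card = 5 := by
    rw [hP, ← Fintype.card_subtype, ← Nat.card_eq_fintype_card, card_pts H]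
  have hrow : ∀ q ∈ P, ((invols G).filter fun t => t ∈ L ∧ t • q = q).card =
      ((invols G).filter fun t => t ∈ L ∧ t • ((1 : G) : G ⧸ M) = ((1 : G) : G ⧸ M)).card := by
    intro q hq
    obtain ⟨h, hh, rfl⟩ := inc_base_line.1 (Finset.mem_filter.1 hq).2
    refine Finset.card_equiv (MulAut.conj h⁻¹).toEquiv fun t => ?_
    simp only [Finset.mem_filter, mem_invols, MulEquiv.toEquiv_eq_coe, EquivLike.coe_coe,
      MulAut.conj_apply, inv_inv, orderOf_conj', smul_coe_eq_iff, inv_one, one_mul, mul_one]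
    rw [Subgroup.mul_mem_cancel_right _ hh, Subgroup.mul_mem_cancel_left _ (inv_mem hh)]
  have hcomm : ∑ q ∈ P, (I.filter fun t => t • q = q).card =
      ∑ t ∈ I, (P.filter fun q => t • q = q).card := by
    simp only [Finset.card_filter]
    exact Finset.sum_comm
  have hIE : (I.filter fun t => t ∈ E).card = 15 := by
    rw [← card_invols_mem_E H, hI, Finset.filter_filter]
    congr 1
    ext t
    simp only [Finset.mem_filter]
    exact ⟨fun h => ⟨h.1, h.2.2⟩, fun h => ⟨h.1, H.E_le_L h.2, h.2⟩⟩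
  have hInE : (I.filter fun t => t ∉ E).card = 60 := by
    have := Finset.card_filter_add_card_filter_not (s := I) (fun t => t ∈ E)
    have hIc : I.card = 75 := card_invols_mem H
    omega
  have hlhs : ∑ q ∈ P, (I.filter fun t => t • q = q).card = 5 *
      ((invols G).filter fun t => t ∈ L ∧ t • ((1 : G) : G ⧸ M) = ((1 : G) : G ⧸ M)).card := by
    rw [← hPc]
    refine Finset.sum_const_nat fun q hq => ?_
    rw [hI, Finset.filter_filter]
    exact hrow q hq
  rw [hlhs, ← Finset.sum_filter_add_sum_filter_not I (fun t => t ∈ E),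
    Finset.sum_const_nat (m := 5) (s := I.filter fun t => t ∈ E) fun t ht => by
      rw [Finset.filter_eq_self.2 fun q hq => E_fix H (Finset.mem_filter.1 ht).2
        (Finset.mem_filter.1 hq).2, hPc],
    Finset.sum_const_nat (m := 1) (s := I.filter fun t => t ∉ E) fun t ht => by
      obtain ⟨ht, htE⟩ := Finset.mem_filter.1 ht
      obtain ⟨ht2, htL⟩ := Finset.mem_filter.1 ht
      exact fix_line_of_notMem H (mem_invols.1 ht2) htL htE,
    hIE, hInE] at hcomm
  obtain ⟨g, rfl, rfl⟩ := hp
  have h1 : ((invols G).filter fun t => t • (g : G ⧸ L) = (g : G ⧸ L) ∧ t • (g : G ⧸ M) = (g : G ⧸ M)).card =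
      ((invols G).filter fun t => t ∈ L ∧ t • ((1 : G) : G ⧸ M) = ((1 : G) : G ⧸ M)).card := by
    rw [← hconj g]
    congr 1
    ext t
    rw [Finset.mem_filter, Finset.mem_filter]
    simp only [smul_coe, mul_one]
  have hline : ((invols G).filter fun t => t • (g : G ⧸ L) = (g : G ⧸ L)).card = 75 := by
    rw [← card_invols_mem H]
    refine Finset.card_equiv (MulAut.conj g⁻¹).toEquiv fun t => ?_
    simp only [Finset.mem_filter, mem_invols, MulEquiv.toEquiv_eq_coe, EquivLike.coe_coe,
      MulAut.conj_apply, inv_inv, orderOf_conj', smul_coe_eq_iff]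
  have := Finset.card_filter_add_card_filter_not
    (s := (invols G).filter fun t => t • (g : G ⧸ L) = (g : G ⧸ L)) (fun t => t • (g : G ⧸ M) = (g : G ⧸ M))
  simp only [Finset.filter_filter, ne_eq] at this ⊢
  omega

/-- At most five involutions exchange two points on no common line. -/
theorem card_swap_far (H : PlaneHyp M L W E) {p p' : G ⧸ M}
    (hfar : ∀ l, ¬ (Inc M L p l ∧ Inc M L p' l)) [DecidableEq (G ⧸ M)] :
    ((invols G).filter fun t => t • p = p').card ≤ 5 := by
  classical
  rcases ((invols G).filter fun t => t • p = p').eq_empty_or_nonempty with he | ⟨t₀, ht₀⟩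
  · simp [he]
  obtain ⟨g, rfl⟩ := QuotientGroup.mk_surjective p
  set D : Subgroup G := stabilizer G (g : G ⧸ M) ⊓ stabilizer G p' with hD
  have hDM : D.map (MulAut.conj g⁻¹).toMonoidHom ≤ M := by
    rintro _ ⟨x, hx, rfl⟩
    simpa using (smul_coe_eq_iff x g M).1 (mem_stabilizer_iff.1 hx.1)
  have hcardD : Nat.card (D.map (MulAut.conj g⁻¹).toMonoidHom) = Nat.card D :=
    Nat.card_congr (Subgroup.equivMapOfInjective _ _ (MulAut.conj g⁻¹).injective).toEquiv.symm
  have hdvd : Nat.card D ∣ 960 := by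
    rw [← hcardD, ← H.cardM]; exact Subgroup.card_dvd_of_le hDM
  have hodd : ¬ 2 ∣ Nat.card D := by
    intro h2
    haveI : Fact (Nat.Prime 2) := ⟨Nat.prime_two⟩
    obtain ⟨s, hs⟩ := exists_prime_orderOf_dvd_card' (G := D) 2 h2
    obtain ⟨c, -, hc⟩ := exists_axis H (t := (s : G)) (by rw [Subgroup.orderOf_coe]; exact hs)
    exact hfar (c : G ⧸ L) ⟨(hc _).1 (mem_stabilizer_iff.1 s.2.1), (hc _).1 (mem_stabilizer_iff.1 s.2.2)⟩
  have h5 : Nat.card D ≤ 5 := by
    have h15 : Nat.card D ∣ 15 :=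
      (Nat.Coprime.pow_right 6 ((Nat.prime_two.coprime_iff_not_dvd.2 hodd).symm)).dvd_of_dvd_mul_left
        (by simpa using hdvd)
    have hne := H.no15 _ hDM
    rw [hcardD] at hne
    have := Nat.le_of_dvd (by norm_num) h15
    interval_cases hn : Nat.card D <;> omega
  refine le_trans ?_ h5
  rw [Nat.card_eq_fintype_card, ← Fintype.card_coe]
  have hsw : ∀ t ∈ (invols G).filter (fun t => t • (g : G ⧸ M) = p'),
      t • (g : G ⧸ M) = p' ∧ t • p' = (g : G ⧸ M) := by
    intro t ht
    obtain ⟨h2, h⟩ := Finset.mem_filter.1 ht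
    refine ⟨h, ?_⟩
    have htt : t * t = 1 := by
      have := pow_orderOf_eq_one t; rwa [mem_invols.1 h2, pow_two] at this
    rw [← h, ← mul_smul, htt, one_smul]
  refine Fintype.card_le_of_injective
    (fun t => (⟨t₀ * t.1, ?_, ?_⟩ : D)) fun a b hab => Subtype.ext ?_
  · show (t₀ * t.1) • (g : G ⧸ M) = _
    rw [mul_smul, (hsw _ t.2).1, (hsw _ ht₀).2]
  · show (t₀ * t.1) • p' = _
    rw [mul_smul, (hsw _ t.2).2, (hsw _ ht₀).1]
  · exact mul_left_cancel (congrArg Subtype.val hab)

/-- There are `21` points and any two lie on a line. -/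
theorem count_points (H : PlaneHyp M L W E) :
    Nat.card (G ⧸ M) = 21 ∧ ∀ p p' : G ⧸ M, ∃ l, Inc M L p l ∧ Inc M L p' l := by
  classical
  haveI := Fintype.ofFinite (G ⧸ M)
  haveI := Fintype.ofFinite (G ⧸ L)
  have key : ∀ p : G ⧸ M, ∃ N : Finset (G ⧸ M), N.card = 21 ∧
      (∀ p' ∈ N, ∃ l, Inc M L p l ∧ Inc M L p' l) ∧
      (invols G).card ≤ 75 + 240 + 5 * (Fintype.card (G ⧸ M) - N.card) := by
    intro p
    set Ls := Finset.univ.filter fun l : G ⧸ L => Inc M L p l with hLs
    have hLc : Ls.card = 5 := by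
      rw [hLs, ← Fintype.card_subtype, ← Nat.card_eq_fintype_card, card_lines_through H]
    set ln : G ⧸ L → Finset (G ⧸ M) := fun l =>
      (Finset.univ.filter fun q => Inc M L q l).erase p with hln
    have hlnc : ∀ l ∈ Ls, (ln l).card = 4 := by
      intro l hl
      rw [hln, Finset.card_erase_of_mem (by simpa [hLs] using hl), ← Fintype.card_subtype,
        ← Nat.card_eq_fintype_card, card_pts H]
    have hdis : Set.PairwiseDisjoint (Ls : Set (G ⧸ L)) ln := by
      intro l hl l' hl' hne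
      simp only [Function.onFun, Finset.disjoint_left]
      intro q hq hq'
      simp only [hln, Finset.mem_erase, Finset.mem_filter, Finset.mem_univ, true_and] at hq hq'
      simp only [hLs, Finset.coe_filter, Finset.mem_univ, true_and, Set.mem_setOf_eq] at hl hl'
      exact hne (line_unique H (Ne.symm hq.1) hl hq.2 hl' hq'.2)
    refine ⟨insert p (Ls.biUnion ln), ?_, ?_, ?_⟩
    · rw [Finset.card_insert_of_notMem (by simp [hln]), Finset.card_biUnion hdis,
        Finset.sum_congr rfl hlnc, Finset.sum_const, hLc]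
      norm_num
    · intro q hq
      rcases Finset.mem_insert.1 hq with rfl | hq
      · obtain ⟨l, hl⟩ := Finset.card_pos.1 (by omega : 0 < Ls.card)
        exact ⟨l, (Finset.mem_filter.1 hl).2, (Finset.mem_filter.1 hl).2⟩
      · obtain ⟨l, hl, hq⟩ := Finset.mem_biUnion.1 hq
        exact ⟨l, (Finset.mem_filter.1 hl).2, (Finset.mem_filter.1 (Finset.mem_erase.1 hq).2).2⟩
    · have hcover : invols G ⊆ ((invols G).filter fun t => t • p = p) ∪
          (Ls.biUnion fun l => (invols G).filter fun t => t • l = l ∧ t • p ≠ p) ∪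
          ((insert p (Ls.biUnion ln))ᶜ.biUnion fun q => (invols G).filter fun t => t • p = q) := by
        intro t ht
        simp only [Finset.mem_union, Finset.mem_filter, Finset.mem_biUnion, Finset.mem_compl,
          Finset.mem_insert, ne_eq]
        by_cases hp : t • p = p
        · exact Or.inl (Or.inl ⟨ht, hp⟩)
        by_cases hc : ∃ l, Inc M L p l ∧ Inc M L (t • p) l
        · obtain ⟨l, hl1, hl2⟩ := hc
          have htt : t * t = 1 := by
            have := pow_orderOf_eq_one t; rwa [mem_invols.1 ht, pow_two] at this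
          have h3 := inc_smul hl2 t
          rw [← mul_smul, htt, one_smul] at h3
          refine Or.inl (Or.inr ⟨l, by simp [hLs, hl1], ht, ?_, hp⟩)
          exact (line_unique H (Ne.symm hp) hl1 hl2 h3 (inc_smul hl1 t)).symm
        · refine Or.inr ⟨t • p, ?_, ht, rfl⟩
          rintro (h | ⟨l, hl, hq⟩)
          · exact hp h
          · exact hc ⟨l, (Finset.mem_filter.1 hl).2, (Finset.mem_filter.1 (Finset.mem_erase.1 hq).2).2⟩
      refine (Finset.card_le_card hcover).trans ?_
      refine (Finset.card_union_le _ _).trans (add_le_add ?_ ?_)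
      · refine (Finset.card_union_le _ _).trans (add_le_add (card_invols_stab H p).le ?_)
        refine Finset.card_biUnion_le.trans ?_
        rw [Finset.sum_const_nat (m := 48) fun l hl =>
          card_swap_line H (Finset.mem_filter.1 hl).2, hLc]
      · refine Finset.card_biUnion_le.trans ?_
        refine (Finset.sum_le_card_nsmul _ _ 5 fun q hq => ?_).trans ?_
        · apply card_swap_far H
          rintro l ⟨h1, h2⟩
          rw [Finset.mem_compl, Finset.mem_insert, Finset.mem_biUnion] at hq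
          push Not at hq
          exact hq.2 l (by simp [hLs, h1]) (by simp [hln, h2, hq.1])
        · rw [Finset.card_compl, smul_eq_mul, mul_comm]
  have h21 : Fintype.card (G ⧸ M) = 21 := by
    obtain ⟨N, hN, -, hle⟩ := key ((1 : G) : G ⧸ M)
    have hNle := Finset.card_le_univ N
    rw [card_invols H, Nat.card_eq_fintype_card] at hle
    omega
  refine ⟨by rw [Nat.card_eq_fintype_card, h21], fun p p' => ?_⟩
  obtain ⟨N, hN, hN', -⟩ := key p
  exact hN' p' ((Finset.eq_univ_of_card N (hN.trans h21.symm)).symm ▸ Finset.mem_univ p')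

theorem card_group (H : PlaneHyp M L W E) : Nat.card G = 20160 := by
  rw [card_points_mul H, (count_points H).1]

/-- Any two lines meet. -/
theorem lines_meet (H : PlaneHyp M L W E) (l l' : G ⧸ L) : ∃ p, Inc M L p l ∧ Inc M L p l' := by
  classical
  obtain ⟨g, rfl⟩ := QuotientGroup.mk_surjective l
  by_contra hno
  push Not at hno
  set q : G ⧸ M := (g : G ⧸ M) with hq
  have hql : Inc M L q (g : G ⧸ L) := ⟨g, rfl, rfl⟩
  choose f hf1 hf2 using fun x : {p : G ⧸ M // Inc M L p l'} => (count_points H).2 q x.1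
  have hinj : Function.Injective fun x => (⟨f x, hf1 x⟩ : {m : G ⧸ L // Inc M L q m}) := by
    intro x y hxy
    have he := congrArg Subtype.val hxy
    simp only at he
    by_contra hne
    have := line_unique H (fun h => hne (Subtype.ext h)) (hf2 x) (he ▸ hf2 y) x.2 y.2
    exact hno q hql (this ▸ hf1 x)
  have hbij := hinj.bijective_of_nat_card_le (by rw [card_pts H, card_lines_through H])
  obtain ⟨x, hx⟩ := hbij.2 ⟨(g : G ⧸ L), hql⟩
  have he : f x = (g : G ⧸ L) := congrArg Subtype.val hx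
  exact hno x.1 (he ▸ hf2 x) x.2

end CfsgLib.CIT.Natural
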