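import Cfsg.Agent.Lib.CIT.Defs
import Cfsg.Agent.Lib.CIT.FFCount
import Cfsg.Agent.Lib.CIT.Natural.Plane
import Mathlib.GroupTheory.Index

/-!
# The plane data from two natural 2-locals with `q = 4`
-/

set_option autoImplicit false

namespace CfsgLib.CIT.Natural

open Subgroup CfsgLib.CIT

variable {G : Type*} [Group G] [Finite G]

/-- One side: two natural locals with each other. -/
structure Side (V A : Subgroup G) : Prop where
  cit : IsCIT G
  nV : NaturalLocal V A 4
  nA : NaturalLocal A V 4

namespace Side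

variable {V A : Subgroup G}

theorem swap (S : Side V A) : Side A V := ⟨S.cit, S.nA, S.nV⟩

/-- The conjugation action of the local on its core. -/
def cm (V : Subgroup G) : normalizer (V : Set G) →* MulAut V := V.normalizerMonoidHom

theorem cm_apply (g : normalizer (V : Set G)) (v : V) :
    ((cm V g v : V) : G) = (g : G) * v * (g : G)⁻¹ := rfl

/-- The quotient group acting on the core. -/
abbrev QX (V : Subgroup G) : Type _ := (cm V).range

/-- The quotient map. -/
def qm (V : Subgroup G) : normalizer (V : Set G) →* QX V := (cm V).rangeRestrict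

theorem qm_surjective (V : Subgroup G) : Function.Surjective (qm V) :=
  (cm V).rangeRestrict_surjective

theorem smul_qm (g : normalizer (V : Set G)) (v : V) :
    (((qm V g) • v : V) : G) = (g : G) * v * (g : G)⁻¹ := rfl

theorem qm_eq_one_iff (S : Side V A) {g : normalizer (V : Set G)} : qm V g = 1 ↔ (g : G) ∈ V := by
  constructor
  · intro h
    suffices (g : G) ∈ centralizer (V : Set G) by rwa [S.nV.centralizer_eq] at this
    intro v hv
    have := smul_qm g ⟨v, hv⟩
    rw [h, one_smul] at this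
    exact eq_mul_inv_iff_mul_eq.1 this
  · intro h
    haveI := S.nV.comm_V
    refine Subtype.ext (MulEquiv.ext fun v => Subtype.ext ?_)
    show (g : G) * v * (g : G)⁻¹ = v
    have := congrArg Subtype.val (mul_comm' (⟨g, h⟩ : V) v)
    simp only [Subgroup.coe_mul] at this
    rw [this, mul_inv_cancel_right]

theorem sqA (S : Side V A) {a : G} (ha : a ∈ A) : a * a = 1 := S.nA.sq_V a ha

theorem commA (S : Side V A) {a b : G} (ha : a ∈ A) (hb : b ∈ A) : a * b = b * a := by
  haveI := S.nA.comm_V
  exact congrArg Subtype.val (mul_comm' (⟨a, ha⟩ : A) ⟨b, hb⟩)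

theorem two_pGroup_V (S : Side V A) : IsPGroup 2 V := fun v =>
  ⟨1, Subtype.ext (by rw [pow_one, pow_two]; exact S.nV.sq_V v v.2)⟩

/-- A commutative group structure on the core. -/
@[reducible] def commGroup (S : Side V A) : CommGroup V :=
  { (inferInstance : Group V) with
    mul_comm := fun x y => by haveI := S.nV.comm_V; exact mul_comm' x y }

theorem isPGroup_centralizer (S : Side V A) {v : G} (hv : v ∈ V) (hv1 : v ≠ 1) :
    IsPGroup 2 (centralizer ({v} : Set G)) :=
  S.cit v (orderOf_eq_prime (by rw [pow_two]; exact S.nV.sq_V v hv) hv1)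

theorem exists_odd_lift (S : Side V A) {x : QX V} (ho : Odd (orderOf x)) :
    ∃ (g : normalizer (V : Set G)) (j : ℕ), qm V g = x ^ j ∧ Odd (orderOf g) ∧
      (x ≠ 1 → x ^ j ≠ 1) := by
  obtain ⟨g₀, rfl⟩ := qm_surjective V x
  obtain ⟨k, m, hm, hkm⟩ := Nat.exists_eq_two_pow_mul_odd (orderOf_pos g₀).ne'
  refine ⟨g₀ ^ 2 ^ k, 2 ^ k, map_pow _ _ _, ?_, fun hx he => hx ?_⟩
  · rw [orderOf_pow, hkm, Nat.gcd_mul_right_left, Nat.mul_div_cancel_left _ (Nat.two_pow_pos k)]
    exact hm
  · rw [← orderOf_eq_one_iff]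
    exact Nat.eq_one_of_dvd_coprimes ((Nat.coprime_two_right.2 ho).pow_right k) dvd_rfl
      (orderOf_dvd_of_pow_eq_one he)

theorem setting (S : Side V A) :
    letI := S.commGroup
    FFSetting (QX V) V := by
  letI := S.commGroup
  refine ⟨fun x hx => Subtype.ext (MulEquiv.ext fun v => hx v), fun v => Subtype.ext (S.nV.sq_V v v.2),
    ?_, ?_, ?_⟩
  · intro x ho hx1 v hv
    by_contra hv1
    obtain ⟨g, j, hg, hgo, hne⟩ := S.exists_odd_lift ho
    have hgv : (g : G) ∈ centralizer ({(v : G)} : Set G) := by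
      rw [mem_centralizer_singleton_iff]
      have h1 : x ^ j • v = v := by
        have : (zpowers x) ≤ MulAction.stabilizer (QX V) v :=
          (zpowers_le).2 (MulAction.mem_stabilizer_iff.2 hv)
        exact this (pow_mem (mem_zpowers x) j)
      have := smul_qm g v
      rw [hg, h1] at this
      exact (eq_mul_inv_iff_mul_eq.1 this).symm
    obtain ⟨i, hi⟩ := IsPGroup.iff_orderOf.1
      (S.isPGroup_centralizer v.2 fun e => hv1 (Subtype.ext e)) ⟨g, hgv⟩
    rw [Subgroup.orderOf_mk] at hi
    rw [← Subgroup.orderOf_coe, hi] at hgo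
    rcases eq_or_ne i 0 with rfl | hi0
    · rw [pow_zero, orderOf_eq_one_iff] at hi
      apply hne hx1
      rw [← hg, show g = 1 from Subtype.ext hi, map_one]
    · exact (Nat.not_even_iff_odd.2 hgo) ((Nat.even_pow' hi0).2 even_two)
  · intro t x ht ho hcomm
    by_contra hx1
    obtain ⟨g, j, hg, hgo, hne⟩ := S.exists_odd_lift ho
    obtain ⟨s, hs⟩ := qm_surjective V t
    have hg1 : g ≠ 1 := fun e => hne hx1 (by rw [← hg, e, map_one])
    set r := (orderOf g).minFac with hr
    haveI : Fact r.Prime := ⟨Nat.minFac_prime (fun e => hg1 (orderOf_eq_one_iff.1 e))⟩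
    have hr2 : r ≠ 2 := fun e => (Nat.not_even_iff_odd.2 hgo) (even_iff_two_dvd.2
      (e ▸ Nat.minFac_dvd _))
    set y := g ^ (orderOf g / r) with hy
    have hyo : orderOf y = r :=
      orderOf_pow_orderOf_div (orderOf_pos g).ne' (Nat.minFac_dvd _)
    have hyc : Commute (qm V y) t := by
      rw [hy, map_pow, hg, ← pow_mul]
      exact (hcomm.pow_right _).symm
    -- the coset of the involution in the preimage
    set Ω : Set (normalizer (V : Set G)) := {u | qm V u = t}
    let act : MulAction (zpowers y) Ω :=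
      { smul := fun z u => ⟨(z : normalizer (V : Set G)) * u * (z : normalizer (V : Set G))⁻¹, by
          show qm V _ = t
          obtain ⟨i, hi⟩ := Subgroup.mem_zpowers_iff.1 z.2
          rw [map_mul, map_mul, map_inv, ← hi, map_zpow, u.2, (hyc.zpow_left i).eq,
            mul_inv_cancel_right]⟩
        one_smul := fun u => Subtype.ext (show (1 : normalizer (V : Set G)) * u * 1⁻¹ = u by simp)
        mul_smul := fun a b u => Subtype.ext (show (↑(a * b) : normalizer (V : Set G)) * u * (↑(a * b))⁻¹ =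
          a * (b * u * (↑b)⁻¹) * (↑a)⁻¹ by rw [Subgroup.coe_mul, mul_inv_rev]; simp only [mul_assoc]) }
    letI := act
    have hΩ : Nat.card Ω = Nat.card V := by
      refine Nat.card_congr
        { toFun := fun u => ⟨((u.1 * s⁻¹ : normalizer (V : Set G)) : G), (S.qm_eq_one_iff).1 (by
            rw [map_mul, u.2, map_inv, hs, mul_inv_cancel])⟩
          invFun := fun v => ⟨(⟨v, Subgroup.le_normalizer v.2⟩ : normalizer (V : Set G)) * s, by
            show qm V _ = t
            rw [map_mul, hs, (S.qm_eq_one_iff).2 v.2, one_mul]⟩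
          left_inv := fun u => Subtype.ext (Subtype.ext (by simp))
          right_inv := fun v => Subtype.ext (by simp) }
    have hyP : IsPGroup r (zpowers y) := IsPGroup.of_card (n := 1) (by rw [Nat.card_zpowers, hyo, pow_one])
    have hmod := hyP.card_modEq_card_fixedPoints Ω
    rw [hΩ, S.nV.card_V] at hmod
    obtain ⟨u, hu⟩ : (MulAction.fixedPoints (zpowers y) Ω).Nonempty := by
      by_contra hne'
      rw [Set.not_nonempty_iff_eq_empty] at hne'
      rw [hne', Nat.card_coe_set_eq, Set.ncard_empty] at hmod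
      have h2 : r ∣ 4 ^ 2 := Nat.modEq_zero_iff_dvd.1 hmod
      have := (Fact.out : r.Prime).dvd_of_dvd_pow h2
      exact hr2 ((Nat.prime_dvd_prime_iff_eq Fact.out Nat.prime_two).1
        ((Fact.out : r.Prime).dvd_of_dvd_pow (show r ∣ 2 ^ 2 by simpa using this)))
    have hcu : (y : G) * (u : G) = (u : G) * (y : G) := by
      have := congrArg (fun w : Ω => ((w.1 : normalizer (V : Set G)) : G)) (hu ⟨y, mem_zpowers y⟩)
      exact mul_inv_eq_iff_eq_mul.1 this
    -- `u` is a nontrivial 2-element
    have hu2 : ∀ m, (u.1 : normalizer (V : Set G)) ^ m = 1 → 2 ∣ m := fun m hm => by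
      rw [← ht]
      exact orderOf_dvd_of_pow_eq_one (by rw [← u.2, ← map_pow, hm, map_one])
    obtain ⟨i, hi⟩ := hu2 (orderOf u.1) (pow_orderOf_eq_one _)
    have hio : orderOf ((u : G) ^ i) = 2 := by
      rw [← SubgroupClass.coe_pow, Subgroup.orderOf_coe]
      exact (orderOf_pow_orderOf_div (orderOf_pos u.1).ne' ⟨i, hi⟩ :
        orderOf (u.1 ^ (orderOf u.1 / 2)) = 2) |> fun h => by
          rwa [hi, Nat.mul_div_cancel_left _ two_pos] at h
    obtain ⟨l, hl⟩ := IsPGroup.iff_orderOf.1 (S.cit _ hio) ⟨(y : G), mem_centralizer_singleton_iff.2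
      ((Commute.pow_right hcu i).eq)⟩
    rw [Subgroup.orderOf_mk, Subgroup.orderOf_coe, hyo] at hl
    exact hr2 ((Nat.prime_dvd_prime_iff_eq Fact.out Nat.prime_two).1
      ((Fact.out : r.Prime).dvd_of_dvd_pow (dvd_of_eq hl)))
  · intro N hN hN2
    rw [eq_bot_iff]
    intro x hx
    obtain ⟨g, rfl⟩ := qm_surjective V x
    rw [Subgroup.mem_bot, S.qm_eq_one_iff]
    have hker : IsPGroup 2 (qm V).ker := fun z => by
      obtain ⟨k, hk⟩ := S.two_pGroup_V ⟨z.1, S.qm_eq_one_iff.1 (MonoidHom.mem_ker.1 z.2)⟩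
      exact ⟨k, Subtype.ext (Subtype.ext (by simpa using congrArg Subtype.val hk))⟩
    have h2 : IsPGroup 2 (N.comap (qm V)) := hN2.comap_of_ker_isPGroup _ hker
    haveI : (N.comap (qm V)).Normal := hN.comap _
    have hle : N.comap (qm V) ≤ Cfsg.pCore 2 (normalizer (V : Set G)) := le_sSup ⟨inferInstance, h2⟩
    suffices (g : G) ∈ Cfsg.pCoreOf 2 (normalizer (V : Set G)) by rwa [S.nV.core_eq] at this
    exact ⟨g, hle hx, rfl⟩

/-- The image of the second core. -/
def Abar (V A : Subgroup G) : Subgroup (QX V) :=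
  (A.subgroupOf (normalizer (V : Set G))).map (qm V)

theorem mem_Abar (S : Side V A) {a : normalizer (V : Set G)} (ha : (a : G) ∈ A) :
    qm V a ∈ Abar V A := ⟨a, ha, rfl⟩

theorem card_Abar (S : Side V A) : Nat.card (Abar V A) = 4 := by
  let f : A.subgroupOf (normalizer (V : Set G)) →* QX V := (qm V).comp (Subgroup.subtype _)
  have hrange : f.range = Abar V A := by rw [Abar, MonoidHom.range_comp, range_subtype]
  have h1 := f.ker.card_eq_card_quotient_mul_card_subgroup
  have h16 : Nat.card (A.subgroupOf (normalizer (V : Set G))) = 16 := by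
    rw [Nat.card_congr (subgroupOfEquivOfLe S.nV.le_normalizer).toEquiv, S.nV.card_A]
    norm_num
  have hk : Nat.card f.ker = 4 := by
    rw [← S.nV.card_inf]
    exact Nat.card_congr
      { toFun := fun z => ⟨((z.1 : normalizer (V : Set G)) : G), z.1.2, S.qm_eq_one_iff.1 z.2⟩
        invFun := fun z => ⟨⟨⟨z, S.nV.le_normalizer z.2.1⟩, z.2.1⟩, S.qm_eq_one_iff.2 z.2.2⟩
        left_inv := fun z => rfl
        right_inv := fun z => rfl }
  rw [h16, hk, Nat.card_congr (QuotientGroup.quotientKerEquivRange f).toEquiv, hrange] at h1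
  omega

theorem offender (S : Side V A) :
    letI := S.commGroup
    IsOffender V (Abar V A) := by
  letI := S.commGroup
  have h2 : IsPGroup 2 A := fun a => ⟨1, Subtype.ext (by rw [pow_one, pow_two]; exact S.sqA a.2)⟩
  refine ⟨?_, ?_, ?_, ?_, ?_⟩
  · exact (h2.of_equiv (subgroupOfEquivOfLe S.nV.le_normalizer).symm).map _
  · intro h
    have := S.card_Abar
    rw [h, card_bot] at this
    omega
  · rintro _ ⟨a, ha, rfl⟩ _ ⟨b, hb, rfl⟩
    rw [← map_mul, ← map_mul]
    exact congrArg _ (Subtype.ext (S.commA ha hb))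
  · rintro _ ⟨a, ha, rfl⟩ _ ⟨b, hb, rfl⟩ v
    simp only [SetLike.mem_coe, mem_subgroupOf, coe_subtype] at ha hb
    apply Subtype.ext
    set d : V := dlt (qm V a) v with hd
    have hdG : (d : G) = (a : G) * v * (a : G)⁻¹ * (v : G)⁻¹ := by
      rw [hd, dlt_apply, div_eq_mul_inv, Subgroup.coe_mul, smul_qm, Subgroup.coe_inv]
    have hdA : (d : G) ∈ A := by
      rw [hdG]
      have h1 := (mem_normalizer_iff.1 (S.nA.le_normalizer v.2) (a : G)⁻¹).1 (inv_mem ha)
      have := mul_mem ha h1
      simpa [mul_assoc] using this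
    rw [smul_qm, S.commA hb hdA, mul_inv_cancel_right]
  · rw [S.card_Abar, S.nV.card_V]
    have hle : (A ⊓ V).subgroupOf V ≤ fixS (V := V) (Abar V A) := by
      intro v hv
      rw [mem_fixS]
      rintro _ ⟨a, ha, rfl⟩
      simp only [SetLike.mem_coe, mem_subgroupOf, coe_subtype] at ha hv
      apply Subtype.ext
      rw [smul_qm, S.commA ha hv.1, mul_inv_cancel_right]
    have := Subgroup.card_le_of_le hle
    rw [Nat.card_congr (subgroupOfEquivOfLe inf_le_right).toEquiv, S.nV.card_inf] at this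
    omega

theorem card_fix (S : Side V A) :
    letI := S.commGroup
    Nat.card (fixS (V := V) (Abar V A)) = 4 := by
  letI := S.commGroup
  rw [← S.offender.card_eq S.setting, S.card_Abar]

theorem fix_eq (S : Side V A) (v : V) :
    letI := S.commGroup
    v ∈ fixS (V := V) (Abar V A) ↔ (v : G) ∈ A := by
  letI := S.commGroup
  have hle : (A ⊓ V).subgroupOf V ≤ fixS (V := V) (Abar V A) := by
    intro v hv
    rw [mem_fixS]
    rintro _ ⟨a, ha, rfl⟩
    simp only [SetLike.mem_coe, mem_subgroupOf, coe_subtype] at ha hv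
    apply Subtype.ext
    rw [smul_qm, S.commA ha hv.1, mul_inv_cancel_right]
  have heq := Subgroup.eq_of_le_of_card_ge hle (by
    rw [Nat.card_congr (subgroupOfEquivOfLe inf_le_right).toEquiv, S.nV.card_inf, S.card_fix])
  rw [← heq]
  exact ⟨fun h => h.1, fun h => ⟨h, v.2⟩⟩

/-- An involution of the local outside the core with image in the offender lies in `A`. -/
theorem mem_of_mk (S : Side V A) {x : normalizer (V : Set G)} (hx : (x : G) * x = 1)
    (hm : qm V x ∈ Abar V A) (h1 : qm V x ≠ 1) : (x : G) ∈ A := by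
  letI := S.commGroup
  obtain ⟨a, ha, hax⟩ := hm
  simp only [SetLike.mem_coe, mem_subgroupOf, coe_subtype] at ha
  have ha1 : qm V a ≠ 1 := hax ▸ h1
  have hv : (x * a⁻¹ : normalizer (V : Set G)).1 ∈ V :=
    S.qm_eq_one_iff.1 (by rw [map_mul, map_inv, hax, mul_inv_cancel])
  set v : V := ⟨_, hv⟩ with hvdef
  have hfix : v ∈ fixE (V := V) (qm V a) := by
    rw [mem_fixE]
    apply Subtype.ext
    rw [smul_qm]
    show (a : G) * ((x : G) * (a : G)⁻¹) * (a : G)⁻¹ = (x : G) * (a : G)⁻¹
    have hvv : ((x : G) * (a : G)⁻¹) * ((x : G) * (a : G)⁻¹) = 1 := S.nV.sq_V _ hv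
    have haa := S.sqA ha
    have ai : (a : G)⁻¹ = a := inv_eq_of_mul_eq_one_right haa
    rw [ai] at hvv ⊢
    have h2 : (a : G) * x = x * a := by
      calc (a : G) * x = (x * x) * (a * x * (a * a)) := by rw [hx, haa, one_mul, mul_one]
        _ = x * ((x * a) * (x * a)) * a := by group
        _ = x * a := by rw [hvv, mul_one]
    rw [← mul_assoc, h2, mul_assoc ((x : G) * a), haa, mul_one]
  rw [S.offender.fixE_eq S.setting (S.mem_Abar ha) ha1, S.fix_eq] at hfix
  have := mul_mem hfix ha
  simpa [hvdef] using this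

theorem mem_normalizer_iff_bar (S : Side V A) (g : normalizer (V : Set G)) :
    (g : G) ∈ normalizer (A : Set G) ↔ qm V g ∈ normalizer (Abar V A : Set (QX V)) := by
  letI := S.commGroup
  constructor
  · intro hg
    refine Subgroup.mem_normalizer_fintype fun y hy => ?_
    obtain ⟨a, ha, rfl⟩ := hy
    simp only [SetLike.mem_coe, mem_subgroupOf, coe_subtype] at ha
    rw [← map_inv, ← map_mul, ← map_mul]
    exact S.mem_Abar ((mem_normalizer_iff.1 hg a).1 ha)
  · intro hg
    refine Subgroup.mem_normalizer_fintype fun a ha => ?_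
    let a' : normalizer (V : Set G) := ⟨a, S.nV.le_normalizer ha⟩
    have himg : qm V (g * a' * g⁻¹) ∈ Abar V A := by
      rw [map_mul, map_mul, map_inv]
      exact (mem_normalizer_iff.1 hg _).1 (S.mem_Abar (a := a') ha)
    by_cases h1 : qm V a' = 1
    · have haV : a ∈ V := S.qm_eq_one_iff.1 h1
      have := smul_mem_fixS (V := V) hg ((S.fix_eq ⟨a, haV⟩).2 ha)
      rw [S.fix_eq, smul_qm] at this
      exact this
    · have := S.mem_of_mk (x := g * a' * g⁻¹) ?_ himg ?_
      · exact this
      · show (g : G) * a * (g : G)⁻¹ * ((g : G) * a * (g : G)⁻¹) = 1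
        have := S.sqA ha
        calc _ = (g : G) * (a * a) * (g : G)⁻¹ := by group
          _ = 1 := by rw [this, mul_one, mul_inv_cancel]
      · rw [map_mul, map_mul, map_inv]
        exact fun e => h1 (conj_eq_one_iff.1 e)

theorem card_local (S : Side V A) : Nat.card (normalizer (V : Set G)) = 960 := by
  letI := S.commGroup
  have h1 := (qm V).ker.card_eq_card_quotient_mul_card_subgroup
  have hk : Nat.card (qm V).ker = 16 := by
    rw [Nat.card_congr (Equiv.subtypeEquivRight fun g =>
      (MonoidHom.mem_ker.trans S.qm_eq_one_iff))]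
    refine (Nat.card_congr (Subgroup.subgroupOfEquivOfLe Subgroup.le_normalizer).toEquiv).trans ?_
    rw [S.nV.card_V]; norm_num
  rw [Nat.card_congr (QuotientGroup.quotientKerEquivOfSurjective _ (qm_surjective V)).toEquiv,
    S.offender.card_X S.setting, S.card_Abar, hk] at h1
  exact h1

theorem card_inter (S : Side V A) :
    Nat.card (normalizer (V : Set G) ⊓ normalizer (A : Set G) : Subgroup G) = 192 := by
  letI := S.commGroup
  set f : (normalizer (Abar V A : Set (QX V))).comap (qm V) →* normalizer (Abar V A : Set (QX V)) :=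
    (qm V).subgroupComap _ with hf
  have hsurj : Function.Surjective f := MonoidHom.subgroupComap_surjective_of_surjective _ _ (qm_surjective V)
  have h1 := f.ker.card_eq_card_quotient_mul_card_subgroup
  rw [Nat.card_congr (QuotientGroup.quotientKerEquivOfSurjective _ hsurj).toEquiv,
    S.offender.card_normalizer S.setting, S.card_Abar] at h1
  have hk : Nat.card f.ker = 16 := by
    rw [show 16 = Nat.card V by rw [S.nV.card_V]; norm_num]
    exact Nat.card_congr
      { toFun := fun z => ⟨((z.1 : normalizer (V : Set G)) : G),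
          S.qm_eq_one_iff.1 (congrArg Subtype.val (MonoidHom.mem_ker.1 z.2))⟩
        invFun := fun v => ⟨⟨⟨v, Subgroup.le_normalizer v.2⟩, by
            rw [mem_comap, S.qm_eq_one_iff.2 v.2]; exact one_mem _⟩,
          MonoidHom.mem_ker.2 (Subtype.ext (S.qm_eq_one_iff.2 v.2))⟩
        left_inv := fun z => rfl
        right_inv := fun z => rfl }
  rw [hk] at h1
  norm_num at h1
  rw [← h1]
  exact Nat.card_congr
    { toFun := fun g => ⟨⟨g, g.2.1⟩, (S.mem_normalizer_iff_bar ⟨g, g.2.1⟩).1 g.2.2⟩
      invFun := fun g => ⟨g.1.1, g.1.2, (S.mem_normalizer_iff_bar g.1).2 g.2⟩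
      left_inv := fun g => rfl
      right_inv := fun g => rfl }

theorem meet (S : Side V A) {m : G} (hm : m ∈ normalizer (V : Set G))
    (hmA : m ∉ normalizer (A : Set G)) {x : G} (hx : x ∈ V) (hxA : x ∈ A)
    (hmx : m * x * m⁻¹ ∈ A) : x = 1 := by
  letI := S.commGroup
  by_contra hx1
  set g : normalizer (V : Set G) := ⟨m, hm⟩
  have hg : cj (qm V g) (Abar V A) ≠ Abar V A := fun e =>
    hmA ((S.mem_normalizer_iff_bar g).2 (cj_eq_iff_mem_normalizer.1 e))
  have h1 : qm V g • (⟨x, hx⟩ : V) ∈ fixS (V := V) (Abar V A) := by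
    rw [S.fix_eq, smul_qm]; exact hmx
  have h2 : qm V g • (⟨x, hx⟩ : V) ∈ fixS (V := V) (cj (qm V g) (Abar V A)) := by
    rw [mem_fixS_cj, inv_smul_smul]; exact (S.fix_eq _).2 hxA
  refine hg (S.offender.eq_of_common S.setting (S.offender.conj _) (fun e => hx1 ?_) h1 h2)
  exact congrArg Subtype.val (smul_left_cancel (qm V g) (e.trans (smul_one _).symm))

theorem reg (S : Side V A) {g : G} (hg : g ∈ normalizer (V : Set G))
    (hgA : g ∉ normalizer (A : Set G)) {a : G} (ha : a ∈ A)
    (haN : g⁻¹ * a * g ∈ normalizer (A : Set G)) : a ∈ V := by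
  letI := S.commGroup
  set g' : normalizer (V : Set G) := ⟨g, hg⟩
  set a' : normalizer (V : Set G) := ⟨a, S.nV.le_normalizer ha⟩
  have hn : qm V (g'⁻¹ * a' * g') ∈ normalizer (Abar V A : Set (QX V)) :=
    (S.mem_normalizer_iff_bar _).1 haN
  have hsq : qm V a' * qm V a' = 1 := by
    rw [← map_mul, show a' * a' = 1 from Subtype.ext (S.sqA ha), map_one]
  have hmem : qm V (g'⁻¹ * a' * g') ∈ Abar V A := S.offender.mem_of_two_element S.setting (k := 1)
    (by
      rw [pow_one, pow_two, map_mul, map_mul, map_inv]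
      calc _ = (qm V g')⁻¹ * (qm V a' * qm V a') * qm V g' := by group
        _ = 1 := by rw [hsq, mul_one, inv_mul_cancel]) hn
  by_contra haV
  have hne : cj (qm V g') (Abar V A) ≠ Abar V A := fun e =>
    hgA ((S.mem_normalizer_iff_bar g').2 (cj_eq_iff_mem_normalizer.1 e))
  have h2 : qm V a' ∈ cj (qm V g') (Abar V A) := by
    rw [mem_cj, ← map_inv, ← map_mul, ← map_mul]; exact hmem
  exact haV (S.qm_eq_one_iff.1 (S.offender.eq_one_of_normalizes S.setting (S.offender.conj _) hne
    (S.mem_Abar (a := a') ha) (Subgroup.le_normalizer h2)))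

theorem card_invol (S : Side V A) :
    Nat.card {t : G // t ∈ normalizer (V : Set G) ∧ orderOf t = 2} = 75 := by
  letI := S.commGroup
  classical
  haveI := Fintype.ofFinite G
  haveI := Fintype.ofFinite (QX V)
  -- the fibre over an involution of the quotient
  have hfib : ∀ y : {y : QX V // orderOf y = 2},
      Nat.card {x : normalizer (V : Set G) // (x : G) * x = 1 ∧ qm V x = y} = 4 := by
    rintro ⟨y, hy⟩
    obtain ⟨c, hc⟩ := S.offender.exists_cj_mem S.setting (t := y)
      (by rw [← pow_two, ← hy, pow_orderOf_eq_one])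
    obtain ⟨g, rfl⟩ := qm_surjective V c
    obtain ⟨a, ha, hay⟩ := mem_cj.1 hc
    simp only [SetLike.mem_coe, mem_subgroupOf, coe_subtype] at ha
    have hy1 : y ≠ 1 := fun e => by rw [e, orderOf_one] at hy; omega
    have ha1 : qm V a ≠ 1 := fun e => hy1 (by
      rw [e] at hay
      have := hay.symm
      rwa [mul_assoc, inv_mul_eq_one, eq_comm, mul_eq_right] at this)
    have hy' : y = qm V (g * a * g⁻¹) := by
      rw [map_mul, map_mul, map_inv, hay]; group
    rw [← S.nV.card_inf]
    have hout : ∀ z : (A ⊓ V : Subgroup G),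
        ((g * (⟨z, S.nV.le_normalizer z.2.1⟩ * a) * g⁻¹ : normalizer (V : Set G)) : G) *
          (g * (⟨z, S.nV.le_normalizer z.2.1⟩ * a) * g⁻¹ : normalizer (V : Set G)) = 1 ∧
        qm V (g * (⟨z, S.nV.le_normalizer z.2.1⟩ * a) * g⁻¹) = y := fun z => by
      constructor
      · have h1 := S.sqA (mul_mem z.2.1 ha)
        push_cast
        calc _ = (g : G) * (((z : G) * a) * ((z : G) * a)) * (g : G)⁻¹ := by group
          _ = 1 := by rw [h1, mul_one, mul_inv_cancel]
      · rw [hy', map_mul, map_mul, map_mul, (S.qm_eq_one_iff (g := ⟨(z : G), S.nV.le_normalizer z.2.1⟩)).2 z.2.2, one_mul, ← map_mul, ← map_mul]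
    have hin : ∀ x : {x : normalizer (V : Set G) // (x : G) * x = 1 ∧ qm V x = y},
        ((g⁻¹ * x.1 * g * a⁻¹ : normalizer (V : Set G)) : G) ∈ A ⊓ V := fun x => by
      have hm := x.2.2
      refine Subgroup.mem_inf.2 ⟨mul_mem (S.mem_of_mk (x := g⁻¹ * x.1 * g) ?_ ?_ ?_) (inv_mem ha),
        S.qm_eq_one_iff.1 ?_⟩
      · push_cast
        calc _ = (g : G)⁻¹ * ((x.1 : G) * x.1) * g := by group
          _ = 1 := by rw [x.2.1, mul_one, inv_mul_cancel]
      · rw [map_mul, map_mul, map_inv, hm]
        exact mem_cj.1 hc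
      · rw [map_mul, map_mul, map_inv, hm, ← hay]
        exact ha1
      · rw [map_mul, map_mul, map_mul, map_inv, map_inv, hm, ← hay, mul_inv_cancel]
    exact (Nat.card_congr
      { toFun := fun z => ⟨g * (⟨z, S.nV.le_normalizer z.2.1⟩ * a) * g⁻¹, hout z⟩
        invFun := fun x => ⟨((g⁻¹ * x.1 * g * a⁻¹ : normalizer (V : Set G)) : G), hin x⟩
        left_inv := fun z => Subtype.ext (by simp [mul_assoc])
        right_inv := fun x => Subtype.ext (Subtype.ext (by simp [mul_assoc])) }).symm
  have hV15 : Nat.card {v : V // v ≠ 1} = 15 := by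
    haveI := Fintype.ofFinite V
    rw [Nat.card_eq_fintype_card, Fintype.card_subtype_compl, Fintype.card_subtype_eq,
      ← Nat.card_eq_fintype_card, S.nV.card_V]
    norm_num
  let f : {v : V // v ≠ 1} ⊕ (Σ y : {y : QX V // orderOf y = 2},
      {x : normalizer (V : Set G) // (x : G) * x = 1 ∧ qm V x = y}) →
      {t : G // t ∈ normalizer (V : Set G) ∧ orderOf t = 2} := fun p => match p with
    | .inl v => ⟨(v.1 : G), Subgroup.le_normalizer v.1.2,
        orderOf_eq_prime (by rw [pow_two]; exact S.nV.sq_V _ v.1.2) fun e => v.2 (Subtype.ext e)⟩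
    | .inr s => ⟨(s.2.1 : G), s.2.1.2, orderOf_eq_prime (by rw [pow_two]; exact s.2.2.1) fun e => by
        have h2 := s.1.2
        rw [← s.2.2.2, show s.2.1 = 1 from Subtype.ext e, map_one, orderOf_one] at h2
        omega⟩
  have hf : Function.Bijective f := by
    have hsep : ∀ (v : V) (y : {y : QX V // orderOf y = 2})
        (x : normalizer (V : Set G)), qm V x = y → (v : G) ≠ x := fun v y x hx e => by
      have h2 := y.2
      rw [← hx, S.qm_eq_one_iff.2 (e ▸ v.2), orderOf_one] at h2
      omega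
    constructor
    · rintro (v | ⟨y, x⟩) (v' | ⟨y', x'⟩) he <;> have he' := congrArg Subtype.val he
      · exact congrArg Sum.inl (Subtype.ext (Subtype.ext he'))
      · exact absurd he' (hsep _ _ _ x'.2.2)
      · exact absurd he'.symm (hsep _ _ _ x.2.2)
      · have hxx : x.1 = x'.1 := Subtype.ext he'
        obtain rfl : y = y' := Subtype.ext (by rw [← x.2.2, hxx, x'.2.2])
        exact congrArg Sum.inr (congrArg (Sigma.mk y) (Subtype.ext hxx))
    · rintro ⟨t, htN, ht⟩
      by_cases htV : t ∈ V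
      · exact ⟨.inl ⟨⟨t, htV⟩, fun e => by
          rw [show t = 1 from congrArg Subtype.val e, orderOf_one] at ht; omega⟩, rfl⟩
      · have htt : t * t = 1 := by rw [← pow_two, ← ht, pow_orderOf_eq_one]
        refine ⟨.inr ⟨⟨qm V ⟨t, htN⟩, orderOf_eq_prime ?_ fun e => htV (S.qm_eq_one_iff.1 e)⟩,
          ⟨t, htN⟩, htt, rfl⟩, rfl⟩
        rw [pow_two, ← map_mul, show (⟨t, htN⟩ : normalizer (V : Set G)) * ⟨t, htN⟩ = 1 from
          Subtype.ext htt, map_one]
  rw [← Nat.card_congr (Equiv.ofBijective f hf), Nat.card_sum, hV15, Nat.card_sigma,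
    Finset.sum_const_nat (m := 4) fun y _ => hfib y, Finset.card_univ, ← Nat.card_eq_fintype_card,
    S.offender.card_involutions S.setting, S.card_Abar]

theorem no15 (S : Side V A) (D : Subgroup G) (hD : D ≤ normalizer (V : Set G)) :
    Nat.card D ≠ 15 := by
  letI := S.commGroup
  intro h15
  haveI : Fact (Nat.Prime 3) := ⟨by norm_num⟩
  haveI : Fact (Nat.Prime 5) := ⟨by norm_num⟩
  obtain ⟨z, hz⟩ := exists_prime_orderOf_dvd_card' (G := D) 5 (by rw [h15]; norm_num)
  obtain ⟨y, hy⟩ := exists_prime_orderOf_dvd_card' (G := D) 3 (by rw [h15]; norm_num)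
  have hnorm : (zpowers z).Normal := by
    apply Subgroup.normal_of_index_eq_minFac_card
    have := (zpowers z).card_mul_index
    rw [Nat.card_zpowers, hz, h15] at this
    rw [h15]
    norm_num
    omega
  obtain ⟨i, hi⟩ := (mem_powers_iff_mem_zpowers).2 (hnorm.conj_mem z (mem_zpowers z) y)
  simp only at hi
  have hi' : ∀ n : ℕ, y ^ n * z * (y ^ n)⁻¹ = z ^ i ^ n := by
    intro n
    induction n with
    | zero => simp
    | succ n ih =>
      calc y ^ (n + 1) * z * (y ^ (n + 1))⁻¹ = y * (y ^ n * z * (y ^ n)⁻¹) * y⁻¹ := by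
            rw [pow_succ']; group
        _ = (y * z * y⁻¹) ^ i ^ n := by rw [ih, conj_pow]
        _ = z ^ i ^ (n + 1) := by rw [← hi, ← pow_mul, pow_succ']
  have h3 := hi' 3
  rw [← hy, pow_orderOf_eq_one, one_mul, inv_one, mul_one] at h3
  have hmod : 1 ≡ i ^ 3 [MOD 5] := by
    rw [← hz, ← pow_eq_pow_iff_modEq, pow_one]
    rw [hy] at h3
    exact h3
  have hi1 : i % 5 = 1 := by
    have h5 : (i % 5) ^ 3 % 5 = 1 := by
      rw [← Nat.pow_mod]; exact hmod.symm
    have : i % 5 < 5 := Nat.mod_lt _ (by norm_num)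
    interval_cases hcase : i % 5 <;> first | rfl | (norm_num at h5)
  have hc : Commute y z := by
    have h1 := hi' 1
    rw [pow_one, pow_one, ← pow_mod_orderOf, hz, hi1, pow_one] at h1
    exact mul_inv_eq_iff_eq_mul.1 h1
  set ι : D →* normalizer (V : Set G) := Subgroup.inclusion hD
  have hord : ∀ (d : D) (p : ℕ), p.Prime → p ≠ 2 → orderOf d = p → orderOf (qm V (ι d)) = p := by
    intro d p hp hp2 hd
    haveI := Fact.mk hp
    refine orderOf_eq_prime (by rw [← map_pow, ← map_pow, ← hd, pow_orderOf_eq_one, map_one, map_one]) ?_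
    intro e
    have hdV : (d : G) ∈ V := S.qm_eq_one_iff.1 e
    have : p ∣ 2 := by
      rw [← hd, ← Subgroup.orderOf_coe]
      exact orderOf_dvd_of_pow_eq_one (by rw [pow_two]; exact S.nV.sq_V _ hdV)
    exact hp2 ((Nat.prime_dvd_prime_iff_eq hp Nat.prime_two).1 this)
  exact S.offender.not_commute_three_five S.setting S.card_Abar
    (hord y 3 (by norm_num) (by norm_num) hy) (hord z 5 (by norm_num) (by norm_num) hz)
    ((hc.map ι).map (qm V))

/-- The plane data. -/
theorem planeHyp (S : Side V A)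
    (hcent : ∀ t : G, orderOf t = 2 → Nat.card (centralizer ({t} : Set G)) = 64)
    (hconj : ∀ t s : G, orderOf t = 2 → orderOf s = 2 → IsConj t s) :
    PlaneHyp (normalizer (V : Set G)) (normalizer (A : Set G)) V A where
  cardM := S.card_local
  cardL := S.swap.card_local
  cardB := S.card_inter
  cardW := by rw [S.nV.card_V]; norm_num
  cardE := by rw [S.nV.card_A]; norm_num
  W_comm := fun x hx y hy => S.swap.commA hx hy
  E_comm := fun x hx y hy => S.commA hx hy
  W_sq := S.nV.sq_V
  E_sq := S.nA.sq_V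
  W_le_M := Subgroup.le_normalizer
  E_le_L := Subgroup.le_normalizer
  M_norm := le_rfl
  L_norm := le_rfl
  W_le := S.nA.le_normalizer
  E_le := S.nV.le_normalizer
  cardWE := S.nA.card_inf
  invM := S.card_invol
  invL := S.swap.card_invol
  cent := hcent
  conj := hconj
  meet := fun m hm hmA x hx hmx => S.meet hm hmA hx.1 hx.2 hmx
  reg := fun h hh hhM w hw hwM => S.swap.reg hh hhM hw hwM
  no15 := S.no15

end Side

end CfsgLib.CIT.Natural
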