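import Cfsg.Agent.Lib.CIT.Natural.Basic

/-!
# Conjugates of natural 2-locals
-/

set_option autoImplicit false

namespace CfsgLib.CIT

variable {G : Type*} [Group G] [Finite G]

theorem mem_map_conj {g : G} {H : Subgroup G} {x : G} :
    x ∈ H.map (MulAut.conj g).toMonoidHom ↔ g⁻¹ * x * g ∈ H := by
  constructor
  · rintro ⟨y, hy, rfl⟩
    simpa [MulAut.conj_apply, mul_assoc] using hy
  · intro hx
    exact ⟨_, hx, by simp [MulAut.conj_apply, mul_assoc]⟩

theorem map_conj_normalizer (g : G) (V : Subgroup G) :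
    (Subgroup.normalizer (V : Set G)).map (MulAut.conj g).toMonoidHom =
      Subgroup.normalizer ((V.map (MulAut.conj g).toMonoidHom : Subgroup G) : Set G) :=
  Subgroup.map_equiv_normalizer_eq V (MulAut.conj g)

/-- A conjugate of a natural 2-local is a natural 2-local. -/
theorem NaturalLocal.conj {V A : Subgroup G} {q : ℕ} (h : NaturalLocal V A q) (g : G) :
    NaturalLocal (V.map (MulAut.conj g).toMonoidHom) (A.map (MulAut.conj g).toMonoidHom) q := by
  haveI := h.comm_V
  haveI := h.comm_A
  set φ := (MulAut.conj g).toMonoidHom with hφ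
  have hinj : Function.Injective φ := (MulAut.conj g).injective
  refine ⟨h.two_le, Subgroup.map_isMulCommutative V φ, ?_, Subgroup.map_isMulCommutative A φ, ?_, ?_,
    ?_, ?_, ?_, ?_, ?_⟩
  · rintro _ ⟨v, hv, rfl⟩
    rw [← map_mul, h.sq_V v hv, map_one]
  · rw [Subgroup.card_map_of_injective hinj, h.card_V]
  · rw [Subgroup.card_map_of_injective hinj, h.card_A]
  · rw [← Subgroup.map_inf _ _ φ hinj, Subgroup.card_map_of_injective hinj, h.card_inf]
  · rw [← map_conj_normalizer]
    exact Subgroup.map_mono h.le_normalizer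
  · ext x
    rw [mem_map_conj]
    refine Iff.trans ?_ (SetLike.ext_iff.1 h.centralizer_eq _)
    simp only [Subgroup.mem_centralizer_iff]
    constructor
    · intro hx v hv
      have := hx (g * v * g⁻¹) ⟨v, hv, rfl⟩
      calc v * (g⁻¹ * x * g) = g⁻¹ * (g * v * g⁻¹ * x) * g := by group
        _ = g⁻¹ * (x * (g * v * g⁻¹)) * g := by rw [this]
        _ = g⁻¹ * x * g * v := by group
    · rintro hx _ ⟨v, hv, rfl⟩
      show g * v * g⁻¹ * x = x * (g * v * g⁻¹)
      calc g * v * g⁻¹ * x = g * (v * (g⁻¹ * x * g)) * g⁻¹ := by group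
        _ = g * ((g⁻¹ * x * g) * v) * g⁻¹ := by rw [hx v hv]
        _ = x * (g * v * g⁻¹) := by group
  · rw [← map_conj_normalizer]
    set N := Subgroup.normalizer (V : Set G) with hN
    refine le_antisymm ?_ ?_
    · intro x hx
      rw [mem_map_conj]
      set P := (Cfsg.pCoreOf 2 (N.map φ)).map (MulAut.conj g⁻¹).toMonoidHom with hP
      have hPN : P ≤ N := by
        intro y hy
        have h1 := pCoreOf_two_le _ (mem_map_conj.1 hy)
        rw [hφ, mem_map_conj] at h1
        simpa [mul_assoc] using h1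
      have hn : N ≤ Subgroup.normalizer (P : Set G) := by
        intro n hn
        refine Subgroup.mem_normalizer_fintype fun y hy => ?_
        have h2 := (Subgroup.mem_normalizer_iff.1
          (le_normalizer_pCoreOf_two (N.map φ) ⟨n, hn, rfl⟩) _).1 (mem_map_conj.1 hy)
        exact mem_map_conj.2 (by simpa [hφ, mul_assoc] using h2)
      have := le_pCoreOf_two hPN ((isPGroup_pCoreOf_two _).map _) hn
        (mem_map_conj.2 (by simpa [hφ, mul_assoc] using hx) : g⁻¹ * x * g ∈ P)
      rwa [h.core_eq] at this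
    · refine le_pCoreOf_two (Subgroup.map_mono Subgroup.le_normalizer) (h.isPGroup_V.map φ) ?_
      rw [hN, hφ, map_conj_normalizer]
  · intro P hP hP2
    rw [← map_conj_normalizer] at hP
    have h1 := h.card_sylow (P.map (MulAut.conj g⁻¹).toMonoidHom) ?_ (hP2.map _)
    · rwa [Subgroup.card_map_of_injective (MulAut.conj g⁻¹).injective] at h1
    · intro y hy
      have h2 := hP (mem_map_conj.1 hy)
      rw [mem_map_conj] at h2
      simpa [mul_assoc] using h2

end CfsgLib.CIT
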