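import Cfsg.Agent.Lib.CIT.Natural.Basic

/-!
# Two natural 2-locals on the two elementary abelian subgroups of a Sylow group force `q = 4`
-/

set_option autoImplicit false

namespace CfsgLib.CIT

open Subgroup
open scoped IsMulCommutative

variable {G : Type*} [Group G] [Finite G]

theorem le_four_of_pair (hC : IsCIT G) {V T : Subgroup G} {q : ℕ}
    (hV : NaturalLocal V T q) (hT : NaturalLocal T V q) : q ≤ 4 := by
  classical
  haveI := hV.comm_V
  haveI := hT.comm_V
  set X := (nrep V).range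
  set A := nimg V T with hAdef
  have h1 : FFSetting X V := hV.setting hC
  have hA : IsOffender V A := hV.isOffender hC
  have h2 : FFSetting (nrep T).range T := hT.setting hC
  have hB : IsOffender T (nimg T V) := hT.isOffender hC
  obtain ⟨x, hx⟩ := hA.exists_conj_ne h1
  obtain ⟨a, ha, ha1⟩ := hA.exists_mem h1
  obtain ⟨w, hw, hwA, hwC, -, hw3⟩ := hA.exists_swap h1 hx ha ha1
  obtain ⟨x', hx'⟩ := hB.exists_conj_ne h2
  obtain ⟨a', ha', ha'1⟩ := hB.exists_mem h2
  obtain ⟨w', hw', hwA', hwC', -, hw3'⟩ := hB.exists_swap h2 hx' ha' ha'1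
  set D := normalizer (A : Set X) ⊓ normalizer (cj x A : Set X) with hD
  set Z := fixS (V := V) A with hZ
  have hZc : Nat.card Z = q := hV.card_fixS hC
  letI : MulDistribMulAction D Z :=
    { smul := fun d z => ⟨(d : X) • (z : V), smul_mem_fixS d.2.1 z.2⟩
      one_smul := fun z => Subtype.ext (one_smul X (z : V))
      mul_smul := fun d e z => Subtype.ext (mul_smul (d : X) (e : X) (z : V))
      smul_mul := fun d y z => Subtype.ext (smul_mul' (d : X) (y : V) (z : V))
      smul_one := fun d => Subtype.ext (smul_one (d : X)) }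
  have hcoe : ∀ (d : D) (z : Z), ((d • z : Z) : V) = (d : X) • (z : V) := fun _ _ => rfl
  have hfree : ∀ (d : D) (z : Z), z ≠ 1 → d • z = z → d = 1 := by
    intro d z hz he
    by_contra hd
    exact hz (Subtype.ext (h1.fpf (d : X) (hA.odd_pair h1 (hA.conj x) hx d.2)
      (fun e => hd (Subtype.ext e)) (z : V) (congrArg Subtype.val he)))
  have htrans : ∀ y z : Z, y ≠ 1 → z ≠ 1 → ∃ d : D, d • y = z := by
    intro y z hy hz
    haveI : Fintype Z := Fintype.ofFinite Z
    let φ : D → {u : Z // u ≠ 1} := fun d => ⟨d • y, fun e => hy ((smul_eq_iff_eq_inv_smul d).1 e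
      |>.trans (smul_one _))⟩
    have hφ : Function.Injective φ := fun d e he => by
      have h3 : d • y = e • y := congrArg Subtype.val he
      exact (inv_mul_eq_one.1 (hfree (e⁻¹ * d) y hy (by rw [mul_smul, h3, inv_smul_smul]))).symm
    obtain ⟨d, hd⟩ := (hφ.bijective_of_nat_card_le (by
      rw [hD, (hA.pair_data h1 hx).1, Nat.card_eq_fintype_card, Nat.card_eq_fintype_card,
        Fintype.card_subtype_compl, Fintype.card_subtype_eq])).2 ⟨z, hz⟩
    exact ⟨d, congrArg Subtype.val hd⟩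
  have hnT : ∀ t : T, (t : G) ∈ normalizer (V : Set G) := fun t => hV.le_normalizer t.2
  have himg : ∀ t : T, (nrep V).rangeRestrict ⟨t, hnT t⟩ ∈ A := fun t =>
    (mem_img _ hV.le_normalizer).2 ⟨t, t.2, rfl⟩
  obtain ⟨z0, hz0, hz01⟩ : ∃ z0 ∈ Z, z0 ≠ 1 := by
    obtain ⟨z, hz⟩ := Z.ne_bot_iff_exists_ne_one.1
      ((Subgroup.one_lt_card_iff_ne_bot _).1 (hA.one_lt h1))
    exact ⟨z, z.2, fun e => hz (Subtype.ext e)⟩
  have hwz : w • z0 ∉ Z := by
    intro hmem
    apply hz01
    have h3 : w • z0 ∈ fixS (V := V) (cj x A) := by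
      rw [← hwA, mem_fixS_cj, inv_smul_smul]; exact hz0
    have h4 : w • z0 = 1 := by
      rw [← Subgroup.mem_bot, ← hA.inf_fixS_eq_bot h1 (hA.conj x) hx]
      exact ⟨hmem, h3⟩
    exact smul_left_cancel w (h4.trans (smul_one w).symm)
  -- `T → Z` through the offender and through the module `T`
  let Φ : T →* Z :=
    { toFun := fun t => ⟨dlt ((nrep V).rangeRestrict ⟨t, hnT t⟩) (w • z0),
        hA.dlt_mem h1 (himg t) _⟩
      map_one' := Subtype.ext (by
        show dlt ((nrep V).rangeRestrict ⟨((1 : T) : G), hnT 1⟩) (w • z0) = 1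
        rw [show (⟨((1 : T) : G), hnT 1⟩ : normalizer (V : Set G)) = 1 from Subtype.ext rfl,
          map_one, dlt_apply, one_smul, div_self'])
      map_mul' := fun s t => Subtype.ext (by
        show dlt ((nrep V).rangeRestrict ⟨((s * t : T) : G), hnT _⟩) (w • z0) = _ * _
        rw [show (⟨((s * t : T) : G), hnT _⟩ : normalizer (V : Set G)) =
          ⟨s, hnT s⟩ * ⟨t, hnT t⟩ from Subtype.ext rfl, map_mul, dlt_apply, mul_smul,
          smul_eq_dlt_mul _ (w • z0), smul_mul',
          hA.quad _ (himg t) _ (himg s) _, smul_eq_dlt_mul _ (w • z0), ← mul_assoc,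
          mul_div_assoc, div_self', mul_one, mul_comm]) }
  have hker : ∀ t : T, Φ t = 1 → (t : G) ∈ V := fun t ht => by
    have h3 : (nrep V).rangeRestrict ⟨t, hnT t⟩ • w • z0 = w • z0 :=
      div_eq_one.1 (congrArg Subtype.val ht)
    have h4 := hA.eq_of_smul_eq h1 (himg t) (one_mem A) hwz (by rw [h3, one_smul])
    exact hV.centralizer_eq.le ((rep_eq_one_iff (le_refl _)
      (⟨t, hnT t⟩ : normalizer (V : Set G))).1 (congrArg Subtype.val h4))
  have hmemZ : ∀ t : T, ((dlt a' t : T) : G) ∈ V := fun t =>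
    (hT.mem_fixS_iff hC _).1 (hB.dlt_mem h2 ha' t)
  have hmemZ' : ∀ t : T, (⟨((dlt a' t : T) : G), hmemZ t⟩ : V) ∈ Z := fun t =>
    (hV.mem_fixS_iff hC _).2 (dlt a' t : T).2
  let F : T →* Z :=
    { toFun := fun t => ⟨⟨((dlt a' t : T) : G), hmemZ t⟩, hmemZ' t⟩
      map_one' := Subtype.ext (Subtype.ext (show ((dlt a' (1 : T) : T) : G) = 1 by
        rw [map_one, Subgroup.coe_one]))
      map_mul' := fun s t => Subtype.ext (Subtype.ext
        (show ((dlt a' (s * t) : T) : G) = ((dlt a' s : T) : G) * ((dlt a' t : T) : G) by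
          rw [map_mul, Subgroup.coe_mul])) }
  have hFker : ∀ t : T, F t = 1 ↔ (t : G) ∈ V := fun t => by
    rw [← hT.mem_fixS_iff hC, ← hB.fixE_eq h2 ha' ha'1, ← ker_dlt, MonoidHom.mem_ker]
    exact ⟨fun e => Subtype.ext (congrArg (fun u : Z => ((u : V) : G)) e),
      fun e => Subtype.ext (Subtype.ext (congrArg (fun u : T => (u : G)) e))⟩
  have hsur : Function.Surjective Φ := fun z => by
    obtain ⟨b, hb, hbz⟩ := hA.exists_dlt_eq h1 hwz z.2
    obtain ⟨t, ht, rfl⟩ := (mem_img _ hV.le_normalizer).1 hb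
    exact ⟨⟨t, ht⟩, Subtype.ext hbz⟩
  have hwd : ∀ s t : T, Φ s = Φ t → F s = F t := fun s t hst => by
    rw [← inv_mul_eq_one, ← map_inv, ← map_mul, hFker]
    exact hker _ (by rw [map_mul, map_inv, hst, inv_mul_cancel])
  choose sec hsec using hsur
  let f : Z →* Z :=
    { toFun := fun z => F (sec z)
      map_one' := (hwd _ _ ((hsec 1).trans (map_one Φ).symm)).trans (map_one F)
      map_mul' := fun y z => (hwd _ _ (by rw [hsec, map_mul, hsec, hsec])).trans
        (map_mul F (sec y) (sec z)) }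
  have hf : Function.Injective f := (injective_iff_map_eq_one f).2 fun z hz => by
    have h3 : (sec z : G) ∈ V := (hFker _).1 hz
    rw [← hsec z]
    refine Subtype.ext ?_
    show dlt ((nrep V).rangeRestrict ⟨sec z, hnT (sec z)⟩) (w • z0) = 1
    rw [show (nrep V).rangeRestrict ⟨sec z, hnT (sec z)⟩ = 1 from
      Subtype.ext ((rep_eq_one_iff _ _).2 (LocEven.le_centralizer_self hV.comm_V h3)),
      dlt_apply, one_smul, div_self']
  have hDc : ∀ d e : D, Commute d e := fun d e =>
    Subtype.ext (hA.torus_comm h1 hx ha hw hwA hwC hw3 d.2 e.2).eq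
  have hsq : ∀ t ∈ T, t * t = 1 := hT.sq_V
  have heq : ∀ (d : D) (z : Z), f (d • d • z) = d⁻¹ • f z := by
    intro d z
    set t := sec z with ht
    obtain ⟨n, hn⟩ := (nrep V).rangeRestrict_surjective (d : X)
    -- the preimage normalises `T`
    have hnR : ∀ r ∈ V ⊔ T, (n : G) * r * (n : G)⁻¹ ∈ V ⊔ T := fun r hr => by
      have h3 := hV.mem_img_iff (n := n * ⟨r, hV.sup_le_normalizer hr⟩ * n⁻¹)
      refine h3.1 ?_
      rw [map_mul, map_mul, map_inv, hn]
      exact (mem_normalizer_iff.1 d.2.1 _).1 (hV.mem_img_iff.2 hr)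
    have hnT' : (n : G) ∈ normalizer (T : Set G) := by
      have hHT : T.map (MulAut.conj (n : G)).toMonoidHom = T := by
        refine ((hV.eq_or_eq hC hsq (H := T.map (MulAut.conj (n : G)).toMonoidHom) ?_ ?_ ?_).resolve_left
          fun e => ?_)
        · rintro _ ⟨s, hs, rfl⟩
          exact hnR s (Subgroup.mem_sup_right hs)
        · rintro _ ⟨s, hs, rfl⟩
          rw [← map_mul, hsq s hs, map_one]
        · rw [Subgroup.card_map_of_injective (MulAut.conj (n : G)).injective, hV.card_A]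
        · refine hV.not_le fun s hs => ?_
          have h3 : (n : G) * s * (n : G)⁻¹ ∈ V := e.le ⟨s, hs, rfl⟩
          exact (mem_normalizer_iff.1 n.2 s).2 h3
      refine Subgroup.mem_normalizer_fintype fun s hs => ?_
      exact hHT.le ⟨s, hs, rfl⟩
    set t' : T := ⟨(n : G) * t * (n : G)⁻¹, (mem_normalizer_iff.1 hnT' _).1 t.2⟩ with ht'
    have hΦ : Φ t' = d • d • z := by
      rw [← hsec z, ← ht]
      refine Subtype.ext ?_
      show dlt ((nrep V).rangeRestrict ⟨(t' : G), hnT t'⟩) (w • z0) =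
        (d : X) • (d : X) • dlt ((nrep V).rangeRestrict ⟨t, hnT t⟩) (w • z0)
      rw [show (⟨(t' : G), hnT t'⟩ : normalizer (V : Set G)) = n * ⟨t, hnT t⟩ * n⁻¹ from
        Subtype.ext rfl, map_mul, map_mul, map_inv, hn]
      exact hA.dlt_conj_torus h1 hx ha hw hwA hwC hw3 d.2 (himg t) hz0
    refine (hwd _ t' ((hsec _).trans hΦ.symm)).trans ?_
    set n' : normalizer (T : Set G) := ⟨n, hnT'⟩ with hn'
    set m := (nrep T).rangeRestrict n' with hm
    have hmB : m ∈ normalizer (nimg T V : Set (nrep T).range) := by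
      refine Subgroup.mem_normalizer_fintype fun b hb => ?_
      obtain ⟨v, hv, rfl⟩ := (mem_img _ hT.le_normalizer).1 hb
      refine (mem_img _ hT.le_normalizer).2 ⟨(n : G) * v * (n : G)⁻¹,
        (mem_normalizer_iff.1 n.2 v).1 hv, ?_⟩
      rw [hm, ← map_mul, ← map_inv, ← map_mul]
      exact congrArg _ (Subtype.ext rfl)
    -- factor it as an element of the offender times a torus element
    have hne : cj (m * x') (nimg T V) ≠ nimg T V := fun e => hx' (by
      rw [← cj_cj] at e
      have := cj_inv_eq e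
      rwa [cj_eq_iff_mem_normalizer.2 (inv_mem hmB), eq_comm] at this)
    obtain ⟨u, hu, hue⟩ := hB.exists_cj_eq h2 hx' hne
    have hd' : u⁻¹ * m ∈ normalizer (nimg T V : Set (nrep T).range) ⊓
        normalizer (cj x' (nimg T V) : Set (nrep T).range) := by
      refine Subgroup.mem_inf.2
        ⟨mul_mem (inv_mem (Subgroup.le_normalizer hu)) hmB, cj_eq_iff_mem_normalizer.1 ?_⟩
      rw [← cj_cj, cj_cj m x', ← hue, cj_cj, inv_mul_cancel, cj_one]
    set d' := u⁻¹ * m with hd'def
    have hm' : m = u * d' := (mul_inv_cancel_left u m).symm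
    have hζ : dlt a' t ∈ fixS (V := T) (nimg T V) := hB.dlt_mem h2 ha' t
    have hkey : dlt a' t' = m⁻¹ • dlt a' t := by
      have h3 : t' = m • t := Subtype.ext rfl
      have h4 : dlt a' (dlt u (d' • t)) = 1 := by
        rw [← MonoidHom.mem_ker, ker_dlt, hB.fixE_eq h2 ha' ha'1]
        exact hB.dlt_mem h2 hu _
      have h5 : m • t = u • d' • t := by rw [← mul_smul, ← hm']
      have h6 : m⁻¹ • dlt a' t = d'⁻¹ • dlt a' t := by
        rw [show m⁻¹ = d'⁻¹ * u⁻¹ by rw [hd'def]; group, mul_smul,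
          mem_fixS.1 hζ u⁻¹ (inv_mem hu)]
      rw [h3, h5, smul_eq_dlt_mul u (d' • t), map_mul, h4, one_mul,
        hB.dlt_torus h2 hx' ha' hw' hwA' hwC' hw3' hd', h6]
    refine Subtype.ext (Subtype.ext ?_)
    show ((dlt a' t' : T) : G) = (((d : X)⁻¹ • (F t : V) : V) : G)
    rw [hkey, hm, ← hn, ← map_inv, ← map_inv, smul_coe, smul_coe]
    rfl
  rw [← hZc]
  exact card_le_four_of_weights hDc (fun z => Subtype.ext (h1.two z)) htrans hfree f hf heq

theorem eq_four_of_pair (hC : IsCIT G) {V T : Subgroup G} {q : ℕ}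
    (hV : NaturalLocal V T q) (hT : NaturalLocal T V q) (hq : 2 < q) : q = 4 := by
  have h := le_four_of_pair hC hV hT
  obtain ⟨n, rfl⟩ := hV.exists_two_pow
  rcases n with _ | _ | _ | n
  · norm_num at hq
  · norm_num at hq
  · rfl
  · exfalso
    rw [show n + 1 + 1 + 1 = 3 + n by ring, pow_add] at h
    have := Nat.one_le_two_pow (n := n)
    nlinarith

end CfsgLib.CIT
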