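import Cfsg.Agent.Lib.CIT.FFCount
import Cfsg.Agent.Lib.CIT.Natural.Conj
import Cfsg.Agent.Lib.CIT.Natural.Pair
import Cfsg.Agent.Lib.Fusion.ThompsonTransfer

/-!
# A natural 2-local with `q > 2` contains a Sylow 2-subgroup of a simple CIT group

If not, a 2-element moves `V` to a partner `W`, so `q = 4`; an involution `τ` outside `R = V ⊔ W`
inverts an element of order three, and it is not fused into `R`, against Thompson transfer.
-/

set_option autoImplicit false

namespace CfsgLib.CIT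

open Subgroup
open scoped IsMulCommutative commutatorElement

variable {G : Type*} [Group G] [Finite G]

/-- A partner from an elementary abelian subgroup of order `q²` of `V ⊔ A` other than `V`. -/
theorem NaturalLocal.inf_eq_of_ne {V A W : Subgroup G} {q : ℕ} (hC : IsCIT G)
    (h : NaturalLocal V A q) (hW : W ≤ V ⊔ A) (hsq : ∀ w ∈ W, w * w = 1)
    (hc : IsMulCommutative W) (hcard : Nat.card W = q ^ 2) (hne : W ≠ V) :
    Nat.card ↥(W ⊓ V) = q := by
  haveI := h.comm_V
  have hle : ¬ W ≤ V := fun hle => hne (Subgroup.eq_of_le_of_card_ge hle (by rw [h.card_V, hcard]))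
  obtain ⟨x, hx, hxV⟩ := SetLike.not_le_iff_exists.1 hle
  refine le_antisymm ?_ ?_
  · set ab := (nrep V).rangeRestrict ⟨x, h.sup_le_normalizer (hW hx)⟩ with hab
    have hmem : ab ∈ nimg V A := h.mem_img_iff.2 (hW hx)
    have hne1 : ab ≠ 1 := fun e => hxV (h.centralizer_eq.le
      ((rep_eq_one_iff _ _).1 (congrArg Subtype.val e)))
    have hf : (W ⊓ V).subgroupOf V ≤ fixE (V := V) ab := fun u hu =>
      mem_fixE.2 ((smul_eq_iff _ _ u).2 (LocEven.commute_of_comm hc hx hu.1))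
    have := Subgroup.card_le_of_le hf
    rwa [(h.isOffender hC).fixE_eq (h.setting hC) hmem hne1, h.card_fixS hC,
      Nat.card_congr (Subgroup.subgroupOfEquivOfLe inf_le_right).toEquiv] at this
  · refine Nat.le_of_mul_le_mul_left ?_ (Nat.pow_pos (n := 3) h.q_pos)
    calc q ^ 3 * q = Nat.card W * Nat.card V := by rw [hcard, h.card_V]; ring
      _ ≤ Nat.card ↥(W ⊔ V) * Nat.card ↥(W ⊓ V) := CfsgLib.PLocal.card_mul_card_le_sup_inf _ _
      _ ≤ q ^ 3 * Nat.card ↥(W ⊓ V) := Nat.mul_le_mul_right _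
          (h.card_sup ▸ Subgroup.card_le_of_le (sup_le hW le_sup_left))

/-- Every non-trivial element of `V` is conjugate to an element of `A ⊓ V`. -/
theorem NaturalLocal.exists_conj_inf {V A : Subgroup G} {q : ℕ} (hC : IsCIT G)
    (h : NaturalLocal V A q) {v : G} (hv : v ∈ V) (hv1 : v ≠ 1) :
    ∃ g : G, g * v * g⁻¹ ∈ A ⊓ V := by
  classical
  haveI := h.comm_V
  have hset := h.setting hC
  have hA := h.isOffender hC
  let Ob := IsOffender.orb (nimg V A)
  have hoff : ∀ O : Ob, IsOffender V (O : Subgroup (nrep V).range) := fun O => by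
    obtain ⟨x, hx : cj x (nimg V A) = _⟩ := O.2
    rw [← hx]; exact hA.conj x
  let f : (Σ O : Ob, {z : fixS (V := V) (O.1 : Subgroup (nrep V).range) // z ≠ 1}) → {u : V // u ≠ 1} :=
    fun p => ⟨(p.2.1 : V), fun e => p.2.2 (Subtype.ext e)⟩
  have hf : Function.Injective f := by
    rintro ⟨O, ⟨⟨z, hz⟩, hz1⟩⟩ ⟨O', ⟨⟨z', hz'⟩, hz1'⟩⟩ he
    obtain rfl : z = z' := congrArg Subtype.val he
    have hOO : O' = O := Subtype.ext ((hoff O).eq_of_common hset (hoff O')
      (fun e => hz1 (Subtype.ext e)) hz hz')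
    subst hOO
    rfl
  haveI : Fintype V := Fintype.ofFinite V
  haveI : Fintype Ob := Fintype.ofFinite Ob
  have hb := hf.bijective_of_nat_card_le (by
    rw [Nat.card_eq_fintype_card, Fintype.card_subtype_compl, Fintype.card_subtype_eq,
      ← Nat.card_eq_fintype_card, h.card_V, Nat.card_sigma,
      Finset.sum_const_nat (m := q - 1) fun O _ => ?_, Finset.card_univ, ← Nat.card_eq_fintype_card,
      hA.card_orb hset, h.card_nimg hC]
    · rw [← Nat.sq_sub_sq, one_pow]
    · haveI : Fintype (fixS (V := V) (O : Subgroup (nrep V).range)) := Fintype.ofFinite _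
      rw [Nat.card_eq_fintype_card, Fintype.card_subtype_compl, Fintype.card_subtype_eq,
        ← Nat.card_eq_fintype_card, ← hA.fix_card_eq hset (hoff O), h.card_fixS hC])
  obtain ⟨⟨O, z⟩, hz⟩ := hb.2 ⟨⟨v, hv⟩, fun e => hv1 (congrArg Subtype.val e)⟩
  have hzv : (z.1 : V) = ⟨v, hv⟩ := congrArg Subtype.val hz
  obtain ⟨x, hx : cj x (nimg V A) = _⟩ := O.2
  obtain ⟨g, rfl⟩ := (nrep V).rangeRestrict_surjective x
  have hz2 : (z.1 : V) ∈ fixS (V := V) (cj ((nrep V).rangeRestrict g) (nimg V A)) := by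
    rw [hx]; exact z.1.2
  rw [mem_fixS_cj, hzv, ← map_inv, h.mem_fixS_iff hC, smul_coe] at hz2
  refine ⟨(g : G)⁻¹, ?_, ?_⟩
  · simpa using hz2
  · have := (Subgroup.mem_normalizer_iff.1 (inv_mem g.2) v).1 hv
    simpa using this

/-- The data left when a natural 2-local is not Sylow: `q = 4`. -/
structure SmallData (V W : Subgroup G) (k τ : G) : Prop where
  hV : NaturalLocal V W 4
  hW : NaturalLocal W V 4
  k_three : orderOf k = 3
  k_V : k ∈ normalizer (V : Set G)
  k_R : k ∈ normalizer ((V ⊔ W : Subgroup G) : Set G)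
  τ_two : orderOf τ = 2
  τ_V : τ ∉ normalizer (V : Set G)
  τ_R : τ ∈ normalizer ((V ⊔ W : Subgroup G) : Set G)
  τ_k : τ * k * τ = k⁻¹

/-- Elements normalising `R = V ⊔ W` permute `V` and `W`. -/
theorem perm_pair (hC : IsCIT G) {V W : Subgroup G} {q : ℕ} (h1 : NaturalLocal V W q)
    (h2 : NaturalLocal W V q) {g : G} (hg : g ∈ normalizer ((V ⊔ W : Subgroup G) : Set G)) :
    (V.map (MulAut.conj g).toMonoidHom = V ∧ W.map (MulAut.conj g).toMonoidHom = W) ∨
    (V.map (MulAut.conj g).toMonoidHom = W ∧ W.map (MulAut.conj g).toMonoidHom = V) := by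
  have hinj : Function.Injective (MulAut.conj g).toMonoidHom := (MulAut.conj g).injective
  have key : ∀ U : Subgroup G, U ≤ V ⊔ W → (∀ u ∈ U, u * u = 1) → Nat.card U = q ^ 2 →
      U.map (MulAut.conj g).toMonoidHom = V ∨ U.map (MulAut.conj g).toMonoidHom = W := by
    intro U hU hU2 hUc
    refine h1.eq_or_eq hC h2.sq_V ?_ ?_ (by rw [Subgroup.card_map_of_injective hinj, hUc])
    · rintro _ ⟨u, hu, rfl⟩
      exact (mem_normalizer_iff.1 hg u).1 (hU hu)
    · rintro _ ⟨u, hu, rfl⟩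
      rw [← map_mul, hU2 u hu, map_one]
  have hne : V ≠ W := fun e => h1.not_le (e ▸ le_rfl)
  rcases key V le_sup_left h1.sq_V h1.card_V with hV | hV <;>
    rcases key W le_sup_right h2.sq_V h2.card_V with hW | hW
  · exact absurd (Subgroup.map_injective hinj (hV.trans hW.symm)) hne
  · exact Or.inl ⟨hV, hW⟩
  · exact Or.inr ⟨hV, hW⟩
  · exact absurd (Subgroup.map_injective hinj (hV.trans hW.symm)) hne

theorem mem_normalizer_of_map_eq {g : G} {V : Subgroup G}
    (h : V.map (MulAut.conj g).toMonoidHom = V) : g ∈ normalizer (V : Set G) :=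
  Subgroup.mem_normalizer_fintype fun v hv => h.le ⟨v, hv, rfl⟩

theorem map_eq_of_mem_normalizer {g : G} {V : Subgroup G} (h : g ∈ normalizer (V : Set G)) :
    V.map (MulAut.conj g).toMonoidHom = V := by
  ext x
  rw [mem_map_conj]
  exact (mem_normalizer_iff''.1 h x).symm

namespace SmallData

variable {V W : Subgroup G} {k τ : G} (D : SmallData V W k τ)
include D

theorem τ_sq : τ * τ = 1 := by rw [← pow_two, ← D.τ_two, pow_orderOf_eq_one]

theorem conj_swap (hC : IsCIT G) :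
    V.map (MulAut.conj τ).toMonoidHom = W ∧ W.map (MulAut.conj τ).toMonoidHom = V := by
  rcases perm_pair hC D.hV D.hW D.τ_R with h | h
  · exact absurd (mem_normalizer_of_map_eq h.1) D.τ_V
  · exact h

theorem swap_V (hC : IsCIT G) {v : G} (hv : v ∈ V) : τ * v * τ ∈ W := by
  have := (D.conj_swap hC).1.le ⟨v, hv, rfl⟩
  simpa [MulAut.conj_apply, inv_eq_of_mul_eq_one_right D.τ_sq] using this

theorem swap_W (hC : IsCIT G) {v : G} (hv : v ∈ W) : τ * v * τ ∈ V := by
  have := (D.conj_swap hC).2.le ⟨v, hv, rfl⟩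
  simpa [MulAut.conj_apply, inv_eq_of_mul_eq_one_right D.τ_sq] using this

theorem pgroup_S : IsPGroup 2 ↥((V ⊔ W) ⊔ zpowers τ) := by
  refine IsPGroup.to_sup_of_normal_left' D.hV.isPGroup_sup ?_ ((zpowers_le).2 D.τ_R)
  intro y
  obtain ⟨i, hi⟩ := Subgroup.mem_zpowers_iff.1 y.2
  refine ⟨1, Subtype.ext ?_⟩
  show (y : G) ^ 2 ^ 1 = 1
  rw [← hi, pow_one, ← zpow_natCast, ← zpow_mul, mul_comm, zpow_mul, zpow_natCast, pow_two,
    D.τ_sq, one_zpow]

theorem mem_S {x : G} (hx : x ∈ (V ⊔ W) ⊔ zpowers τ) : x ∈ V ⊔ W ∨ x * τ ∈ V ⊔ W := by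
  rw [← SetLike.mem_coe, Subgroup.coe_mul_of_right_le_normalizer_left _ _ ((zpowers_le).2 D.τ_R)] at hx
  obtain ⟨r, hr, t, ht, rfl⟩ := hx
  obtain ⟨i, rfl⟩ := Subgroup.mem_zpowers_iff.1 ht
  rcases Int.even_or_odd i with ⟨j, hj⟩ | ⟨j, hj⟩
  · left
    rw [hj, ← two_mul, zpow_mul, show τ ^ (2 : ℤ) = 1 by rw [zpow_two, D.τ_sq], one_zpow]
    simpa using hr
  · right
    rw [hj, zpow_add, zpow_mul, show τ ^ (2 : ℤ) = 1 by rw [zpow_two, D.τ_sq], one_zpow, one_mul,
      zpow_one]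
    simpa [mul_assoc, D.τ_sq] using hr

theorem relIndex_R : (V ⊔ W).relIndex ((V ⊔ W) ⊔ zpowers τ) = 2 := by
  rw [Subgroup.relIndex, Subgroup.index_eq_two_iff]
  refine ⟨⟨τ, mem_sup_right (mem_zpowers τ)⟩, fun b => ?_⟩
  simp only [mem_subgroupOf, Subgroup.coe_mul]
  have hτR : τ ∉ V ⊔ W := fun h => D.τ_V (D.hV.sup_le_normalizer h)
  rcases D.mem_S b.2 with h | h
  · exact Or.inr ⟨h, fun h' => hτR ((mul_mem_cancel_left h).1 h')⟩
  · refine Or.inl ⟨h, fun h' => hτR ((mul_mem_cancel_left h').1 h)⟩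

/-- An elementary abelian subgroup of order sixteen of `R⟨τ⟩` is `V` or `W`. -/
theorem eq_or_eq_S (hC : IsCIT G) {U : Subgroup G} (hU : U ≤ (V ⊔ W) ⊔ zpowers τ)
    (hUc : IsMulCommutative U) (hU2 : ∀ u ∈ U, u * u = 1) (hUn : Nat.card U = 16) :
    U = V ∨ U = W := by
  by_cases hUR : U ≤ V ⊔ W
  · exact D.hV.eq_or_eq hC D.hW.sq_V hUR hU2 (by rw [hUn]; norm_num)
  exfalso
  obtain ⟨u, hu, huR⟩ := SetLike.not_le_iff_exists.1 hUR
  have hu' := (D.mem_S (hU hu)).resolve_left huR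
  have hτVW : τ ∈ normalizer ((V ⊔ W : Subgroup G) : Set G) := D.τ_R
  -- `u` exchanges `V` and `W`
  have hun : u ∈ normalizer ((V ⊔ W : Subgroup G) : Set G) := by
    have e : u = (u * τ) * τ := by rw [mul_assoc, D.τ_sq, mul_one]
    rw [e]
    exact mul_mem (Subgroup.le_normalizer hu') hτVW
  have hswap : V.map (MulAut.conj u).toMonoidHom = W ∧ W.map (MulAut.conj u).toMonoidHom = V := by
    rcases perm_pair hC D.hV D.hW hun with h | h
    · have h1 : u * τ ∈ normalizer (V : Set G) := D.hV.sup_le_normalizer hu'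
      exact absurd (by simpa using mul_mem (inv_mem (mem_normalizer_of_map_eq h.1)) h1) D.τ_V
    · exact h
  have hsmall : U ⊓ (V ⊔ W) ≤ W ⊓ V := by
    intro x hx
    have hxx := hU2 x hx.1
    have hfix : u * x * u⁻¹ = x := by
      rw [LocEven.commute_of_comm hUc hu hx.1, mul_inv_cancel_right]
    rcases D.hV.mem_or_mem_of_sq hC D.hW.sq_V hx.2 hxx with hV | hW
    · exact ⟨hswap.1.le ⟨x, hV, hfix⟩, hV⟩
    · exact ⟨hW, hswap.2.le ⟨x, hW, hfix⟩⟩
  have h1 := Subgroup.card_le_of_le hsmall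
  rw [D.hV.card_inf] at h1
  have h2 : (U ⊓ (V ⊔ W)).relIndex U ≤ 2 := by
    rw [inf_relIndex_left]
    exact (Subgroup.relIndex_le_of_le_right hU (by rw [D.relIndex_R]; norm_num)).trans_eq D.relIndex_R
  have h3 : (U ⊓ (V ⊔ W)).relIndex U * Nat.card ↥(U ⊓ (V ⊔ W)) = Nat.card U := by
    have := Subgroup.relIndex_mul_relIndex ⊥ (U ⊓ (V ⊔ W)) U bot_le inf_le_left
    rw [relIndex_bot_left, relIndex_bot_left] at this
    rw [mul_comm]; exact this
  rw [hUn] at h3
  have := Nat.mul_le_mul h2 h1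
  omega

/-- `R⟨τ⟩` is a Sylow 2-subgroup. -/
theorem sylow_S (hC : IsCIT G) {P : Subgroup G} (hP : IsPGroup 2 P)
    (hle : (V ⊔ W) ⊔ zpowers τ ≤ P) : P = (V ⊔ W) ⊔ zpowers τ := by
  haveI : Fact (Nat.Prime 2) := ⟨Nat.prime_two⟩
  refine le_antisymm ?_ hle
  by_contra hnle
  set S := (V ⊔ W) ⊔ zpowers τ with hS
  haveI := hP.isNilpotent
  have hlt : S.subgroupOf P < ⊤ := by
    rw [lt_top_iff_ne_top, Ne, subgroupOf_eq_top]; exact hnle
  obtain ⟨⟨g, hgP⟩, hgn, hgS⟩ :=
    SetLike.exists_of_lt (Group.normalizerCondition_of_isNilpotent _ hlt)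
  rw [mem_subgroupOf] at hgS
  apply hgS
  have hgnS : ∀ x ∈ S, g * x * g⁻¹ ∈ S := fun x hx => by
    have := (mem_normalizer_iff.1 hgn ⟨x, hle hx⟩).1 (by rw [mem_subgroupOf]; exact hx)
    rw [mem_subgroupOf] at this
    exact this
  have hinj : Function.Injective (MulAut.conj g).toMonoidHom := (MulAut.conj g).injective
  have hmap : ∀ U : Subgroup G, U ≤ V ⊔ W → IsMulCommutative U → (∀ u ∈ U, u * u = 1) →
      Nat.card U = 16 → U.map (MulAut.conj g).toMonoidHom ≤ V ⊔ W := by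
    intro U hU hUc hU2 hUn
    haveI := hUc
    have hle' : U.map (MulAut.conj g).toMonoidHom ≤ S := by
      rintro _ ⟨u, hu, rfl⟩
      exact hgnS u (mem_sup_left (hU hu))
    have hsq' : ∀ x ∈ U.map (MulAut.conj g).toMonoidHom, x * x = 1 := by
      rintro _ ⟨u, hu, rfl⟩
      rw [← map_mul, hU2 u hu, map_one]
    rcases D.eq_or_eq_S hC hle' (Subgroup.map_isMulCommutative U _) hsq'
        (by rw [Subgroup.card_map_of_injective hinj, hUn]) with h | h
    · rw [h]; exact le_sup_left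
    · rw [h]; exact le_sup_right
  have hgR : g ∈ normalizer ((V ⊔ W : Subgroup G) : Set G) := by
    refine mem_normalizer_of_map_eq (Subgroup.eq_of_le_of_card_ge ?_
      (Subgroup.card_map_of_injective hinj).ge)
    rw [Subgroup.map_sup]
    exact sup_le (hmap V le_sup_left D.hV.comm_V D.hV.sq_V (by rw [D.hV.card_V]; norm_num))
      (hmap W le_sup_right D.hW.comm_V D.hW.sq_V (by rw [D.hW.card_V]; norm_num))
  have key : ∀ x ∈ P, x ∈ normalizer ((V ⊔ W : Subgroup G) : Set G) →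
      x ∈ normalizer (V : Set G) → x ∈ V ⊔ W := by
    intro x hxP hxR hxV
    have h64 := D.hV.card_sylow ((V ⊔ W) ⊔ zpowers x)
      (sup_le D.hV.sup_le_normalizer ((zpowers_le).2 hxV))
      (hP.to_le (sup_le ((le_sup_left : V ⊔ W ≤ S).trans hle) ((zpowers_le).2 hxP)))
    have := Subgroup.eq_of_le_of_card_ge (le_sup_left : V ⊔ W ≤ (V ⊔ W) ⊔ zpowers x)
      (by rw [D.hV.card_sup]; exact h64)
    rw [this]
    exact mem_sup_right (mem_zpowers x)
  rcases perm_pair hC D.hV D.hW hgR with h | h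
  · exact mem_sup_left (key g hgP hgR (mem_normalizer_of_map_eq h.1))
  · have hgτ : g * τ ∈ normalizer (V : Set G) := by
      apply mem_normalizer_of_map_eq
      rw [map_mul, show ((MulAut.conj g * MulAut.conj τ : MulAut G)).toMonoidHom =
          (MulAut.conj g).toMonoidHom.comp (MulAut.conj τ).toMonoidHom from rfl,
        ← Subgroup.map_map, (D.conj_swap hC).1, h.2]
    have := key _ (mul_mem hgP (hle (mem_sup_right (mem_zpowers τ)))) (mul_mem hgR D.τ_R) hgτ
    have e : g = (g * τ) * τ := by rw [mul_assoc, D.τ_sq, mul_one]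
    show g ∈ S
    rw [e]
    exact mul_mem (mem_sup_left this) (mem_sup_right (mem_zpowers τ))

theorem k_zero {z : G} (hC : IsCIT G) (hz : z * z = 1) (hc : Commute k z) : z = 1 := by
  by_contra hz1
  obtain ⟨j, hj⟩ := two_pow_of_commute hC hz1 (k := 1) (by rw [pow_one, pow_two]; exact hz) hc.symm
  have := orderOf_dvd_of_pow_eq_one hj
  rw [D.k_three] at this
  exact absurd ((Nat.prime_dvd_prime_iff_eq Nat.prime_three Nat.prime_two).1
    (Nat.prime_three.dvd_of_dvd_pow this)) (by norm_num)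

theorem k_inf (hC : IsCIT G) {z : G} (hz : z ∈ W ⊓ V) : k * z * k⁻¹ ∈ W ⊓ V := by
  refine ⟨?_, (mem_normalizer_iff.1 D.k_V z).1 hz.2⟩
  rcases perm_pair hC D.hV D.hW D.k_R with h | h
  · exact h.2.le ⟨z, hz.1, rfl⟩
  · exact h.1.le ⟨z, hz.2, rfl⟩

/-- `k` permutes the three involutions of `W ⊓ V` transitively. -/
theorem k_trans (hC : IsCIT G) {z z' : G} (hz : z ∈ W ⊓ V) (hz' : z' ∈ W ⊓ V) (h1 : z ≠ 1)
    (h1' : z' ≠ 1) : ∃ g : G, g * z * g⁻¹ = z' := by
  classical
  by_contra hno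
  push Not at hno
  haveI := Fintype.ofFinite (W ⊓ V : Subgroup G)
  have hzz : z * z = 1 := D.hV.sq_V z hz.2
  set z₁ := k * z * k⁻¹ with hz1def
  set z₂ := k * z₁ * k⁻¹ with hz2def
  have hk3 : k * (k * k) = 1 := by rw [← pow_three, ← D.k_three, pow_orderOf_eq_one]
  have n1 : z₁ ≠ z := fun e => h1 (D.k_zero hC hzz (mul_inv_eq_iff_eq_mul.1 e))
  have m1 : z₁ ≠ 1 := fun e => h1 (conj_eq_one_iff.1 e)
  have m2 : z₂ ≠ 1 := fun e => m1 (conj_eq_one_iff.1 e)
  have n2 : z₂ ≠ z₁ := fun e => n1 (mul_left_cancel (mul_right_cancel e))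
  have n3 : z₂ ≠ z := fun e => n1 (by
    have e' : k * z₂ * k⁻¹ = z := by
      calc k * z₂ * k⁻¹ = (k * (k * k)) * z * (k * (k * k))⁻¹ := by rw [hz2def, hz1def]; group
        _ = z := by rw [hk3]; group
    rw [e, ← hz1def] at e'
    exact e')
  let S : Finset (W ⊓ V : Subgroup G) := {1, ⟨z, hz⟩, ⟨z₁, D.k_inf hC hz⟩,
    ⟨z₂, D.k_inf hC (D.k_inf hC hz)⟩}
  have hS : S = Finset.univ := by
    apply Finset.eq_univ_of_card
    rw [← Nat.card_eq_fintype_card, D.hV.card_inf]
    simp only [S]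
    rw [Finset.card_insert_of_notMem (by
        simp [Subtype.ext_iff, Ne.symm h1, Ne.symm m1, Ne.symm m2]),
      Finset.card_insert_of_notMem (by simp [Ne.symm n1, Ne.symm n3]),
      Finset.card_insert_of_notMem (by simp [Ne.symm n2]), Finset.card_singleton]
  have hmem := Finset.mem_univ (⟨z', hz'⟩ : (W ⊓ V : Subgroup G))
  rw [← hS] at hmem
  simp [S, Subtype.ext_iff] at hmem
  rcases hmem with e | e | e | e
  · exact h1' e
  · exact hno 1 (by simp [e])
  · exact hno k e.symm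
  · exact hno (k * k) (by rw [e, hz2def, hz1def]; group)

/-- `τ` centralises an element of order four of `R` squaring into `W ⊓ V`. -/
theorem exists_four (hC : IsCIT G) :
    ∃ x z₀ : G, Commute τ x ∧ x ∈ V ⊔ W ∧ x * x = z₀ ∧ z₀ ∈ W ⊓ V ∧ z₀ ≠ 1 ∧ Commute τ z₀ := by
  obtain ⟨v, hv, hvW⟩ : ∃ v ∈ V, v ∉ W := by
    by_contra! hall
    exact D.hW.not_le hall
  set v' := τ * v * τ with hv'
  have hv'W : v' ∈ W := D.swap_V hC hv
  have hvv := D.hV.sq_V v hv
  have hv'v' := D.hW.sq_V v' hv'W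
  set c := v * v' with hc
  have hτc : τ * c * τ = c⁻¹ := by
    rw [hc, mul_inv_rev, inv_eq_of_mul_eq_one_right hvv, inv_eq_of_mul_eq_one_right hv'v', hv']
    calc τ * (v * (τ * v * τ)) * τ = τ * v * τ * v * (τ * τ) := by group
      _ = τ * v * τ * v := by rw [D.τ_sq, mul_one]
  have hcR : c ∈ V ⊔ W := mul_mem (mem_sup_left hv) (mem_sup_right hv'W)
  set z₀ := c * c with hz0
  have hz0Z : z₀ ∈ W ⊓ V := by
    have : z₀ = ⁅v, v'⁆ := by
      rw [hz0, hc, commutatorElement_def, inv_eq_of_mul_eq_one_right hvv,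
        inv_eq_of_mul_eq_one_right hv'v', mul_assoc (v * v')]
    rw [this]
    exact D.hV.commutator_mem hC (mem_sup_left hv) (mem_sup_right hv'W)
  have hz01 : z₀ ≠ 1 := by
    intro e
    rcases D.hV.mem_or_mem_of_sq hC D.hW.sq_V hcR e with h | h
    · have h4 := D.swap_V hC ((V.mul_mem_cancel_left hv).1 h)
      rw [hv'] at h4
      apply hvW
      have : τ * (τ * v * τ) * τ = v := by
        calc τ * (τ * v * τ) * τ = (τ * τ) * v * (τ * τ) := by group
          _ = v := by rw [D.τ_sq, one_mul, mul_one]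
      rwa [this] at h4
    · exact hvW ((W.mul_mem_cancel_right hv'W).1 h)
  have hz0sq : z₀ * z₀ = 1 := D.hV.sq_V _ hz0Z.2
  have hz0inv : z₀⁻¹ = z₀ := inv_eq_of_mul_eq_one_right hz0sq
  have hτz0 : τ * z₀ * τ = z₀ := by
    calc τ * z₀ * τ = (τ * c * τ) * (τ * c * τ) := by
          rw [hz0]
          calc τ * (c * c) * τ = τ * c * 1 * c * τ := by group
            _ = τ * c * (τ * τ) * c * τ := by rw [D.τ_sq]
            _ = _ := by group
      _ = z₀⁻¹ := by rw [hτc, hz0]; group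
      _ = z₀ := hz0inv
  have hcommτ : ∀ y : G, τ * y * τ = y → Commute τ y := fun y hy => by
    show τ * y = y * τ
    conv_rhs => rw [← hy]
    rw [mul_assoc, D.τ_sq, mul_one]
  -- an element `w` of the intersection with `w * (τ * w * τ) = z₀`
  set w := k * z₀ * k⁻¹ with hw
  have hwZ : w ∈ W ⊓ V := D.k_inf hC hz0Z
  have hτw : τ * w * τ = k⁻¹ * z₀ * k := by
    have hτki : τ * k⁻¹ * τ = k := by
      rw [← D.τ_k]
      calc τ * (τ * k * τ) * τ = (τ * τ) * k * (τ * τ) := by group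
        _ = k := by rw [D.τ_sq, one_mul, mul_one]
    calc τ * w * τ = (τ * k * τ) * (τ * z₀ * τ) * (τ * k⁻¹ * τ) := by
          rw [hw]
          calc τ * (k * z₀ * k⁻¹) * τ = τ * k * 1 * z₀ * 1 * k⁻¹ * τ := by group
            _ = τ * k * (τ * τ) * z₀ * (τ * τ) * k⁻¹ * τ := by rw [D.τ_sq]
            _ = _ := by group
      _ = k⁻¹ * z₀ * k := by rw [D.τ_k, hτz0, hτki]
  set w' := k⁻¹ * z₀ * k with hw'
  have hk3 : k⁻¹ = k * k := inv_eq_of_mul_eq_one_right (by
    rw [← pow_three, ← D.k_three, pow_orderOf_eq_one])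
  have hw'Z : w' ∈ W ⊓ V := by
    have : w' = k * w * k⁻¹ := by
      rw [hw', hw, hk3]
      calc k * k * z₀ * k = k * k * z₀ * (k * k)⁻¹ * (k * (k * k)) := by group
        _ = k * (k * z₀ * k⁻¹) * (k * k) * (k * (k * k))⁻¹ * (k * (k * k)) := by group
        _ = _ := by
          have h1 : k * (k * k) = 1 := by rw [← pow_three, ← D.k_three, pow_orderOf_eq_one]
          rw [inv_mul_cancel_right, ← hk3]
    rw [this]
    exact D.k_inf hC hwZ
  have hsum : w * w' = z₀ := by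
    classical
    haveI := Fintype.ofFinite (W ⊓ V : Subgroup G)
    have nk : ∀ y : G, y * y = 1 → k * y * k⁻¹ = y → y = 1 := fun y hy e =>
      D.k_zero hC hy (mul_inv_eq_iff_eq_mul.1 e)
    have a1 : w ≠ z₀ := fun e => hz01 (nk z₀ hz0sq e)
    have a2 : w' ≠ z₀ := fun e => a1 (by
      rw [hw]
      conv_lhs => rw [← e, hw']
      group)
    have a3 : w ≠ w' := fun e => a1 (by
      rw [← hτw] at e
      have h5 := hcommτ _ e.symm
      have h6 : k * (k * z₀ * k⁻¹) * k⁻¹ = k⁻¹ * z₀ * k := by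
        calc k * (k * z₀ * k⁻¹) * k⁻¹ = k * k * z₀ * (k * k)⁻¹ := by group
          _ = k⁻¹ * z₀ * k := by rw [← hk3, inv_inv]
      rw [← hw, ← hw', ← hτw, ← e] at h6
      exact absurd (nk w (D.hV.sq_V _ hwZ.2) h6) (fun e1 => hz01 (conj_eq_one_iff.1 e1)))
    have b1 : w ≠ 1 := fun e => hz01 (conj_eq_one_iff.1 e)
    have b2 : w' ≠ 1 := fun e => hz01 (by
      rw [hw'] at e
      calc z₀ = k * (k⁻¹ * z₀ * k) * k⁻¹ := by group
        _ = 1 := by rw [e]; group)
    let S : Finset (W ⊓ V : Subgroup G) := {1, ⟨z₀, hz0Z⟩, ⟨w, hwZ⟩, ⟨w', hw'Z⟩}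
    have hS : S = Finset.univ := by
      apply Finset.eq_univ_of_card
      rw [← Nat.card_eq_fintype_card, D.hV.card_inf]
      simp only [S]
      rw [Finset.card_insert_of_notMem (by
          simp [Subtype.ext_iff, Ne.symm hz01, Ne.symm b1, Ne.symm b2]),
        Finset.card_insert_of_notMem (by simp [Ne.symm a1, Ne.symm a2]),
        Finset.card_insert_of_notMem (by simp [a3]), Finset.card_singleton]
    have hmem := Finset.mem_univ (⟨w * w', mul_mem hwZ hw'Z⟩ : (W ⊓ V : Subgroup G))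
    rw [← hS] at hmem
    simp [S, Subtype.ext_iff] at hmem
    rcases hmem with e | e | e | e
    · exact absurd ((inv_eq_of_mul_eq_one_right (D.hV.sq_V _ hwZ.2)).symm.trans
        (inv_eq_of_mul_eq_one_right e)) a3
    · exact e
    · exact absurd e b2
    · exact absurd e b1
  have hcw : Commute c w := D.hV.commute_inf hcR hwZ
  refine ⟨c * w, z₀, hcommτ _ ?_, mul_mem hcR (mem_sup_left hwZ.2), ?_, hz0Z, hz01, hcommτ _ hτz0⟩
  · calc τ * (c * w) * τ = (τ * c * τ) * (τ * w * τ) := by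
          calc τ * (c * w) * τ = τ * c * 1 * w * τ := by group
            _ = τ * c * (τ * τ) * w * τ := by rw [D.τ_sq]
            _ = _ := by group
      _ = c⁻¹ * w' := by rw [hτc, hτw]
      _ = c * w := by
          have : w' = w * z₀ := by
            rw [← hsum, ← mul_assoc, D.hV.sq_V _ hwZ.2, one_mul]
          rw [this]
          calc c⁻¹ * (w * z₀) = c⁻¹ * (w * c) * c := by rw [hz0]; group
            _ = c⁻¹ * (c * w) * c := by rw [hcw.eq]
            _ = w * c := by group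
            _ = c * w := hcw.eq.symm
  · calc c * w * (c * w) = c * (w * c) * w := by group
      _ = c * c * (w * w) := by rw [← hcw.eq]; group
      _ = z₀ := by rw [D.hV.sq_V _ hwZ.2, mul_one]

theorem false [IsSimpleGroup G] (hC : IsCIT G) : False := by
  haveI : Fact (Nat.Prime 2) := ⟨Nat.prime_two⟩
  set S := (V ⊔ W) ⊔ zpowers τ with hS
  obtain ⟨P, hP⟩ := D.pgroup_S.exists_le_sylow
  have hPS : (P : Subgroup G) = S := D.sylow_S hC P.2 hP
  obtain ⟨x, z₀, hτx, hxR, hxz, hz0, hz01, hτz⟩ := D.exists_four hC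
  have hz0o : orderOf z₀ = 2 := orderOf_eq_prime (by rw [pow_two]; exact D.hV.sq_V _ hz0.2) hz01
  -- the centraliser of `z₀` is `S`
  have hCz : centralizer ({z₀} : Set G) = S := by
    refine D.sylow_S hC (hC z₀ hz0o) (sup_le (fun r hr => ?_) ((zpowers_le).2 ?_))
    · exact mem_centralizer_singleton_iff.2 (D.hV.commute_inf hr hz0).eq
    · exact mem_centralizer_singleton_iff.2 hτz.eq
  -- every involution of `R` is conjugate to `z₀`
  have hfus : ∀ u ∈ V ⊔ W, u * u = 1 → u ≠ 1 → ∃ g : G, g * z₀ * g⁻¹ = u := by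
    intro u hu huu hu1
    have hVcase : ∀ u ∈ V, u ≠ 1 → ∃ g : G, g * z₀ * g⁻¹ = u := by
      intro u hu hu1
      obtain ⟨g, hg⟩ := D.hV.exists_conj_inf hC hu hu1
      obtain ⟨h, hh⟩ := D.k_trans hC hz0 hg hz01 (fun e => hu1 (conj_eq_one_iff.1 e))
      exact ⟨g⁻¹ * h, by
        calc g⁻¹ * h * z₀ * (g⁻¹ * h)⁻¹ = g⁻¹ * (h * z₀ * h⁻¹) * g := by group
          _ = u := by rw [hh]; group⟩
    rcases D.hV.mem_or_mem_of_sq hC D.hW.sq_V hu huu with h | h
    · exact hVcase u h hu1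
    · have hτi : τ⁻¹ = τ := inv_eq_of_mul_eq_one_right D.τ_sq
      obtain ⟨g, hg⟩ := hVcase (τ * u * τ) (D.swap_W hC h) (fun e => hu1 (by
        nth_rw 2 [← hτi] at e
        exact conj_eq_one_iff.1 e))
      refine ⟨τ * g, ?_⟩
      calc τ * g * z₀ * (τ * g)⁻¹ = τ * (g * z₀ * g⁻¹) * τ⁻¹ := by group
        _ = u := by
          rw [hg, hτi]
          calc τ * (τ * u * τ) * τ = (τ * τ) * u * (τ * τ) := by group
            _ = u := by rw [D.τ_sq, one_mul, mul_one]
  by_cases hno : ∀ g : G, g * τ * g⁻¹ ∉ V ⊔ W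
  · obtain ⟨M, hM, hMi, -⟩ := CfsgLib.ThompsonTransfer.exists_normal_index_two S (V ⊔ W)
      (by rw [← hPS, Nat.odd_iff, ← Nat.two_dvd_ne_zero]; exact P.not_dvd_index)
      D.relIndex_R τ (by rw [pow_two]; exact D.τ_sq) hno
    rcases hM.eq_bot_or_eq_top with e | e
    · rw [e, Subgroup.index_bot] at hMi
      have := Nat.le_of_dvd Nat.card_pos (V.card_subgroup_dvd_card)
      rw [hMi, D.hV.card_V] at this
      omega
    · rw [e, Subgroup.index_top] at hMi
      omega
  push Not at hno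
  obtain ⟨g, hg⟩ := hno
  obtain ⟨h, hh⟩ := hfus _ hg (by
    calc g * τ * g⁻¹ * (g * τ * g⁻¹) = g * (τ * τ) * g⁻¹ := by group
      _ = 1 := by rw [D.τ_sq, mul_one, mul_inv_cancel])
    (fun e => by
      have := D.τ_two
      rw [conj_eq_one_iff.1 e, orderOf_one] at this
      omega)
  set c := g⁻¹ * h with hc
  have hcz : c * z₀ * c⁻¹ = τ := by
    rw [hc]
    calc g⁻¹ * h * z₀ * (g⁻¹ * h)⁻¹ = g⁻¹ * (h * z₀ * h⁻¹) * g := by group
      _ = τ := by rw [hh]; group
  -- `z₀` lies in the index two subgroup of the centraliser of `τ`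
  have hx' : c⁻¹ * x * c ∈ S := by
    rw [← hCz, mem_centralizer_singleton_iff]
    rw [← hcz] at hτx
    calc c⁻¹ * x * c * z₀ = c⁻¹ * (x * (c * z₀ * c⁻¹)) * c := by group
      _ = c⁻¹ * ((c * z₀ * c⁻¹) * x) * c := by rw [hτx.eq]
      _ = z₀ * (c⁻¹ * x * c) := by group
  have hsq : c⁻¹ * z₀ * c ∈ V ⊔ W := by
    have := Subgroup.mul_self_mem_of_index_two (D.relIndex_R : ((V ⊔ W).subgroupOf S).index = 2)
      ⟨_, hx'⟩
    rw [mem_subgroupOf] at this
    have e : c⁻¹ * z₀ * c = c⁻¹ * x * c * (c⁻¹ * x * c) := by rw [← hxz]; group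
    rw [e]
    exact this
  set y := c⁻¹ * z₀ * c with hy
  obtain ⟨U, hUc, hU2, hUn, hUR, hyU⟩ : ∃ U : Subgroup G, IsMulCommutative U ∧
      (∀ u ∈ U, u * u = 1) ∧ Nat.card U = 16 ∧ U ≤ V ⊔ W ∧ y ∈ U := by
    have hyy : y * y = 1 := by
      calc y * y = c⁻¹ * (z₀ * z₀) * c := by rw [hy]; group
        _ = 1 := by rw [D.hV.sq_V _ hz0.2, mul_one, inv_mul_cancel]
    rcases D.hV.mem_or_mem_of_sq hC D.hW.sq_V hsq hyy with h | h
    · exact ⟨V, D.hV.comm_V, D.hV.sq_V, by rw [D.hV.card_V]; norm_num, le_sup_left, h⟩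
    · exact ⟨W, D.hW.comm_V, D.hW.sq_V, by rw [D.hW.card_V]; norm_num, le_sup_right, h⟩
  haveI := hUc
  set U' := U.map (MulAut.conj c).toMonoidHom with hU'
  have hU'S : U' ≤ S := by
    rintro _ ⟨u, hu, rfl⟩
    rw [← hCz, mem_centralizer_singleton_iff]
    have h1 : Commute u y := LocEven.commute_of_comm hUc hu hyU
    show c * u * c⁻¹ * z₀ = z₀ * (c * u * c⁻¹)
    calc c * u * c⁻¹ * z₀ = c * (u * y) * c⁻¹ := by rw [hy]; group
      _ = c * (y * u) * c⁻¹ := by rw [h1.eq]
      _ = _ := by rw [hy]; group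
  have hτU : ∀ u ∈ U', Commute τ u := by
    rintro _ ⟨u, hu, rfl⟩
    have h1 : Commute u z₀ := by
      have : u ∈ centralizer ({z₀} : Set G) := hCz ▸ mem_sup_left (hUR hu)
      exact (mem_centralizer_singleton_iff.1 this)
    rw [← hcz]
    show c * z₀ * c⁻¹ * (c * u * c⁻¹) = c * u * c⁻¹ * (c * z₀ * c⁻¹)
    calc _ = c * (z₀ * u) * c⁻¹ := by group
      _ = c * (u * z₀) * c⁻¹ := by rw [h1.eq]
      _ = _ := by group
  rcases D.eq_or_eq_S hC hU'S (Subgroup.map_isMulCommutative U _)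
    (by
      rintro _ ⟨u, hu, rfl⟩
      rw [← map_mul, hU2 u hu, map_one])
    (by rw [hU', Subgroup.card_map_of_injective (MulAut.conj c).injective, hUn]) with e | e
  · exact D.τ_V (Subgroup.le_normalizer (D.hV.mem_V_of_commute fun v hv => hτU v (e ▸ hv)))
  · exact D.τ_V (D.hV.sup_le_normalizer (mem_sup_right
      (D.hW.mem_V_of_commute fun v hv => hτU v (e ▸ hv))))

end SmallData

/-- If some 2-subgroup is larger than `q³` then `SmallData` exists. -/
theorem exists_smallData (hC : IsCIT G) {V A P : Subgroup G} {q : ℕ} (h : NaturalLocal V A q)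
    (hq : 2 < q) (hP : IsPGroup 2 P) (hlt : q ^ 3 < Nat.card P) :
    ∃ V W : Subgroup G, ∃ k τ : G, SmallData V W k τ := by
  haveI : Fact (Nat.Prime 2) := ⟨Nat.prime_two⟩
  set R := V ⊔ A with hR
  obtain ⟨S, hS⟩ := h.isPGroup_sup.exists_le_sylow
  have hSc : q ^ 3 < Nat.card S := lt_of_lt_of_le hlt (by
    obtain ⟨T, hT⟩ := hP.exists_le_sylow
    exact (Subgroup.card_le_of_le hT).trans (le_of_eq (by rw [S.card_eq_multiplicity, T.card_eq_multiplicity])))
  haveI := S.2.isNilpotent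
  have hltS : R.subgroupOf (S : Subgroup G) < ⊤ := by
    rw [lt_top_iff_ne_top, Ne, subgroupOf_eq_top]
    intro hle
    have := Subgroup.card_le_of_le hle
    rw [hR, h.card_sup] at this
    omega
  obtain ⟨⟨g, hgS⟩, hgn, hgR⟩ :=
    SetLike.exists_of_lt (Group.normalizerCondition_of_isNilpotent _ hltS)
  rw [mem_subgroupOf] at hgR
  have hgn' : g ∈ normalizer (R : Set G) := Subgroup.mem_normalizer_fintype fun x hx => by
    have := (mem_normalizer_iff.1 hgn ⟨x, hS hx⟩).1 (by rw [mem_subgroupOf]; exact hx)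
    rw [mem_subgroupOf] at this
    exact this
  set W := V.map (MulAut.conj g).toMonoidHom with hW
  have hWV : W ≠ V := fun e => hgR (by
    have hle : R ⊔ zpowers g ≤ normalizer (V : Set G) :=
      sup_le h.sup_le_normalizer ((zpowers_le).2 (mem_normalizer_of_map_eq e))
    have := Subgroup.eq_of_le_of_card_ge (le_sup_left : R ≤ R ⊔ zpowers g) (by
      rw [hR, h.card_sup]
      exact h.card_sylow _ hle (S.2.to_le (sup_le hS ((zpowers_le).2 hgS))))
    rw [this]
    exact mem_sup_right (mem_zpowers g))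
  have hWR : W ≤ R := by
    rintro _ ⟨v, hv, rfl⟩
    exact (mem_normalizer_iff.1 hgn' v).1 (mem_sup_left hv)
  have hconj := h.conj g
  have hinf := h.inf_eq_of_ne hC hWR hconj.sq_V hconj.comm_V hconj.card_V hWV
  have h1 : NaturalLocal V W q :=
    ⟨h.two_le, h.comm_V, h.sq_V, hconj.comm_V, h.card_V, hconj.card_V, hinf,
      hWR.trans h.sup_le_normalizer, h.centralizer_eq, h.core_eq, h.card_sylow⟩
  have hVn : V ≤ normalizer (W : Set G) := by
    intro v hv
    rw [hW, ← map_conj_normalizer, mem_map_conj]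
    refine h.sup_le_normalizer ?_
    exact (mem_normalizer_iff''.1 hgn' v).1 (mem_sup_left hv)
  have h2 : NaturalLocal W V q :=
    ⟨h.two_le, hconj.comm_V, hconj.sq_V, h.comm_V, hconj.card_V, h.card_V, by rw [inf_comm]; exact hinf,
      hVn, hconj.centralizer_eq, hconj.core_eq, hconj.card_sylow⟩
  have hq4 : q = 4 := eq_four_of_pair hC h1 h2 hq
  subst hq4
  have hRW : R = V ⊔ W := (Subgroup.eq_of_le_of_card_ge (sup_le le_sup_left hWR) (by
    rw [h.card_sup, h1.card_sup])).symm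
  rw [hRW] at hgn'
  -- an element of order three normalising `V` and `R`
  haveI := h1.comm_V
  have hset := h1.setting hC
  have hoff := h1.isOffender hC
  obtain ⟨x, hx⟩ := hoff.exists_conj_ne hset
  set D := normalizer (nimg V W : Set (nrep V).range) ⊓ normalizer (cj x (nimg V W) : Set (nrep V).range)
    with hD
  have hDc : Nat.card D = 3 := by rw [(hoff.pair_data hset hx).1, h1.card_fixS hC]
  haveI : Fact (Nat.Prime 3) := ⟨Nat.prime_three⟩
  obtain ⟨d, hd⟩ := exists_prime_orderOf_dvd_card' (G := D) 3 (by rw [hDc])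
  obtain ⟨k₀, hk₀⟩ := (nrep V).rangeRestrict_surjective (d : (nrep V).range)
  have hk₀3 : 3 ∣ orderOf k₀ := by
    have := orderOf_map_dvd (nrep V).rangeRestrict k₀
    rw [hk₀, Subgroup.orderOf_coe, hd] at this
    exact this
  set k := (k₀ : G) ^ (orderOf k₀ / 3) with hk
  have hk3 : orderOf k = 3 := by
    rw [hk, ← Subgroup.orderOf_coe]
    exact orderOf_pow_orderOf_div (orderOf_pos (k₀ : G)).ne' (by rw [Subgroup.orderOf_coe]; exact hk₀3)
  have hkV : k ∈ normalizer (V : Set G) := pow_mem k₀.2 _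
  have hkR : k ∈ normalizer ((V ⊔ W : Subgroup G) : Set G) := by
    refine pow_mem ?_ _
    refine Subgroup.mem_normalizer_fintype fun r hr => ?_
    set r' : normalizer (V : Set G) := ⟨r, h1.sup_le_normalizer hr⟩
    refine (h1.mem_img_iff (n := k₀ * r' * k₀⁻¹)).1 ?_
    rw [map_mul, map_mul, map_inv, hk₀]
    exact (mem_normalizer_iff.1 d.2.1 _).1 (h1.mem_img_iff.2 hr)
  -- the intersection of the two normalisers
  set B := normalizer (V : Set G) ⊓ normalizer ((V ⊔ W : Subgroup G) : Set G) with hB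
  have hBc : Nat.card B ∣ 192 := by
    let f : B →* normalizer (nimg V W : Set (nrep V).range) :=
      ((nrep V).rangeRestrict.comp (Subgroup.inclusion inf_le_left)).codRestrict _ fun b => by
        refine Subgroup.mem_normalizer_fintype fun y hy => ?_
        obtain ⟨r, rfl⟩ := (nrep V).rangeRestrict_surjective y
        show (nrep V).rangeRestrict _ * (nrep V).rangeRestrict r * ((nrep V).rangeRestrict _)⁻¹ ∈ _
        rw [← map_inv, ← map_mul, ← map_mul]
        exact h1.mem_img_iff.2 ((mem_normalizer_iff.1 b.2.2 _).1 (h1.mem_img_iff.1 hy))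
    have hkc := f.ker.card_eq_card_quotient_mul_card_subgroup
    have hk16 : Nat.card f.ker ∣ 16 := by
      let i : f.ker →* V := {
        toFun := fun b => ⟨((b.1 : B) : G), h1.centralizer_eq.le
          ((rep_eq_one_iff le_rfl (Subgroup.inclusion inf_le_left b.1 : normalizer (V : Set G))).1
          (congrArg (fun y => (y.1 : (nrep V).range).1) (MonoidHom.mem_ker.1 b.2)))⟩
        map_one' := rfl
        map_mul' := fun a b => rfl }
      have := Subgroup.card_dvd_of_injective i fun a b hab => by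
        have h' : ((a.1 : B) : G) = ((b.1 : B) : G) := congrArg (fun y : V => (y : G)) hab
        exact Subtype.ext (Subtype.ext h')
      rw [h1.card_V] at this
      exact this
    have hr12 : Nat.card (B ⧸ f.ker) ∣ 12 := by
      rw [Nat.card_congr (QuotientGroup.quotientKerEquivRange f).toEquiv]
      have := Subgroup.card_subgroup_dvd_card f.range
      rw [hoff.card_normalizer hset, h1.card_nimg hC] at this
      exact this
    rw [hkc]
    exact mul_dvd_mul hr12 hk16
  -- Frattini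
  have hgV : g ∉ normalizer (V : Set G) := fun hgV => hWV (map_eq_of_mem_normalizer hgV)
  have hBconj : ∀ b ∈ B, g * b * g⁻¹ ∈ B := by
    intro b hb
    obtain ⟨hbV, hbR⟩ : b ∈ normalizer (V : Set G) ∧
        b ∈ normalizer ((V ⊔ W : Subgroup G) : Set G) := hb
    refine Subgroup.mem_inf.2 ⟨?_, mul_mem (mul_mem hgn' hbR) (inv_mem hgn')⟩
    have hswap : V.map (MulAut.conj g).toMonoidHom = W ∧ W.map (MulAut.conj g).toMonoidHom = V := by
      rcases perm_pair hC h1 h2 hgn' with hp | hp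
      · exact absurd (mem_normalizer_of_map_eq hp.1) hgV
      · exact hp
    have hbW : b ∈ normalizer (W : Set G) := by
      rcases perm_pair hC h1 h2 hbR with hp | hp
      · exact mem_normalizer_of_map_eq hp.2
      · exact absurd (hp.1.symm.trans (map_eq_of_mem_normalizer hbV)) hWV
    rw [← hswap.2, ← map_conj_normalizer, mem_map_conj]
    simpa [mul_assoc] using hbW
  have hkB : k ∈ B := ⟨hkV, hkR⟩
  set K : Subgroup B := zpowers ⟨k, hkB⟩ with hK
  set K' : Subgroup B := zpowers ⟨g * k * g⁻¹, hBconj k hkB⟩ with hK'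
  have h3B : 3 ∣ Nat.card B := by
    have := Subgroup.orderOf_dvd_natCard B hkB
    rwa [hk3] at this
  have h9 : ¬ 9 ∣ Nat.card B := fun h9 => by
    have := h9.trans hBc
    norm_num at this
  have hsyl : ∀ y : B, orderOf y = 3 → ∃ T : Sylow 3 B, (T : Subgroup B) = zpowers y := by
    intro y hy
    obtain ⟨T, hT⟩ := (IsPGroup.of_card (p := 3) (n := 1)
      (by rw [Nat.card_zpowers, hy, pow_one]) : IsPGroup 3 (zpowers y)).exists_le_sylow
    refine ⟨T, (Subgroup.eq_of_le_of_card_ge hT ?_).symm⟩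
    rw [Nat.card_zpowers, hy, T.card_eq_multiplicity]
    by_contra hlt3
    have hm : 2 ≤ (Nat.card B).factorization 3 := by
      by_contra h2
      apply hlt3
      calc 3 ^ (Nat.card B).factorization 3 ≤ 3 ^ 1 :=
            Nat.pow_le_pow_right (by norm_num) (by omega)
        _ = 3 := by norm_num
    exact h9 ((pow_dvd_pow 3 hm).trans (Nat.ordProj_dvd _ _))
  obtain ⟨T, hT⟩ := hsyl ⟨k, hkB⟩ (by rw [← Subgroup.orderOf_coe]; exact hk3)
  obtain ⟨T', hT'⟩ := hsyl ⟨g * k * g⁻¹, hBconj k hkB⟩ (by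
    rw [← Subgroup.orderOf_coe]
    exact (MulEquiv.orderOf_eq (MulAut.conj g) k).trans hk3)
  obtain ⟨b, hb⟩ := MulAction.exists_smul_eq B T' T
  set g' := (b : G) * g with hg'
  have hg'R : g' ∈ normalizer ((V ⊔ W : Subgroup G) : Set G) := mul_mem b.2.2 hgn'
  have hg'V : g' ∉ normalizer (V : Set G) := fun h' => hgV (by
    simpa [hg'] using mul_mem (inv_mem (Subgroup.mem_inf.1 b.2).1) h')
  have hg'k : g' * k * g'⁻¹ ∈ zpowers k := by
    have h4 : b * ⟨g * k * g⁻¹, hBconj k hkB⟩ * b⁻¹ ∈ (T : Subgroup B) := by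
      rw [← hb, Sylow.coe_subgroup_smul, Subgroup.mem_pointwise_smul_iff_inv_smul_mem]
      simp only [MulAut.smul_def, ← map_inv, MulAut.conj_apply, inv_inv]
      simpa [hT', mul_assoc] using mem_zpowers (⟨g * k * g⁻¹, hBconj k hkB⟩ : B)
    rw [hT, Subgroup.mem_zpowers_iff] at h4
    obtain ⟨i, hi⟩ := h4
    rw [Subgroup.mem_zpowers_iff]
    refine ⟨i, ?_⟩
    have := congrArg Subtype.val hi
    simpa [hg', mul_assoc] using this
  obtain ⟨a, m, hm, ham⟩ := Nat.exists_eq_two_pow_mul_odd (orderOf_pos g').ne'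
  set τ := g' ^ m with hτ
  have hτ2 : τ ^ 2 ^ a = 1 := by
    rw [hτ, ← pow_mul, mul_comm, ← ham, pow_orderOf_eq_one]
  have hsqV : ∀ y ∈ normalizer ((V ⊔ W : Subgroup G) : Set G), y * y ∈ normalizer (V : Set G) := by
    intro y hy
    apply mem_normalizer_of_map_eq
    rw [map_mul, show ((MulAut.conj y * MulAut.conj y : MulAut G)).toMonoidHom =
      (MulAut.conj y).toMonoidHom.comp (MulAut.conj y).toMonoidHom from rfl, ← Subgroup.map_map]
    rcases perm_pair hC h1 h2 hy with hp | hp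
    · rw [hp.1, hp.1]
    · rw [hp.1, hp.2]
  have hτR : τ ∈ normalizer ((V ⊔ W : Subgroup G) : Set G) := pow_mem hg'R _
  have hτV : τ ∉ normalizer (V : Set G) := by
    obtain ⟨j, rfl⟩ := hm
    intro hmem
    apply hg'V
    rw [hτ, pow_succ, pow_mul] at hmem
    exact (mul_mem_cancel_left (pow_mem (by rw [pow_two]; exact hsqV g' hg'R) j)).1 hmem
  classical
  have hconjk : ∀ y : G, y * k * y⁻¹ ∈ zpowers k → y * k * y⁻¹ = k ∨ y * k * y⁻¹ = k⁻¹ := by
    intro y hy
    rw [← IsOfFinOrder.mem_powers_iff_mem_zpowers (isOfFinOrder_of_finite k),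
      (isOfFinOrder_of_finite k).mem_powers_iff_mem_range_orderOf, hk3] at hy
    obtain ⟨i, hi, hyi⟩ := Finset.mem_image.1 hy
    rw [Finset.mem_range] at hi
    interval_cases i
    · exfalso
      rw [pow_zero, eq_comm, conj_eq_one_iff] at hyi
      rw [hyi, orderOf_one] at hk3
      omega
    · exact Or.inl (by rw [← hyi, pow_one])
    · refine Or.inr (hyi.symm.trans (eq_inv_of_mul_eq_one_left ?_))
      rw [← pow_succ, show 2 + 1 = orderOf k from hk3.symm, pow_orderOf_eq_one]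
  have hτk' : τ * k * τ⁻¹ ∈ zpowers k := by
    have key : ∀ n : ℕ, ∀ y ∈ zpowers k, g' ^ n * y * (g' ^ n)⁻¹ ∈ zpowers k := by
      intro n
      induction n with
      | zero => intro y hy; simpa using hy
      | succ n ih =>
        intro y hy
        obtain ⟨i, rfl⟩ := Subgroup.mem_zpowers_iff.1 hy
        have h5 := ih _ (zpow_mem hg'k i)
        rw [conj_zpow] at h5
        convert h5 using 1
        rw [pow_succ]; group
    exact key m k (mem_zpowers k)
  have h2pow : ∀ y : G, y ^ 2 ^ a = 1 → Commute y k → y = 1 := by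
    intro y hy hc
    by_contra hy1
    obtain ⟨j, hj⟩ := two_pow_of_commute hC hy1 hy hc
    have := orderOf_dvd_of_pow_eq_one hj
    rw [hk3] at this
    exact absurd ((Nat.prime_dvd_prime_iff_eq Nat.prime_three Nat.prime_two).1
      (Nat.prime_three.dvd_of_dvd_pow this)) (by norm_num)
  have hτne : τ ≠ 1 := fun e => hτV (e ▸ one_mem _)
  have hinv : τ * k * τ⁻¹ = k⁻¹ := (hconjk τ hτk').resolve_left fun e =>
    hτne (h2pow τ hτ2 (mul_inv_eq_iff_eq_mul.1 e))
  have hττ : τ * τ = 1 := by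
    refine h2pow _ (by rw [← pow_two, ← pow_mul, mul_comm, pow_mul, hτ2, one_pow]) ?_
    have h6 : τ * τ * k * (τ * τ)⁻¹ = k := by
      calc τ * τ * k * (τ * τ)⁻¹ = τ * (τ * k * τ⁻¹) * τ⁻¹ := by group
        _ = τ * k⁻¹ * τ⁻¹ := by rw [hinv]
        _ = (τ * k * τ⁻¹)⁻¹ := by group
        _ = k := by rw [hinv, inv_inv]
    exact mul_inv_eq_iff_eq_mul.1 h6
  refine ⟨V, W, k, τ, h1, h2, hk3, hkV, hkR, orderOf_eq_prime (by rw [pow_two]; exact hττ) hτne,
    hτV, hτR, ?_⟩
  rw [← hinv, inv_eq_of_mul_eq_one_right hττ]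

/-- In a simple CIT group the Sylow 2-subgroups of a natural 2-local with `q > 2` are Sylow. -/
theorem card_le_of_naturalLocal [IsSimpleGroup G] (hC : IsCIT G) {V A : Subgroup G} {q : ℕ}
    (h : NaturalLocal V A q) (hq : 2 < q) (P : Subgroup G) (hP : IsPGroup 2 P) :
    Nat.card P ≤ q ^ 3 := by
  by_contra hlt
  obtain ⟨V, W, k, τ, D⟩ := exists_smallData hC h hq hP (not_le.1 hlt)
  exact D.false hC

end CfsgLib.CIT
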