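import Cfsg.Agent.Lib.CIT.Main
import Cfsg.Agent.Lib.CIT.Natural.Small
import Cfsg.Agent.Lib.CIT.Natural.Order
import Cfsg.Agent.Lib.CIT.Natural.Coord
import Cfsg.Agent.Lib.CIT.Natural.PlaneData

/-!
# The branch of a natural 2-local with `q > 2`

A simple CIT group with a natural 2-local with `q > 2` is `PSL₃(4)`.
-/

set_option autoImplicit false

namespace CfsgLib.CIT

variable {G : Type*} [Group G] [Finite G]

/-- A simple CIT group with a natural 2-local with `q > 2` is `PSL₃(4)`. -/
theorem psl3_of_naturalLocal [IsSimpleGroup G] (hC : IsCIT G) {V A : Subgroup G} {q : ℕ}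
    (h : NaturalLocal V A q) (hq : 2 < q) :
    ∃ (F : Type) (_ : Field F) (_ : Fintype F), Fintype.card F = 4 ∧
      Nonempty (G ≃* Matrix.ProjectiveSpecialLinearGroup (Fin 3) F) := by
  obtain ⟨T, -, hV, hT, hconj, hcent⟩ :=
    order_case hC h hq fun P hP => card_le_of_naturalLocal hC h hq P hP
  have S : Natural.Side V T := ⟨hC, hV, hT⟩
  exact Natural.iso_psl34 (S.planeHyp hcent fun t s ht hs => hconj t s ht hs)

/-- The input `hlarge` of `classification_of`. -/
theorem nonTI_of_large [IsSimpleGroup G] (hC : IsCIT G) (V A : Subgroup G) (q : ℕ)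
    (h : NaturalLocal V A q) (hq : 2 < q) : NonTI G :=
  Or.inr (psl3_of_naturalLocal hC h hq)

end CfsgLib.CIT
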