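import Cfsg.Agent.Lib.CIT.FFOffender

/-!
# Weights of the torus of a natural module

The torus acts by mutually inverse characters on the fixed space and on the quotient by it, and by
the square of the character on the offender.  If, in addition, the square is conjugate to the
inverse, the fixed space has at most four elements.
-/

set_option autoImplicit false

namespace CfsgLib.CIT

/-- A regular abelian torus whose square character is conjugate to the inverse one. -/
theorem card_le_four_of_weights {D Z : Type*} [Group D] [CommGroup Z]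
    [MulDistribMulAction D Z] (hDc : ∀ d e : D, Commute d e)
    (htwo : ∀ z : Z, z * z = 1)
    (htrans : ∀ y z : Z, y ≠ 1 → z ≠ 1 → ∃ d : D, d • y = z)
    (hfree : ∀ (d : D) (z : Z), z ≠ 1 → d • z = z → d = 1)
    (f : Z →* Z) (hf : Function.Injective f)
    (heq : ∀ (d : D) (z : Z), f (d • d • z) = d⁻¹ • f z) : Nat.card Z ≤ 4 := by
  classical
  by_cases hne : ∃ z : Z, z ≠ 1
  swap
  · push Not at hne
    haveI : Subsingleton Z := ⟨fun a b => (hne a).trans (hne b).symm⟩
    rw [Nat.card_eq_one_iff_unique.2 ⟨inferInstance, ⟨1⟩⟩]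
    norm_num
  obtain ⟨z0, hz0⟩ := hne
  have hinvz : ∀ z : Z, z⁻¹ = z := fun z => inv_eq_of_mul_eq_one_right (htwo z)
  have hcomm : ∀ (d e : D) (z : Z), d • e • z = e • d • z := fun d e z => by
    rw [smul_smul, smul_smul, hDc d e]
  -- a relation at one point holds at every point
  have hkey : ∀ d e g : D, ∀ y : Z, y ≠ 1 → d • y * e • y = g • y →
      ∀ z : Z, d • z * e • z = g • z := by
    intro d e g y hy h z
    by_cases hz : z = 1
    · simp [hz]
    obtain ⟨r, rfl⟩ := htrans y z hy hz
    rw [hcomm d r, hcomm e r, hcomm g r, ← smul_mul', h]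
  have hsq : ∀ d e g : D, (∀ z : Z, d • z * e • z = g • z) →
      ∀ z : Z, d • d • z * e • e • z = g • g • z := by
    intro d e g h z
    have h1 : g • g • z = (d • d • z * e • d • z) * (d • e • z * e • e • z) := by
      rw [h (d • z), h (e • z), ← smul_mul', h z]
    rw [h1, hcomm e d z, ← mul_assoc, mul_assoc _ (d • e • z) (d • e • z), htwo, mul_one]
  -- every `d ≠ 1` is a root of `x² + x + 1`
  have hroot : ∀ d : D, d ≠ 1 → ∀ z : Z, d • d • z = d • z * z := by
    intro d hd
    have hne1 : d • z0 * z0 ≠ 1 := fun e => hd (hfree d z0 hz0 (by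
      rw [mul_eq_one_iff_eq_inv, hinvz] at e; exact e))
    obtain ⟨g, hg⟩ := htrans z0 _ hz0 hne1
    have hg' : ∀ z : Z, d • z * z = g • z := fun z => by
      have := hkey d 1 g z0 hz0 (by rw [one_smul, hg]) z
      rwa [one_smul] at this
    have h2 := hsq d 1 g (fun z => by rw [one_smul, hg'])
    have hf0 : f z0 ≠ 1 := fun e => hz0 (hf (e.trans (map_one f).symm))
    have h4 : ∀ z : Z, d⁻¹ • z * z = g⁻¹ • z := fun z => by
      have := hkey d⁻¹ 1 g⁻¹ (f z0) hf0 (by
        rw [one_smul, ← heq g z0, ← h2 z0, map_mul, one_smul, one_smul, heq]) z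
      rwa [one_smul] at this
    intro z
    have h5 : d⁻¹ • z * d • z = z := by
      have h6 := h4 (g • z)
      rw [inv_smul_smul, ← hg' z, smul_mul', inv_smul_smul] at h6
      calc d⁻¹ • z * d • z = (z * z) * (d⁻¹ • z * d • z) := by rw [htwo, one_mul]
        _ = z * d⁻¹ • z * (d • z * z) := by ac_rfl
        _ = z := h6
    have h7 := congrArg (fun u : Z => d • u) h5
    simp only [smul_mul', smul_inv_smul] at h7
    calc d • d • z = z * (z * d • d • z) := by rw [← mul_assoc, htwo, one_mul]
      _ = d • z * z := by rw [h7, mul_comm]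
  have hall : ∀ d e : D, d ≠ 1 → e ≠ 1 → d ≠ e → e • z0 = d • z0 * z0 := by
    intro d e hd he hde
    have hne1 : d • z0 * e • z0 ≠ 1 := fun h => hde (inv_mul_eq_one.1 (hfree _ z0 hz0 (by
      rw [mul_eq_one_iff_eq_inv, hinvz] at h
      rw [mul_smul, ← h, inv_smul_smul]))).symm.symm
    obtain ⟨g, hg⟩ := htrans z0 _ hz0 hne1
    have h2 := hsq d e g (hkey d e g z0 hz0 hg.symm) z0
    rw [hroot d hd, hroot e he] at h2
    have hg1 : g = 1 := by
      refine hfree g (g • z0) ?_ ?_
      · rw [hg]; exact hne1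
      · rw [← h2, hg]
        calc d • z0 * z0 * (e • z0 * z0) = d • z0 * e • z0 * (z0 * z0) := by ac_rfl
          _ = d • z0 * e • z0 := by rw [htwo, mul_one]
    rw [hg1, one_smul] at hg
    calc e • z0 = (d • z0 * d • z0) * e • z0 := by rw [htwo, one_mul]
      _ = d • z0 * (d • z0 * e • z0) := by rw [mul_assoc]
      _ = d • z0 * z0 := by rw [← hg]
  by_cases hd : ∃ d : D, d ≠ 1
  · obtain ⟨d, hd⟩ := hd
    refine (Nat.card_le_card_of_surjective
      (![1, z0, d • z0, d • z0 * z0] : Fin 4 → Z) fun z => ?_).trans (by simp)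
    by_cases hz : z = 1
    · exact ⟨0, hz.symm⟩
    obtain ⟨e, rfl⟩ := htrans z0 z hz0 hz
    by_cases he : e = 1
    · exact ⟨1, by rw [he, one_smul]; rfl⟩
    by_cases hde : d = e
    · exact ⟨2, by rw [← hde]; rfl⟩
    exact ⟨3, (hall d e hd he hde).symm⟩
  · push Not at hd
    refine (Nat.card_le_card_of_surjective (![1, z0] : Fin 2 → Z) fun z => ?_).trans (by simp)
    by_cases hz : z = 1
    · exact ⟨0, hz.symm⟩
    obtain ⟨e, rfl⟩ := htrans z0 z hz0 hz
    exact ⟨1, by rw [hd e, one_smul]; rfl⟩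

variable {X V : Type*} [Group X] [CommGroup V] [MulDistribMulAction X V] [Finite X] [Finite V]
variable (h : FFSetting X V) {A : Subgroup X}
include h

namespace IsOffender

open Subgroup

variable (hA : IsOffender V A) {x a w : X} (hx : cj x A ≠ A) (ha : a ∈ A)
  (hw : orderOf w = 2) (hwA : cj w A = cj x A) (hwC : cj w (cj x A) = A)
  (h3 : orderOf (a * w) = 3)
include hA hx ha hw hwA hwC h3

theorem torus_comm {d e : X} (hd : d ∈ normalizer (A : Set X) ⊓ normalizer (cj x A : Set X))
    (he : e ∈ normalizer (A : Set X) ⊓ normalizer (cj x A : Set X)) : Commute d e := by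
  have hi := (hA.pair_data h hx).2 w hw hwA hwC
  have h1 := hi _ (mul_mem hd he)
  have h2 : w * (d * e) * w⁻¹ = d⁻¹ * e⁻¹ := by
    rw [← hi d hd, ← hi e he]; group
  rw [h2, ← mul_inv_rev, inv_inj] at h1
  exact h1.symm

theorem torus_swap {d : X} (hd : d ∈ normalizer (A : Set X) ⊓ normalizer (cj x A : Set X))
    (z : V) : d • w • z = w • d⁻¹ • z := by
  have hi := (hA.pair_data h hx).2 w hw hwA hwC d hd
  rw [smul_smul, smul_smul]
  congr 1
  have hww : w * w = 1 := by rw [← pow_two, ← hw, pow_orderOf_eq_one]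
  calc d * w = w⁻¹ * (w * d * w⁻¹) * (w * w) := by group
    _ = w * d⁻¹ := by rw [hi, hww, mul_one, inv_eq_of_mul_eq_one_right hww]

/-- The torus acts on `V` modulo the fixed space by the inverse character. -/
theorem dlt_torus {d : X} (hd : d ∈ normalizer (A : Set X) ⊓ normalizer (cj x A : Set X))
    (v : V) : dlt a (d • v) = d⁻¹ • dlt a v := by
  have ha1 : a ≠ 1 := by
    rintro rfl
    rw [one_mul, hw] at h3
    omega
  have hsw : ∀ z ∈ fixS (V := V) A, dlt a (w • z) = z := fun z hz => by
    rw [dlt_apply, hA.smul_swap h hx ha hw hwA h3 hz, mul_div_cancel_left]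
  set z := dlt a v with hz
  have hzA : z ∈ fixS (V := V) A := hA.dlt_mem h ha v
  set u := v / (w • z) with hu
  have huA : u ∈ fixS (V := V) A := by
    rw [← hA.fixE_eq h ha ha1, ← ker_dlt, MonoidHom.mem_ker, hu, map_div, hsw z hzA, ← hz,
      div_self']
  have hv : v = u * w • z := (div_mul_cancel v _).symm
  rw [hv, smul_mul', map_mul, hA.torus_swap h hx ha hw hwA hwC h3 hd,
    hsw _ (smul_mem_fixS (inv_mem hd.1) hzA)]
  have h1 : dlt a (d • u) = 1 := by
    rw [← MonoidHom.mem_ker, ker_dlt, hA.fixE_eq h ha ha1]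
    exact smul_mem_fixS hd.1 huA
  rw [h1, one_mul]

/-- The torus acts on the offender by the square character. -/
theorem dlt_conj_torus {d b : X} (hd : d ∈ normalizer (A : Set X) ⊓ normalizer (cj x A : Set X))
    (hb : b ∈ A) {z : V} (hz : z ∈ fixS (V := V) A) :
    dlt (d * b * d⁻¹) (w • z) = d • d • dlt b (w • z) := by
  have hconj : ∀ e ∈ normalizer (A : Set X) ⊓ normalizer (cj x A : Set X),
      ∀ y ∈ fixS (V := V) A, dlt (e * a * e⁻¹) (w • y) = e • e • y := fun e he y hy => by
    rw [dlt_apply, hA.smul_torus_conj h hx ha hw hwA hwC h3 he hy, mul_div_cancel_left]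
  by_cases hb1 : b = 1
  · subst hb1
    rw [mul_one, mul_inv_cancel, dlt_apply, one_smul, div_self', smul_one, smul_one]
  have ha1 : a ≠ 1 := by
    rintro rfl
    rw [one_mul, hw] at h3
    omega
  obtain ⟨e, he, rfl⟩ := hA.exists_torus_conj h hx ha ha1 hb hb1
  rw [hconj e he z hz, show d * (e * a * e⁻¹) * d⁻¹ = d * e * a * (d * e)⁻¹ by group,
    hconj _ (mul_mem hd he) z hz]
  simp only [smul_smul]
  congr 1
  rw [mul_assoc d e, ← mul_assoc e d, ← (hA.torus_comm h hx ha hw hwA hwC h3 hd he).eq]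
  group

end IsOffender

end CfsgLib.CIT
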