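import Cfsg.Agent.Lib.CIT.MaxAbelian
import Cfsg.Agent.Lib.CIT.Natural.Weights

/-!
# Basic facts about a natural 2-local

For a natural 2-local `V, A` of a CIT group: the automiser of `N(V)` with the image of `A` is a
quadratic offender, `R = V ⊔ A` has order `q³`, every element of `R` commutes with `Z = A ⊓ V` and
every commutator of `R` lies in `Z`.
-/

set_option autoImplicit false

namespace CfsgLib.CIT

open scoped IsMulCommutative commutatorElement

variable {G : Type*} [Group G] [Finite G] {V A : Subgroup G} {q : ℕ}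

/-- The action of the normalizer on `V`. -/
abbrev nrep (V : Subgroup G) : Subgroup.normalizer (V : Set G) →* MulAut V :=
  rep (le_refl (Subgroup.normalizer (V : Set G)))

/-- The image of `A` in the automiser of `V`. -/
abbrev nimg (V A : Subgroup G) : Subgroup (nrep V).range :=
  img (le_refl (Subgroup.normalizer (V : Set G))) A

namespace NaturalLocal

variable (h : NaturalLocal V A q)
include h

theorem isPGroup_V : IsPGroup 2 V := fun v => ⟨1, Subtype.ext (by
  rw [pow_one, pow_two]; exact h.sq_V v v.2)⟩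

theorem q_pos : 0 < q := lt_of_lt_of_le two_pos h.two_le

theorem ne_bot : V ≠ ⊥ := by
  intro e
  have := h.card_V
  rw [e, Subgroup.card_bot] at this
  have := h.two_le
  nlinarith

theorem exists_two_pow : ∃ n : ℕ, q = 2 ^ n := by
  haveI : Fact (Nat.Prime 2) := ⟨Nat.prime_two⟩
  obtain ⟨n, hn⟩ := IsPGroup.iff_card.1 h.isPGroup_V
  obtain ⟨k, -, hk⟩ := (Nat.dvd_prime_pow Nat.prime_two).1
    ((dvd_pow_self q two_ne_zero).trans (dvd_of_eq (h.card_V.symm.trans hn)))
  exact ⟨k, hk⟩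

theorem isPGroup_A : IsPGroup 2 A := by
  haveI : Fact (Nat.Prime 2) := ⟨Nat.prime_two⟩
  obtain ⟨n, hn⟩ := h.exists_two_pow
  exact IsPGroup.of_card (n := n * 2) (by rw [h.card_A, hn, pow_mul])

theorem comm_mem {a b : G} (ha : a ∈ A) (hb : b ∈ A) : a * b = b * a :=
  LocEven.commute_of_comm h.comm_A ha hb

theorem comm_mem_V {a b : G} (ha : a ∈ V) (hb : b ∈ V) : a * b = b * a :=
  LocEven.commute_of_comm h.comm_V ha hb

theorem mem_V_of_commute {g : G} (hg : ∀ v ∈ V, Commute g v) : g ∈ V :=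
  h.centralizer_eq.le fun v hv => (hg v hv).eq.symm

theorem not_le : ¬ A ≤ V := fun hle => by
  have := h.card_inf
  rw [inf_eq_left.2 hle, h.card_A, pow_two] at this
  nlinarith [h.two_le]

theorem setting (hC : IsCIT G) [IsMulCommutative V] : FFSetting (nrep V).range V := by
  refine CIT.setting _ hC h.ne_bot h.sq_V ?_ fun P hP hP2 hPn =>
    ((le_pCoreOf_two hP hP2 hPn).trans h.core_eq.le).trans (LocEven.le_centralizer_self h.comm_V)
  exact h.isPGroup_V.to_le (inf_le_right.trans h.centralizer_eq.le)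

theorem card_inf_fix : Nat.card ↥(A ⊓ V) ≤ Nat.card ↥(V ⊓ Subgroup.centralizer (A : Set G)) :=
  Subgroup.card_le_of_le (le_inf inf_le_right
    (inf_le_left.trans (LocEven.le_centralizer_self h.comm_A)))

/-- Commutators of `A` with `V` commute with `A`. -/
theorem quadratic (hC : IsCIT G) [IsMulCommutative V] :
    ∀ a ∈ A, ∀ b ∈ A, ∀ v ∈ V, Commute b (a * v * a⁻¹ * v⁻¹) := by
  intro a ha b hb v hv
  suffices a * v * a⁻¹ * v⁻¹ ∈ A ⊓ V from h.comm_mem hb this.1
  by_cases haV : a ∈ V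
  · rw [h.comm_mem_V haV hv, mul_inv_cancel_right, mul_inv_cancel]
    exact one_mem _
  -- an element of `A` outside `V` acts as an involution with fixed space `A ∩ V`
  have hset := h.setting hC
  set ab := (nrep V).rangeRestrict ⟨a, h.le_normalizer ha⟩ with hab
  have hab1 : ab ≠ 1 := fun e => haV (h.centralizer_eq.le
    ((rep_eq_one_iff _ _).1 (congrArg Subtype.val e)))
  have hfix : (A ⊓ V).subgroupOf V ≤ fixE (V := V) ab := fun u hu =>
    mem_fixE.2 ((smul_eq_iff _ _ u).2 (h.comm_mem ha hu.1))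
  haveI : Fact (Nat.Prime 2) := ⟨Nat.prime_two⟩
  obtain ⟨k, hk⟩ := h.isPGroup_A ⟨a, ha⟩
  have h1 : ab ^ 2 ^ k = 1 := by
    rw [hab, ← map_pow, show (⟨a, h.le_normalizer ha⟩ : Subgroup.normalizer (V : Set G)) ^ 2 ^ k
      = 1 from Subtype.ext (by simpa using congrArg Subtype.val hk), map_one]
  have h2 : 2 ∣ orderOf ab := by
    obtain ⟨j, -, hj⟩ := (Nat.dvd_prime_pow Nat.prime_two).1 (orderOf_dvd_of_pow_eq_one h1)
    rw [hj]
    refine dvd_pow_self 2 ?_
    rintro rfl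
    exact hab1 (orderOf_eq_one_iff.1 (by rw [hj, pow_zero]))
  set t := ab ^ (orderOf ab / 2) with htdef
  have ht : orderOf t = 2 := orderOf_pow_orderOf_div (orderOf_pos ab).ne' h2
  have hcom : Commute t ab := (Commute.refl ab).pow_left _
  have hpow : ∀ u : V, ab • u = u → t • u = u := fun u hu => by
    rw [htdef]
    generalize orderOf ab / 2 = n
    induction n with
    | zero => rw [pow_zero, one_smul]
    | succ n ih => rw [pow_succ, mul_smul, hu, ih]
  -- the fixed space of `t` is `A ∩ V`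
  have htZ : (A ⊓ V).subgroupOf V = fixE (V := V) t := by
    refine Subgroup.eq_of_le_of_card_ge (fun u hu => mem_fixE.2 (hpow u (hfix hu))) ?_
    rw [Nat.card_congr (Subgroup.subgroupOfEquivOfLe inf_le_right).toEquiv, h.card_inf]
    exact le_of_eq (Nat.pow_left_injective (by norm_num : (2 : ℕ) ≠ 0)
      ((hset.invol_data ht).1.trans h.card_V))
  have hdl : dlt t (dlt ab (⟨v, hv⟩ : V)) = 1 := by
    have hZ : dlt t (⟨v, hv⟩ : V) ∈ fixE (V := V) t := by
      rw [← (hset.invol_data ht).2]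
      exact ⟨_, rfl⟩
    have hab' : ab • dlt t (⟨v, hv⟩ : V) = dlt t ⟨v, hv⟩ := mem_fixE.1 (hfix (htZ ▸ hZ))
    rw [dlt_apply ab, map_div]
    conv_lhs => arg 1; rw [dlt_apply t, smul_smul, hcom.eq, ← smul_smul, ← smul_div', ← dlt_apply t]
    rw [hab', div_self']
  have hmem : dlt ab (⟨v, hv⟩ : V) ∈ (A ⊓ V).subgroupOf V := by
    rw [htZ, ← ker_dlt]
    exact hdl
  rw [Subgroup.mem_subgroupOf, hab, coe_dlt] at hmem
  exact hmem

theorem isOffender (hC : IsCIT G) [IsMulCommutative V] : IsOffender V (nimg V A) := by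
  refine isOffender_img _ h.le_normalizer h.isPGroup_A (fun a ha b hb => h.comm_mem ha hb)
    (fun hle => h.not_le (hle.trans h.centralizer_eq.le)) (h.quadratic hC) ?_
  rw [h.centralizer_eq, h.card_V, h.card_A, h.card_inf]
  exact Nat.mul_le_mul_left _ (h.card_inf ▸ h.card_inf_fix)

theorem card_fixS (hC : IsCIT G) [IsMulCommutative V] :
    Nat.card (fixS (V := V) (nimg V A)) = q :=
  Nat.pow_left_injective (by norm_num : (2 : ℕ) ≠ 0)
    (((h.isOffender hC).card_V (h.setting hC)).trans h.card_V)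

theorem card_nimg (hC : IsCIT G) [IsMulCommutative V] : Nat.card (nimg V A) = q :=
  ((h.isOffender hC).card_eq (h.setting hC)).trans (h.card_fixS hC)

theorem inf_centralizer (hC : IsCIT G) :
    V ⊓ Subgroup.centralizer (A : Set G) = A ⊓ V := by
  haveI := h.comm_V
  refine (Subgroup.eq_of_le_of_card_ge (le_inf inf_le_right
    (inf_le_left.trans (LocEven.le_centralizer_self h.comm_A))) ?_).symm
  rw [← card_fix_img (le_refl _) h.le_normalizer, h.card_fixS hC, h.card_inf]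

theorem mem_fixS_iff (hC : IsCIT G) [IsMulCommutative V] (v : V) :
    v ∈ fixS (V := V) (nimg V A) ↔ (v : G) ∈ A := by
  constructor
  · intro hv
    refine ((h.inf_centralizer hC).le ⟨v.2, fun a ha => ?_⟩).1
    exact (smul_eq_iff _ _ v).1 (mem_fixS.1 hv _ ((mem_img _ h.le_normalizer).2 ⟨a, ha, rfl⟩))
  · intro hv
    rw [mem_fixS]
    intro x hx
    obtain ⟨a, ha, rfl⟩ := (mem_img _ h.le_normalizer).1 hx
    exact (smul_eq_iff _ _ v).2 (h.comm_mem ha hv)

theorem exists_mul_eq {r : G} (hr : r ∈ V ⊔ A) : ∃ v ∈ V, ∃ a ∈ A, v * a = r := by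
  rw [← SetLike.mem_coe, Subgroup.coe_mul_of_right_le_normalizer_left _ _ h.le_normalizer] at hr
  exact hr

theorem sup_le_normalizer : V ⊔ A ≤ Subgroup.normalizer (V : Set G) :=
  sup_le Subgroup.le_normalizer h.le_normalizer

theorem isPGroup_sup : IsPGroup 2 ↥(V ⊔ A) :=
  h.isPGroup_V.to_sup_of_normal_left' h.isPGroup_A h.le_normalizer

theorem card_sup : Nat.card ↥(V ⊔ A) = q ^ 3 := by
  refine le_antisymm (h.card_sylow _ h.sup_le_normalizer h.isPGroup_sup) ?_
  refine Nat.le_of_mul_le_mul_right ?_ h.q_pos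
  calc q ^ 3 * q = Nat.card V * Nat.card A := by rw [h.card_V, h.card_A]; ring
    _ ≤ Nat.card ↥(V ⊔ A) * Nat.card ↥(V ⊓ A) := CfsgLib.PLocal.card_mul_card_le_sup_inf _ _
    _ = _ := by rw [inf_comm, h.card_inf]

theorem commute_inf {r z : G} (hr : r ∈ V ⊔ A) (hz : z ∈ A ⊓ V) : Commute r z := by
  obtain ⟨v, hv, a, ha, rfl⟩ := h.exists_mul_eq hr
  exact Commute.mul_left (h.comm_mem_V hv hz.2) (h.comm_mem ha hz.1)

theorem sup_eq_centralizer_inf (hC : IsCIT G) : (V ⊔ A) ⊓ Subgroup.centralizer (A : Set G) = A := by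
  refine le_antisymm (fun r hr => ?_) (le_inf le_sup_right (LocEven.le_centralizer_self h.comm_A))
  obtain ⟨v, hv, a, ha, rfl⟩ := h.exists_mul_eq hr.1
  have h1 : v ∈ Subgroup.centralizer (A : Set G) :=
    (Subgroup.centralizer (A : Set G)).mul_mem_cancel_right
      (LocEven.le_centralizer_self h.comm_A ha) |>.1 hr.2
  exact mul_mem ((h.inf_centralizer hC).le ⟨hv, h1⟩).1 ha

theorem mem_img_iff {n : Subgroup.normalizer (V : Set G)} :
    (nrep V).rangeRestrict n ∈ nimg V A ↔ (n : G) ∈ V ⊔ A := by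
  rw [mem_img _ h.le_normalizer]
  constructor
  · rintro ⟨a, ha, he⟩
    have h1 : (nrep V).rangeRestrict (n * ⟨a, h.le_normalizer ha⟩⁻¹) = 1 := by
      rw [map_mul, map_inv, he, mul_inv_cancel]
    have h2 := h.centralizer_eq.le ((rep_eq_one_iff _ _).1 (congrArg Subtype.val h1))
    have : (n : G) = (n * a⁻¹) * a := by group
    rw [this]
    exact mul_mem (Subgroup.mem_sup_left h2) (Subgroup.mem_sup_right ha)
  · intro hn
    obtain ⟨v, hv, a, ha, e⟩ := h.exists_mul_eq hn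
    refine ⟨a, ha, ?_⟩
    have h1 : (nrep V).rangeRestrict (⟨v, Subgroup.le_normalizer hv⟩) = 1 :=
      Subtype.ext ((rep_eq_one_iff _ _).2 (LocEven.le_centralizer_self h.comm_V hv))
    rw [show n = ⟨v, Subgroup.le_normalizer hv⟩ * ⟨a, h.le_normalizer ha⟩ from Subtype.ext e.symm,
      map_mul, h1, one_mul]

theorem mul_comm_mem (hC : IsCIT G) {v a : G} (hv : v ∈ V) (ha : a ∈ A) :
    a * v * a⁻¹ * v⁻¹ ∈ A ⊓ V := by
  haveI := h.comm_V
  have hab : (nrep V).rangeRestrict ⟨a, h.le_normalizer ha⟩ ∈ nimg V A :=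
    (mem_img _ h.le_normalizer).2 ⟨a, ha, rfl⟩
  have h1 := (h.isOffender hC).dlt_mem (h.setting hC) hab (⟨v, hv⟩ : V)
  rw [h.mem_fixS_iff hC, coe_dlt] at h1
  refine ⟨h1, (?_ : a * v * a⁻¹ * v⁻¹ ∈ V)⟩
  exact mul_mem ((Subgroup.mem_normalizer_iff.1 (h.le_normalizer ha) v).1 hv) (inv_mem hv)

theorem commutator_mem (hC : IsCIT G) {r s : G} (hr : r ∈ V ⊔ A) (hs : s ∈ V ⊔ A) :
    ⁅r, s⁆ ∈ A ⊓ V := by
  obtain ⟨v, hv, a, ha, rfl⟩ := h.exists_mul_eq hr
  obtain ⟨u, hu, b, hb, rfl⟩ := h.exists_mul_eq hs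
  have e1 := h.mul_comm_mem hC hu ha
  have e2 := h.mul_comm_mem hC hv hb
  have : ⁅v * a, u * b⁆ = (a * u * a⁻¹ * u⁻¹) * (b * v * b⁻¹ * v⁻¹)⁻¹ := by
    rw [commutatorElement_def]
    calc v * a * (u * b) * (v * a)⁻¹ * (u * b)⁻¹
        = v * (a * u * a⁻¹ * u⁻¹) * u * (a * b * a⁻¹ * b⁻¹) * (b * v⁻¹ * b⁻¹) * u⁻¹ := by group
      _ = v * (a * u * a⁻¹ * u⁻¹) * u * (b * v⁻¹ * b⁻¹) * u⁻¹ := by
          rw [h.comm_mem ha hb, mul_inv_cancel_right, mul_inv_cancel, mul_one]
      _ = (a * u * a⁻¹ * u⁻¹) * (v * (b * v⁻¹ * b⁻¹)) := by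
          have hbv : b * v⁻¹ * b⁻¹ ∈ V :=
            (Subgroup.mem_normalizer_iff.1 (h.le_normalizer hb) _).1 (inv_mem hv)
          rw [mul_assoc (v * _) u, h.comm_mem_V hu hbv, h.comm_mem_V hv e1.2]
          group
      _ = _ := by group
  rw [this]
  exact mul_mem e1 (inv_mem e2)

theorem sup_le_normalizer_of_inf_le (hC : IsCIT G) {H : Subgroup G} (hH : A ⊓ V ≤ H)
    (hHR : H ≤ V ⊔ A) : V ⊔ A ≤ Subgroup.normalizer (H : Set G) := fun r hr => by
  refine Subgroup.mem_normalizer_fintype fun x hx => ?_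
  have : r * x * r⁻¹ = ⁅r, x⁆ * x := by rw [commutatorElement_def]; group
  rw [this]
  exact mul_mem (hH (h.commutator_mem hC hr (hHR hx))) hx

/-- With `A` elementary the involutions of `R` lie in `V ∪ A`. -/
theorem mem_or_mem_of_sq (hC : IsCIT G) (hA : ∀ a ∈ A, a * a = 1) {r : G} (hr : r ∈ V ⊔ A)
    (h2 : r * r = 1) : r ∈ V ∨ r ∈ A := by
  obtain ⟨v, hv, a, ha, rfl⟩ := h.exists_mul_eq hr
  have hav : Commute v a := by
    have h3 : v * a = a⁻¹ * v⁻¹ := by rw [← mul_inv_rev]; exact eq_inv_of_mul_eq_one_left h2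
    rw [inv_eq_of_mul_eq_one_right (hA a ha), inv_eq_of_mul_eq_one_right (h.sq_V v hv)] at h3
    exact h3
  by_cases haV : a ∈ V
  · exact Or.inl (mul_mem hv haV)
  haveI := h.comm_V
  refine Or.inr (mul_mem ((h.mem_fixS_iff hC ⟨v, hv⟩).1 ?_) ha)
  rw [← (h.isOffender hC).fixE_eq (h.setting hC)
    ((mem_img _ h.le_normalizer).2 ⟨a, ha, rfl⟩) fun e => haV (h.centralizer_eq.le
      ((rep_eq_one_iff _ _).1 (congrArg Subtype.val e)))]
  exact mem_fixE.2 ((smul_eq_iff _ _ _).2 hav.symm)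

/-- With `A` elementary a subgroup of exponent two and order `q²` of `R` is `V` or `A`. -/
theorem eq_or_eq (hC : IsCIT G) (hA : ∀ a ∈ A, a * a = 1) {H : Subgroup G} (hH : H ≤ V ⊔ A)
    (hH2 : ∀ x ∈ H, x * x = 1) (hcard : Nat.card H = q ^ 2) : H = V ∨ H = A := by
  by_cases hV : H ≤ V
  · exact Or.inl (Subgroup.eq_of_le_of_card_ge hV (by rw [h.card_V, hcard]))
  obtain ⟨x, hx, hxV⟩ := SetLike.not_le_iff_exists.1 hV
  have hxA := (h.mem_or_mem_of_sq hC hA (hH hx) (hH2 x hx)).resolve_left hxV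
  refine Or.inr (Subgroup.eq_of_le_of_card_ge (fun y hy => ?_) (by rw [h.card_A, hcard]))
  rcases h.mem_or_mem_of_sq hC hA (hH hy) (hH2 y hy) with hyV | hyA
  · rcases h.mem_or_mem_of_sq hC hA (hH (mul_mem hx hy)) (hH2 _ (mul_mem hx hy)) with h1 | h1
    · exact absurd ((V.mul_mem_cancel_right hyV).1 h1) hxV
    · exact (A.mul_mem_cancel_left hxA).1 h1
  · exact hyA

end NaturalLocal

end CfsgLib.CIT
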