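import Mathlib.LinearAlgebra.Matrix.SpecialLinearGroup
import Mathlib.Algebra.CharP.Two
import Mathlib.FieldTheory.Finite.Basic
import Mathlib.RingTheory.Congruence.Defs
import Mathlib.Tactic.NoncommRing
import Mathlib.Tactic.FinCases
import Mathlib.Tactic.LinearCombination
import Mathlib.Tactic.Abel

/-!
# Representations of `SL₂(F)` in characteristic two with fixed point free elements of order three

A representation of `SL₂(F)`, `F` finite of characteristic two, by `2 × 2` matrices over a ring in which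
`2` is nilpotent, normalised on `u 1` and `l 1`, in which `g² + g + 1 = 0` for the elements `g` of order
three, is given by a ring homomorphism of `F` into the ring; in particular the ring has characteristic two.
-/

set_option autoImplicit false

namespace CfsgLib.CIT.Natural

open Matrix

variable {F : Type*} [Field F]

abbrev SL2 (F : Type*) [Field F] := SpecialLinearGroup (Fin 2) F

/-- The upper transvection. -/
def up (c : F) : SL2 F := ⟨!![1, c; 0, 1], by simp [Matrix.det_fin_two_of]⟩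

/-- The lower transvection. -/
def low (c : F) : SL2 F := ⟨!![1, 0; c, 1], by simp [Matrix.det_fin_two_of]⟩

theorem coe_up (c : F) : (up c).1 = !![1, c; 0, 1] := rfl

theorem coe_low (c : F) : (low c).1 = !![1, 0; c, 1] := rfl

theorem up_add (c d : F) : up (c + d) = up c * up d := by
  apply Subtype.ext
  simp [coe_up, add_comm]

theorem up_zero : up (0 : F) = 1 := by
  apply Subtype.ext
  simp [coe_up, Matrix.one_fin_two]

variable [CharP F 2]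

theorem up_mul_self (c : F) : up c * up c = 1 := by
  rw [← up_add, CharTwo.add_self_eq_zero, up_zero]

/-- The Weyl element. -/
def wyl : SL2 F := up 1 * low 1 * up 1

theorem coe_wyl : (wyl : SL2 F).1 = !![0, 1; 1, 0] := by
  simp [wyl, coe_up, coe_low, CharTwo.add_self_eq_zero]

theorem wyl_conj (c : F) : wyl * up c * wyl = low c := by
  apply Subtype.ext
  simp [coe_up, coe_low, coe_wyl]

/-- The element `u(c) l(c⁻¹) u(c)`. -/
def wc (c : F) : SL2 F := up c * low c⁻¹ * up c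

theorem coe_wc {c : F} (hc : c ≠ 0) : (wc c).1 = !![0, c; c⁻¹, 0] := by
  simp [wc, coe_up, coe_low, hc, CharTwo.add_self_eq_zero]

/-- The torus element. -/
def hc (c : F) : SL2 F := wc c * wyl

theorem coe_hc {c : F} (h : c ≠ 0) : (hc c).1 = !![c, 0; 0, c⁻¹] := by
  simp [hc, coe_wc h, coe_wyl]

theorem hc_mul {c d : F} (h : c ≠ 0) (h' : d ≠ 0) : hc c * hc d = hc (c * d) := by
  apply Subtype.ext
  simp [coe_hc h, coe_hc h', coe_hc (mul_ne_zero h h'), mul_comm]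

theorem hc_up {c : F} (h : c ≠ 0) : hc c * up 1 = up (c * c) * hc c := by
  apply Subtype.ext
  simp [coe_hc h, coe_up, mul_assoc, h]

theorem three_elt {c : F} (hc : c ≠ 0) :
    (up c * low c⁻¹ : SL2 F) ≠ 1 ∧ (up c * low c⁻¹) ^ 3 = 1 ∧
      (up c * low c⁻¹) ^ 2 = low c⁻¹ * up c := by
  have h1 : (up c * low c⁻¹ : SL2 F).1 = !![0, c; c⁻¹, 1] := by
    simp [coe_up, coe_low, hc, CharTwo.add_self_eq_zero]
  have h2 : (low c⁻¹ * up c : SL2 F).1 = !![1, c; c⁻¹, 0] := by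
    simp [coe_up, coe_low, hc, CharTwo.add_self_eq_zero]
  have hsq : (up c * low c⁻¹) ^ 2 = low c⁻¹ * up c := by
    apply Subtype.ext
    rw [pow_two, SpecialLinearGroup.coe_mul, h1, h2]
    simp [hc]
  refine ⟨fun h => ?_, ?_, hsq⟩
  · have := congrFun (congrFun (congrArg Subtype.val h) 0) 1
    rw [h1] at this
    simp [hc] at this
  · rw [pow_succ, hsq]
    apply Subtype.ext
    rw [SpecialLinearGroup.coe_mul, h1, h2]
    simp [hc, Matrix.one_fin_two]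
    exact CharTwo.add_self_eq_zero _

variable {S : Type*} [Ring S]

/-- The hypotheses on a representation. -/
structure Hyp (ρ : SL2 F →* Matrix (Fin 2) (Fin 2) S) : Prop where
  t_eq : ρ (up 1) = !![1, 1; 0, -1]
  s_eq : ρ (low 1) = !![-1, 0; 1, 1]
  three : ∀ g : SL2 F, g ≠ 1 → g ^ 3 = 1 → ρ (g ^ 2) + ρ g + 1 = 0

variable (ρ : SL2 F →* Matrix (Fin 2) (Fin 2) S)

/-- Diagonal entry. -/
def pp (c : F) : S := ρ (up c) 0 0

/-- Off diagonal entry. -/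
def rr (c : F) : S := ρ (up c) 0 1

/-- The other diagonal entry. -/
def qq (c : F) : S := pp ρ c - 2 * rr ρ c

variable {ρ}

theorem Hyp.wyl_eq (H : Hyp ρ) : ρ wyl = !![0, -1; -1, 0] := by
  rw [wyl, map_mul, map_mul, H.t_eq, H.s_eq]
  simp

theorem Hyp.up_eq (H : Hyp ρ) (c : F) : ρ (up c) = !![pp ρ c, rr ρ c; 0, qq ρ c] := by
  have h : ρ (up c) * ρ (up 1) = ρ (up 1) * ρ (up c) := by
    rw [← map_mul, ← map_mul, ← up_add, ← up_add, add_comm]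
  rw [H.t_eq] at h
  have h1 := congrFun (congrFun h 0) 0
  have h2 := congrFun (congrFun h 0) 1
  simp [Matrix.mul_apply, Fin.sum_univ_two] at h1 h2
  ext i j
  fin_cases i <;> fin_cases j <;> simp [pp, rr, qq, h1]
  rw [two_mul, ← sub_sub]
  have : ρ (up c) 1 1 = ρ (up c) 0 0 + -ρ (up c) 0 1 - ρ (up c) 0 1 := by rw [h2]; abel
  rw [this]; abel

theorem Hyp.low_eq (H : Hyp ρ) (c : F) : ρ (low c) = !![qq ρ c, 0; rr ρ c, pp ρ c] := by
  rw [← wyl_conj, map_mul, map_mul, H.wyl_eq, H.up_eq]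
  simp

theorem Hyp.rel_sq (H : Hyp ρ) (c : F) :
    pp ρ c * pp ρ c = 1 ∧ qq ρ c * qq ρ c = 1 ∧ pp ρ c * rr ρ c + rr ρ c * qq ρ c = 0 := by
  have h : ρ (up c) * ρ (up c) = 1 := by rw [← map_mul, up_mul_self, map_one]
  rw [H.up_eq, Matrix.one_fin_two] at h
  simp [← Matrix.ext_iff, Fin.forall_fin_two] at h
  exact ⟨h.1.1, h.2, h.1.2⟩

theorem Hyp.rel_three (H : Hyp ρ) {c : F} (hc : c ≠ 0) :
    pp ρ c * qq ρ c⁻¹ + rr ρ c * rr ρ c⁻¹ + qq ρ c⁻¹ * pp ρ c = -1 ∧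
    rr ρ c * pp ρ c⁻¹ + qq ρ c⁻¹ * rr ρ c = 0 ∧
    qq ρ c * rr ρ c⁻¹ + rr ρ c⁻¹ * pp ρ c = 0 ∧
    qq ρ c * pp ρ c⁻¹ + rr ρ c⁻¹ * rr ρ c + pp ρ c⁻¹ * qq ρ c = -1 := by
  obtain ⟨hne, h3, h2⟩ := three_elt hc
  have h := H.three _ hne h3
  rw [h2, map_mul, map_mul, H.up_eq, H.low_eq, Matrix.one_fin_two] at h
  simp [← Matrix.ext_iff, Fin.forall_fin_two] at h
  obtain ⟨⟨a, b⟩, ⟨d, e⟩⟩ := h
  refine ⟨eq_neg_of_add_eq_zero_left ?_, ?_, ?_, eq_neg_of_add_eq_zero_left ?_⟩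
  · rw [← a]; abel
  · rw [← b]; abel
  · rw [← d]; abel
  · rw [← e]; abel

/-- Upper corner of the torus element. -/
def dd (ρ : SL2 F →* Matrix (Fin 2) (Fin 2) S) (c : F) : S := pp ρ c + qq ρ c⁻¹

/-- Lower corner of the torus element. -/
def dd' (ρ : SL2 F →* Matrix (Fin 2) (Fin 2) S) (c : F) : S := qq ρ c + pp ρ c⁻¹

theorem Hyp.wc_eq (H : Hyp ρ) {c : F} (hc : c ≠ 0) :
    ρ (wc c) = !![-(dd ρ c), -(rr ρ c); -(rr ρ c⁻¹), -(dd' ρ c)] := by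
  obtain ⟨a, b, d, e⟩ := H.rel_three hc
  obtain ⟨s1, s2, s3⟩ := H.rel_sq c
  have a' : pp ρ c * qq ρ c⁻¹ + rr ρ c * rr ρ c⁻¹ = -1 - qq ρ c⁻¹ * pp ρ c := by
    rw [← a]; abel
  have b' : rr ρ c * pp ρ c⁻¹ = -(qq ρ c⁻¹ * rr ρ c) := eq_neg_of_add_eq_zero_left b
  have d' : qq ρ c * rr ρ c⁻¹ = -(rr ρ c⁻¹ * pp ρ c) := eq_neg_of_add_eq_zero_left d
  have e' : rr ρ c⁻¹ * rr ρ c = -1 - qq ρ c * pp ρ c⁻¹ - pp ρ c⁻¹ * qq ρ c := by
    rw [← e]; abel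
  rw [wc, map_mul, map_mul, H.up_eq, H.low_eq]
  ext i j
  fin_cases i <;> fin_cases j <;> simp [dd, dd']
  · calc (pp ρ c * qq ρ c⁻¹ + rr ρ c * rr ρ c⁻¹) * pp ρ c
        = (-1 - qq ρ c⁻¹ * pp ρ c) * pp ρ c := by rw [a']
      _ = -pp ρ c - qq ρ c⁻¹ * (pp ρ c * pp ρ c) := by noncomm_ring
      _ = -qq ρ c⁻¹ + -pp ρ c := by rw [s1]; noncomm_ring
  · calc (pp ρ c * qq ρ c⁻¹ + rr ρ c * rr ρ c⁻¹) * rr ρ c + rr ρ c * pp ρ c⁻¹ * qq ρ c
        = (-1 - qq ρ c⁻¹ * pp ρ c) * rr ρ c + -(qq ρ c⁻¹ * rr ρ c) * qq ρ c := by rw [a', b']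
      _ = -rr ρ c - qq ρ c⁻¹ * (pp ρ c * rr ρ c + rr ρ c * qq ρ c) := by noncomm_ring
      _ = -rr ρ c := by rw [s3]; noncomm_ring
  · calc qq ρ c * rr ρ c⁻¹ * pp ρ c = -(rr ρ c⁻¹ * pp ρ c) * pp ρ c := by rw [d']
      _ = -(rr ρ c⁻¹ * (pp ρ c * pp ρ c)) := by noncomm_ring
      _ = -rr ρ c⁻¹ := by rw [s1, mul_one]
  · calc qq ρ c * rr ρ c⁻¹ * rr ρ c + qq ρ c * pp ρ c⁻¹ * qq ρ c
        = qq ρ c * (rr ρ c⁻¹ * rr ρ c) + qq ρ c * pp ρ c⁻¹ * qq ρ c := by noncomm_ring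
      _ = qq ρ c * (-1 - qq ρ c * pp ρ c⁻¹ - pp ρ c⁻¹ * qq ρ c) + qq ρ c * pp ρ c⁻¹ * qq ρ c := by
        rw [e']
      _ = -qq ρ c - (qq ρ c * qq ρ c) * pp ρ c⁻¹ := by noncomm_ring
      _ = -pp ρ c⁻¹ + -qq ρ c := by rw [s2]; noncomm_ring

theorem Hyp.hc_eq (H : Hyp ρ) {c : F} (h : c ≠ 0) :
    ρ (hc c) = !![rr ρ c, dd ρ c; dd' ρ c, rr ρ c⁻¹] := by
  rw [Natural.hc, map_mul, H.wc_eq h, H.wyl_eq]
  simp

theorem Hyp.rr_mul_inv (H : Hyp ρ) {c : F} (h : c ≠ 0) :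
    rr ρ c * rr ρ c⁻¹ = 1 - dd ρ c * dd ρ c := by
  have e : hc c * hc c⁻¹ = (1 : SL2 F) := by
    rw [hc_mul h (inv_ne_zero h), mul_inv_cancel₀ h]
    apply Subtype.ext
    rw [coe_hc one_ne_zero]
    simp [Matrix.one_fin_two]
  have h0 : ρ (hc c) * ρ (hc c⁻¹) = 1 := by rw [← map_mul, e, map_one]
  rw [H.hc_eq h, H.hc_eq (inv_ne_zero h), Matrix.one_fin_two] at h0
  have h1 := congrFun (congrFun h0 0) 0
  simp [dd, dd'] at h1 ⊢
  rw [← h1]
  noncomm_ring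

theorem Hyp.rr_sq_mul (H : Hyp ρ) {c : F} (h : c ≠ 0) :
    rr ρ (c * c) * rr ρ c⁻¹ = rr ρ c - (1 + pp ρ (c * c)) * dd ρ c ∧
      dd' ρ c = (1 + qq ρ (c * c)) * rr ρ c⁻¹ := by
  have h0 : ρ (hc c) * ρ (up 1) = ρ (up (c * c)) * ρ (hc c) := by
    rw [← map_mul, ← map_mul, hc_up h]
  rw [H.hc_eq h, H.t_eq, H.up_eq] at h0
  have h1 := congrFun (congrFun h0 0) 1
  have h2 := congrFun (congrFun h0 1) 1
  simp at h1 h2
  constructor
  · have : rr ρ (c * c) * rr ρ c⁻¹ = rr ρ c + -dd ρ c - pp ρ (c * c) * dd ρ c := by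
      rw [h1]; abel
    rw [this]; noncomm_ring
  · rw [add_mul, one_mul, ← h2]; abel

/-- The second stage: under two vanishing conditions all diagonal entries are one and `2 = 0`. -/
theorem Hyp.core [Finite F] (H : Hyp ρ) (hd : ∀ c : F, c ≠ 0 → dd ρ c * dd ρ c = 0)
    (hpd : ∀ c : F, c ≠ 0 → (1 + pp ρ (c * c)) * dd ρ c = 0) :
    (∀ c, pp ρ c = 1) ∧ (∀ c : F, c ≠ 0 → rr ρ c * rr ρ c⁻¹ = 1) := by
  have hinv : ∀ c : F, c ≠ 0 → rr ρ c * rr ρ c⁻¹ = 1 := fun c hc => by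
    rw [H.rr_mul_inv hc, hd c hc, sub_zero]
  have hsq : ∀ c : F, c ≠ 0 → rr ρ (c * c) = rr ρ c * rr ρ c := by
    intro c hc
    have h1 := (H.rr_sq_mul hc).1
    rw [hpd c hc, sub_zero] at h1
    have h2 := hinv c⁻¹ (inv_ne_zero hc)
    rw [inv_inv] at h2
    calc rr ρ (c * c) = rr ρ (c * c) * (rr ρ c⁻¹ * rr ρ c) := by rw [h2, mul_one]
      _ = rr ρ (c * c) * rr ρ c⁻¹ * rr ρ c := by rw [mul_assoc]
      _ = rr ρ c * rr ρ c := by rw [h1]
  have hadd : ∀ c : F, pp ρ (c + 1) = pp ρ c ∧ rr ρ (c + 1) = pp ρ c - rr ρ c := by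
    intro c
    have e : ρ (up (c + 1)) = ρ (up c) * ρ (up 1) := by rw [← map_mul, up_add]
    rw [H.up_eq, H.t_eq, H.up_eq] at e
    simp [← Matrix.ext_iff, Fin.forall_fin_two] at e
    exact ⟨e.1.1, by rw [e.1.2]; abel⟩
  have hp1 : pp ρ (1 : F) = 1 := by simp [pp, H.t_eq]
  have hkey : ∀ c : F, pp ρ (c * c) = 1 := by
    intro c
    rcases eq_or_ne c 0 with rfl | hc0
    · simp [pp, up_zero]
    rcases eq_or_ne c 1 with rfl | hc1
    · simp [hp1]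
    have hc1' : c + 1 ≠ 0 := fun h => hc1 (CharTwo.add_eq_zero.1 h)
    have e1 := hsq (c + 1) hc1'
    have e2 : (c + 1) * (c + 1) = c * c + 1 := by
      linear_combination c * CharTwo.two_eq_zero (R := F)
    rw [e2, (hadd (c * c)).2, hsq c hc0, (hadd c).2] at e1
    obtain ⟨s1, -, s3⟩ := H.rel_sq c
    have key : (pp ρ c - rr ρ c) * (pp ρ c - rr ρ c) = 1 - rr ρ c * rr ρ c := by
      calc (pp ρ c - rr ρ c) * (pp ρ c - rr ρ c)
          = pp ρ c * pp ρ c - (pp ρ c * rr ρ c + rr ρ c * qq ρ c) - rr ρ c * rr ρ c := by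
            simp only [qq]; noncomm_ring
        _ = 1 - rr ρ c * rr ρ c := by rw [s1, s3, sub_zero]
    rw [key] at e1
    exact sub_left_inj.1 e1
  refine ⟨fun c => ?_, hinv⟩
  obtain ⟨d, rfl⟩ := FiniteField.isSquare_of_char_two (ringChar.eq F 2) c
  exact hkey d

end CfsgLib.CIT.Natural
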